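import Mathlib
import Cfsg.Prelude.Def_FusionSystem
import Cfsg.Agent.Lib.Helper8.FusionMisc
import Cfsg.Agent.Lib.Helper8.FusionAut

set_option autoImplicit false

namespace Cfsg.Agent.Lib.Helper8

open Cfsg Cfsg.FusionSystem

/-- a `p`-power order automorphism acts trivially on a chief factor of order `p` -/
theorem stab_step8 {H : Type*} [Group H] [Finite H] (p : ℕ) [hp : Fact p.Prime]
    (N C : Subgroup H) (hNC : N ≤ C) (hnorm : ∀ c ∈ C, ∀ n ∈ N, c * n * c⁻¹ ∈ N)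
    (hcard : Nat.card C = p * Nat.card N) (β : MulAut H) (hβC : ∀ y ∈ C, β y ∈ C)
    (hβN : ∀ y ∈ N, β y ∈ N) (k : ℕ) (hβ : β ^ (p ^ k) = 1) :
    ∀ x ∈ C, x⁻¹ * β x ∈ N := by
  haveI hN' : (N.subgroupOf C).Normal := by
    refine ⟨fun n hn c => ?_⟩
    rw [Subgroup.mem_subgroupOf] at hn ⊢
    exact hnorm c c.2 n hn
  have hcardQ : Nat.card (↥C ⧸ N.subgroupOf C) = p := by
    have h1 : Nat.card (N.subgroupOf C) * (N.subgroupOf C).index = Nat.card C :=
      Subgroup.card_mul_index _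
    have h2 : Nat.card (N.subgroupOf C) = Nat.card N :=
      Nat.card_congr (Subgroup.subgroupOfEquivOfLe hNC).toEquiv
    rw [h2, hcard] at h1
    have hpos : 0 < Nat.card N := Nat.card_pos
    have h3 : Nat.card N * (N.subgroupOf C).index = Nat.card N * p := by rw [h1, mul_comm]
    have h4 : (N.subgroupOf C).index = p := Nat.eq_of_mul_eq_mul_left hpos h3
    rw [← h4, Subgroup.index_eq_card]
  obtain ⟨restr, hrestr⟩ : ∃ r : ↥C →* ↥C, ∀ y : ↥C, ((r y : ↥C) : H) = β (y : H) :=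
    ⟨{ toFun := fun y => ⟨β (y : H), hβC (y : H) y.2⟩
       map_one' := Subtype.ext (map_one β)
       map_mul' := fun a b => Subtype.ext (map_mul β (a : H) (b : H)) }, fun y => rfl⟩
  have hker : N.subgroupOf C ≤ ((QuotientGroup.mk' (N.subgroupOf C)).comp restr).ker := by
    intro n hn
    rw [MonoidHom.mem_ker, MonoidHom.comp_apply, QuotientGroup.mk'_apply,
      QuotientGroup.eq_one_iff, Subgroup.mem_subgroupOf, hrestr]
    exact hβN _ (Subgroup.mem_subgroupOf.mp hn)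
  obtain ⟨βbar, hβbar⟩ : ∃ b : (↥C ⧸ N.subgroupOf C) →* (↥C ⧸ N.subgroupOf C),
      ∀ y : ↥C, b (QuotientGroup.mk y) = QuotientGroup.mk (restr y) :=
    ⟨QuotientGroup.lift (N.subgroupOf C) ((QuotientGroup.mk' (N.subgroupOf C)).comp restr) hker,
      fun y => rfl⟩
  intro x hx
  by_cases hxN : x ∈ N
  · exact N.mul_mem (N.inv_mem hxN) (hβN x hxN)
  · obtain ⟨xb, hxb⟩ : ∃ xb : ↥C ⧸ N.subgroupOf C, xb = QuotientGroup.mk ⟨x, hx⟩ := ⟨_, rfl⟩
    have hxb1 : xb ≠ 1 := by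
      rw [hxb]
      intro h
      rw [QuotientGroup.eq_one_iff, Subgroup.mem_subgroupOf] at h
      exact hxN h
    have htop : Subgroup.zpowers xb = ⊤ := zpowers_eq_top_of_prime_card hcardQ hxb1
    have hord : orderOf xb = p := by
      rw [orderOf_eq_card_of_forall_mem_zpowers (fun y => by rw [htop]; trivial), hcardQ]
    obtain ⟨j, hj⟩ : ∃ j : ℤ, xb ^ j = βbar xb :=
      Subgroup.mem_zpowers_iff.mp (by rw [htop]; trivial)
    have hCn : ∀ n : ℕ, (β ^ n) x ∈ C := by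
      intro n
      induction n with
      | zero => simpa using hx
      | succ n ih =>
        rw [pow_succ', MulAut.mul_apply]
        exact hβC _ ih
    have hclaim : ∀ n : ℕ, (QuotientGroup.mk ⟨(β ^ n) x, hCn n⟩ : ↥C ⧸ N.subgroupOf C) =
        xb ^ (j ^ n) := by
      intro n
      induction n with
      | zero =>
        have e0 : (⟨(β ^ 0) x, hCn 0⟩ : ↥C) = ⟨x, hx⟩ := Subtype.ext (by simp)
        rw [e0, hxb]
        simp
      | succ n ih =>
        have e1 : (⟨(β ^ (n + 1)) x, hCn (n + 1)⟩ : ↥C) = restr ⟨(β ^ n) x, hCn n⟩ :=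
          Subtype.ext (by rw [hrestr]; show (β ^ (n + 1)) x = β ((β ^ n) x);
                          rw [pow_succ', MulAut.mul_apply])
        rw [e1, ← hβbar, ih, map_zpow, ← hj, ← zpow_mul, pow_succ']
    have h1 := hclaim (p ^ k)
    have e2 : (⟨(β ^ (p ^ k)) x, hCn (p ^ k)⟩ : ↥C) = ⟨x, hx⟩ :=
      Subtype.ext (by show (β ^ (p ^ k)) x = x; rw [hβ]; rfl)
    rw [e2, ← hxb] at h1
    have h2 : xb ^ (j ^ (p ^ k)) = xb ^ (1 : ℤ) := by rw [← h1, zpow_one]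
    rw [zpow_eq_zpow_iff_modEq, hord] at h2
    have h3 : ((j ^ (p ^ k) : ℤ) : ZMod p) = ((1 : ℤ) : ZMod p) :=
      (ZMod.intCast_eq_intCast_iff _ _ p).mpr h2
    rw [Int.cast_pow, ZMod.pow_card_pow] at h3
    have h4 : j ≡ 1 [ZMOD p] := (ZMod.intCast_eq_intCast_iff _ _ p).mp h3
    have h5 : xb ^ j = xb ^ (1 : ℤ) := by
      rw [zpow_eq_zpow_iff_modEq, hord]; exact h4
    rw [zpow_one, hj, hxb, hβbar] at h5
    have h6 := (QuotientGroup.eq.mp h5.symm)
    rw [Subgroup.mem_subgroupOf] at h6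
    have h7 : (((⟨x, hx⟩ : ↥C)⁻¹ * restr ⟨x, hx⟩ : ↥C) : H) = x⁻¹ * β x := by
      rw [Subgroup.coe_mul, hrestr]; rfl
    rw [h7] at h6
    exact h6

theorem pow_fix8 {H : Type*} [Group H] (α : MulAut H) (x : H)
    (hfix : α (x⁻¹ * α x) = x⁻¹ * α x) (n : ℕ) : (α ^ n) x = x * (x⁻¹ * α x) ^ n := by
  induction n with
  | zero => simp
  | succ n ih =>
    rw [pow_succ', MulAut.mul_apply, ih, map_mul, map_pow, hfix]
    rw [pow_succ', ← mul_assoc, mul_inv_cancel_left]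

/-- a characteristic chain with factors of order `p` in a group of order `p³` makes the
automorphism group `p`-closed -/
theorem chain_pclosed8 {H : Type*} [Group H] [Finite H] (p : ℕ) [Fact p.Prime]
    (C₁ C₂ : Subgroup H) (h12 : C₁ ≤ C₂) (hc1 : Nat.card C₁ = p) (hc2 : Nat.card C₂ = p ^ 2)
    (hcH : Nat.card H = p ^ 3) (hchar1 : ∀ α : MulAut H, ∀ y ∈ C₁, α y ∈ C₁)
    (hchar2 : ∀ α : MulAut H, ∀ y ∈ C₂, α y ∈ C₂) :
    ∃ U : Subgroup (MulAut H), U.Normal ∧ IsPGroup p U ∧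
      ∀ (β : MulAut H) (k : ℕ), β ^ (p ^ k) = 1 → β ∈ U := by
  obtain ⟨U, hU⟩ : ∃ U : Subgroup (MulAut H), ∀ α : MulAut H, α ∈ U ↔
      ((∀ z ∈ C₁, α z = z) ∧ (∀ y ∈ C₂, y⁻¹ * α y ∈ C₁) ∧ (∀ x : H, x⁻¹ * α x ∈ C₂)) := by
    refine ⟨{ carrier := {α | (∀ z ∈ C₁, α z = z) ∧ (∀ y ∈ C₂, y⁻¹ * α y ∈ C₁) ∧
                (∀ x : H, x⁻¹ * α x ∈ C₂)}
              one_mem' := ?_
              mul_mem' := ?_
              inv_mem' := ?_ }, fun α => Iff.rfl⟩
    · intro α β hα hβ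
      obtain ⟨ha1, ha2, ha3⟩ := hα
      obtain ⟨hb1, hb2, hb3⟩ := hβ
      show (∀ z ∈ C₁, (α * β) z = z) ∧ (∀ y ∈ C₂, y⁻¹ * (α * β) y ∈ C₁) ∧
                (∀ x : H, x⁻¹ * (α * β) x ∈ C₂)
      refine ⟨fun z hz => ?_, fun y hy => ?_, fun x => ?_⟩
      · rw [MulAut.mul_apply, hb1 z hz, ha1 z hz]
      · have e : y⁻¹ * (α * β) y = (y⁻¹ * α y) * α (y⁻¹ * β y) := by
          rw [MulAut.mul_apply, map_mul, map_inv]; group
        rw [e]
        exact C₁.mul_mem (ha2 y hy) (hchar1 α _ (hb2 y hy))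
      · have e : x⁻¹ * (α * β) x = (x⁻¹ * α x) * α (x⁻¹ * β x) := by
          rw [MulAut.mul_apply, map_mul, map_inv]; group
        rw [e]
        exact C₂.mul_mem (ha3 x) (hchar2 α _ (hb3 x))
    · show (∀ z ∈ C₁, (1 : MulAut H) z = z) ∧ (∀ y ∈ C₂, y⁻¹ * (1 : MulAut H) y ∈ C₁) ∧
                (∀ x : H, x⁻¹ * (1 : MulAut H) x ∈ C₂)
      refine ⟨fun z _ => rfl, fun y _ => ?_, fun x => ?_⟩
      · have : y⁻¹ * (1 : MulAut H) y = 1 := by rw [MulAut.one_apply, inv_mul_cancel]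
        rw [this]; exact C₁.one_mem
      · have : x⁻¹ * (1 : MulAut H) x = 1 := by rw [MulAut.one_apply, inv_mul_cancel]
        rw [this]; exact C₂.one_mem
    · intro α hα
      obtain ⟨ha1, ha2, ha3⟩ := hα
      show (∀ z ∈ C₁, α⁻¹ z = z) ∧ (∀ y ∈ C₂, y⁻¹ * α⁻¹ y ∈ C₁) ∧
                (∀ x : H, x⁻¹ * α⁻¹ x ∈ C₂)
      refine ⟨fun z hz => ?_, fun y hy => ?_, fun x => ?_⟩
      · calc α⁻¹ z = α⁻¹ (α z) := by rw [ha1 z hz]
          _ = z := MulAut.inv_apply_self _ _ _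
      · have hw : α⁻¹ y ∈ C₂ := hchar2 α⁻¹ y hy
        have h1 := ha2 _ hw
        rw [MulAut.apply_inv_self] at h1
        have e : y⁻¹ * α⁻¹ y = ((α⁻¹ y)⁻¹ * y)⁻¹ := by group
        rw [e]; exact C₁.inv_mem h1
      · have h1 := ha3 (α⁻¹ x)
        rw [MulAut.apply_inv_self] at h1
        have e : x⁻¹ * α⁻¹ x = ((α⁻¹ x)⁻¹ * x)⁻¹ := by group
        rw [e]; exact C₂.inv_mem h1
  refine ⟨U, ?_, ?_, ?_⟩
  · refine ⟨fun α hα γ => ?_⟩
    obtain ⟨ha1, ha2, ha3⟩ := (hU α).mp hα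
    rw [hU]
    refine ⟨fun z hz => ?_, fun y hy => ?_, fun x => ?_⟩
    · rw [MulAut.mul_apply, MulAut.mul_apply, ha1 _ (hchar1 γ⁻¹ z hz), MulAut.apply_inv_self]
    · have e : y⁻¹ * (γ * α * γ⁻¹) y = γ ((γ⁻¹ y)⁻¹ * α (γ⁻¹ y)) := by
        rw [MulAut.mul_apply, MulAut.mul_apply, map_mul, map_inv, MulAut.apply_inv_self]
      rw [e]
      exact hchar1 γ _ (ha2 _ (hchar2 γ⁻¹ y hy))
    · have e : x⁻¹ * (γ * α * γ⁻¹) x = γ ((γ⁻¹ x)⁻¹ * α (γ⁻¹ x)) := by
        rw [MulAut.mul_apply, MulAut.mul_apply, map_mul, map_inv, MulAut.apply_inv_self]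
      rw [e]
      exact hchar2 γ _ (ha3 _)
  · intro g
    refine ⟨3, Subtype.ext ?_⟩
    obtain ⟨ha1, ha2, ha3⟩ := (hU g.1).mp g.2
    have hpp : ((g : MulAut H) ^ p) ∈ U := U.pow_mem g.2 p
    obtain ⟨hb1, hb2, hb3⟩ := (hU _).mp hpp
    have hfixC2 : ∀ y ∈ C₂, ((g : MulAut H) ^ p) y = y := by
      intro y hy
      have hc : y⁻¹ * (g : MulAut H) y ∈ C₁ := ha2 y hy
      rw [pow_fix8 (g : MulAut H) y (ha1 _ hc) p]
      have h1 : (⟨y⁻¹ * (g : MulAut H) y, hc⟩ : C₁) ^ Nat.card C₁ = 1 := pow_card_eq_one'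
      rw [hc1] at h1
      have h2 : (y⁻¹ * (g : MulAut H) y) ^ p = 1 := congrArg Subtype.val h1
      rw [h2, mul_one]
    have hall : ∀ x : H, (((g : MulAut H) ^ p) ^ (p ^ 2)) x = x := by
      intro x
      have hd : x⁻¹ * ((g : MulAut H) ^ p) x ∈ C₂ := hb3 x
      rw [pow_fix8 ((g : MulAut H) ^ p) x (hfixC2 _ hd) (p ^ 2)]
      have h1 : (⟨x⁻¹ * ((g : MulAut H) ^ p) x, hd⟩ : C₂) ^ Nat.card C₂ = 1 := pow_card_eq_one'
      rw [hc2] at h1
      have h2 : (x⁻¹ * ((g : MulAut H) ^ p) x) ^ (p ^ 2) = 1 := congrArg Subtype.val h1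
      rw [h2, mul_one]
    have e : ((g ^ p ^ 3 : U) : MulAut H) = ((g : MulAut H) ^ p) ^ (p ^ 2) := by
      rw [Subgroup.coe_pow, ← pow_mul]
      congr 1
      ring
    rw [e]
    exact MulEquiv.ext hall
  · intro β k hβ
    rw [hU]
    refine ⟨fun z hz => ?_, fun y hy => ?_, fun x => ?_⟩
    · have h := stab_step8 p ⊥ C₁ bot_le (fun c _ n hn => by
          rw [Subgroup.mem_bot] at hn ⊢; rw [hn]; group) (by rw [Subgroup.card_bot, mul_one, hc1])
        β (hchar1 β) (fun y hy => by rw [Subgroup.mem_bot] at hy ⊢; rw [hy, map_one]) k hβ z hz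
      rw [Subgroup.mem_bot] at h
      exact (inv_mul_eq_one.mp h).symm
    · exact stab_step8 p C₁ C₂ h12 (fun c _ n hn => by
          have := hchar1 (MulAut.conj c) n hn
          rwa [MulAut.conj_apply] at this) (by rw [hc1, hc2]; ring)
        β (hchar2 β) (hchar1 β) k hβ y hy
    · exact stab_step8 p C₂ ⊤ le_top (fun c _ n hn => by
          have := hchar2 (MulAut.conj c) n hn
          rwa [MulAut.conj_apply] at this) (by rw [Subgroup.card_top, hc2, hcH]; ring)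
        β (fun y _ => Subgroup.mem_top _) (hchar2 β) k hβ x (Subgroup.mem_top _)

/-- an essential subgroup cannot have a `p`-closed automorphism group -/
theorem essential_not_pclosed8 {Ω : Type*} [Group Ω] {S : Subgroup Ω} [Finite S] (p : ℕ)
    [Fact p.Prime] (F : FusionSystem S) (H : Subgroup Ω) (hH : F.IsEssential p H)
    (U : Subgroup (MulAut H)) (hUn : U.Normal) (hUp : IsPGroup p U)
    (hU : ∀ (β : MulAut H) (k : ℕ), β ^ (p ^ k) = 1 → β ∈ U) : False := by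
  obtain ⟨hcen, -, hnorm, E, hE⟩ := hH
  have hHS : H ≤ S := hcen.1
  haveI : Finite (F.autGroup H) := finite_autGroup F hHS
  haveI := hnorm
  have hcore := pCore_eq_bot_of_stronglyPEmbedded p E hE
  have hdvd := hE.1
  obtain ⟨xb, hxb⟩ := exists_prime_orderOf_dvd_card' p hdvd
  obtain ⟨a, ha⟩ := QuotientGroup.mk_surjective xb
  have hn0 : orderOf a ≠ 0 := (orderOf_pos a).ne'
  obtain ⟨k, m, hm, hn⟩ := Nat.exists_eq_pow_mul_and_not_dvd hn0 p (Fact.out : p.Prime).ne_one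
  have hb : (a ^ m) ^ (p ^ k) = 1 := by
    rw [← pow_mul, mul_comm, ← hn, pow_orderOf_eq_one]
  have hbU : ((a ^ m : F.autGroup H) : MulAut H) ∈ U := by
    apply hU _ k
    have := congrArg Subtype.val hb
    rw [Subgroup.coe_pow] at this
    exact this
  have hNn : (U.subgroupOf (F.autGroup H)).Normal := hUn.subgroupOf _
  have hNp : IsPGroup p (U.subgroupOf (F.autGroup H)) :=
    hUp.comap_of_injective (F.autGroup H).subtype Subtype.val_injective
  have hmapn : ((U.subgroupOf (F.autGroup H)).map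
      (QuotientGroup.mk' ((Inn H).subgroupOf (F.autGroup H)))).Normal :=
    hNn.map _ (QuotientGroup.mk'_surjective _)
  have hmapp : IsPGroup p ((U.subgroupOf (F.autGroup H)).map
      (QuotientGroup.mk' ((Inn H).subgroupOf (F.autGroup H)))) := hNp.map _
  have hle := le_pCore8 hmapn hmapp
  rw [hcore] at hle
  have hmem : QuotientGroup.mk' ((Inn H).subgroupOf (F.autGroup H)) (a ^ m) ∈
      (U.subgroupOf (F.autGroup H)).map (QuotientGroup.mk' ((Inn H).subgroupOf (F.autGroup H))) :=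
    Subgroup.mem_map_of_mem _ (Subgroup.mem_subgroupOf.mpr hbU)
  have h1 := hle hmem
  rw [Subgroup.mem_bot, map_pow, QuotientGroup.mk'_apply, ha] at h1
  have h2 : orderOf xb ∣ m := orderOf_dvd_of_pow_eq_one h1
  rw [hxb] at h2
  exact hm h2

end Cfsg.Agent.Lib.Helper8
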