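import Mathlib
import Cfsg.Prelude.Def_FusionSystem
import Cfsg.Agent.Lib.Helper8.FusionAbelian
import Cfsg.Agent.Lib.Helper8.FusionChain3
import Cfsg.Agent.Lib.Helper8.FusionSat
import Cfsg.Agent.Lib.Helper8.Fusion2

set_option autoImplicit false

namespace Cfsg.Agent.Lib.Helper8

open Cfsg Cfsg.FusionSystem

/-- coprime action on an abelian group: fixed points and commutators -/
theorem comm_coprime_decomp {B : Type*} [CommGroup B] [Finite B] (A : Subgroup (MulAut B))
    (hcop : (Nat.card A).Coprime (Nat.card B)) :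
    (∀ b : B, (∀ α ∈ A, α b = b) →
      b ∈ Subgroup.closure {y : B | ∃ α ∈ A, ∃ c : B, y = c⁻¹ * α c} → b = 1) ∧
    ∀ b : B, ∃ z k : B, (∀ α ∈ A, α z = z) ∧
      k ∈ Subgroup.closure {y : B | ∃ α ∈ A, ∃ c : B, y = c⁻¹ * α c} ∧ b = z * k := by
  classical
  have hfinA : Finite A := inferInstance
  let _ : Fintype A := Fintype.ofFinite A
  have τmul : ∀ b c : B, (∏ α : A, (α : MulAut B) (b * c)) =
      (∏ α : A, (α : MulAut B) b) * ∏ α : A, (α : MulAut B) c := by
    intro b c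
    rw [← Finset.prod_mul_distrib]
    exact Finset.prod_congr rfl (fun α _ => map_mul _ _ _)
  have τone : (∏ α : A, (α : MulAut B) (1 : B)) = 1 := by
    apply Finset.prod_eq_one
    intro α _
    exact map_one _
  have τinv : ∀ b : B, (∏ α : A, (α : MulAut B) b⁻¹) = (∏ α : A, (α : MulAut B) b)⁻¹ := by
    intro b
    rw [← Finset.prod_inv_distrib]
    exact Finset.prod_congr rfl (fun α _ => map_inv _ _)
  have τfix : ∀ (β : A) (b : B), (β : MulAut B) (∏ α : A, (α : MulAut B) b) =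
      ∏ α : A, (α : MulAut B) b := by
    intro β b
    rw [map_prod]
    exact Fintype.prod_equiv (Equiv.mulLeft β) _ _ (fun α => rfl)
  have τcomp : ∀ (β : A) (b : B), (∏ α : A, (α : MulAut B) ((β : MulAut B) b)) =
      ∏ α : A, (α : MulAut B) b := by
    intro β b
    exact Fintype.prod_equiv (Equiv.mulRight β) _ _ (fun α => rfl)
  have τK : ∀ k ∈ Subgroup.closure {y : B | ∃ α ∈ A, ∃ c : B, y = c⁻¹ * α c},
      (∏ α : A, (α : MulAut B) k) = 1 := by
    intro k hk
    induction hk using Subgroup.closure_induction with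
    | mem y hy =>
      obtain ⟨β, hβ, c, rfl⟩ := hy
      rw [τmul, τinv, τcomp ⟨β, hβ⟩ c, inv_mul_cancel]
    | one => exact τone
    | mul a b _ _ iha ihb => rw [τmul, iha, ihb, one_mul]
    | inv a _ iha => rw [τinv, iha, inv_one]
  have τZ : ∀ z : B, (∀ α ∈ A, α z = z) → (∏ α : A, (α : MulAut B) z) = z ^ Nat.card A := by
    intro z hz
    rw [Finset.prod_congr rfl (fun α _ => hz α.1 α.2), Finset.prod_const, Finset.card_univ,
      Nat.card_eq_fintype_card]
  constructor
  · intro b hb hbK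
    have h1 := τK b hbK
    rw [τZ b hb] at h1
    have h3 : orderOf b ∣ Nat.card A := orderOf_dvd_of_pow_eq_one h1
    have h4 : orderOf b ∣ Nat.card B := orderOf_dvd_natCard b
    exact orderOf_eq_one_iff.1 (Nat.eq_one_of_dvd_coprimes hcop h3 h4)
  · intro b
    have hcop' : (Nat.card A).Coprime (orderOf b) :=
      Nat.Coprime.coprime_dvd_right (orderOf_dvd_natCard b) hcop
    obtain ⟨m, hm⟩ := exists_pow_eq_self_of_coprime hcop'
    have h1 : b ^ Nat.card A = (∏ α : A, (α : MulAut B) b) *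
        ∏ α : A, (((α : MulAut B) b)⁻¹ * b) := by
      rw [← Finset.prod_mul_distrib]
      have e : ∀ α : A, (α : MulAut B) b * (((α : MulAut B) b)⁻¹ * b) = b := fun α => by
        rw [mul_inv_cancel_left]
      rw [Finset.prod_congr rfl (fun α _ => e α), Finset.prod_const, Finset.card_univ,
        Nat.card_eq_fintype_card]
    refine ⟨(∏ α : A, (α : MulAut B) b) ^ m, (∏ α : A, (((α : MulAut B) b)⁻¹ * b)) ^ m, ?_, ?_, ?_⟩
    · intro α hα
      rw [map_pow, τfix ⟨α, hα⟩ b]
    · apply Subgroup.pow_mem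
      apply Subgroup.prod_mem
      intro α _
      have e : ((α : MulAut B) b)⁻¹ * b = (b⁻¹ * (α : MulAut B) b)⁻¹ := by
        rw [mul_inv_rev, inv_inv]
      rw [e]
      exact Subgroup.inv_mem _ (Subgroup.subset_closure ⟨α, α.2, b, rfl⟩)
    · rw [← mul_pow, ← h1, hm]

variable {Ω : Type*} [Group Ω] {S : Subgroup Ω}

theorem fs_top_fullyNormalized (F : FusionSystem S) [Finite S] : F.IsFullyNormalized S := by
  refine ⟨le_rfl, fun Q _ => ?_⟩
  have h1 : normalizerIn S S = S := le_antisymm inf_le_left (fun s hs =>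
    Subgroup.mem_inf.2 ⟨hs, Subgroup.le_normalizer hs⟩)
  rw [h1]
  exact Nat.card_le_card_of_injective (Subgroup.inclusion (inf_le_left : normalizerIn S Q ≤ S))
    (Subgroup.inclusion_injective _)

/-- for abelian `S`, `Aut_F(S)` has order prime to `p` -/
theorem fs_autGroup_top_coprime_of_abelian (F : FusionSystem S) [Finite S] (p : ℕ) [Fact p.Prime]
    (hS : IsPGroup p S) (hF : F.IsSaturated p) (hab : ∀ x ∈ S, ∀ y ∈ S, x * y = y * x) :
    (Nat.card (F.autGroup S)).Coprime (Nat.card S) := by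
  have hp : p.Prime := Fact.out
  obtain ⟨hn, -⟩ := (fs_saturated_iff F p hS).1 hF
  obtain ⟨-, -, R, hR⟩ := hn S (fs_top_fullyNormalized F)
  have hbot : autInducedBy S S = ⊥ := by
    unfold autInducedBy
    rw [Subgroup.closure_eq_bot_iff]
    rintro α ⟨g, hg, hgx⟩
    apply MulEquiv.ext
    intro x
    apply Subtype.ext
    rw [hgx x, hab g hg x x.2]
    show (x : Ω) * g * g⁻¹ = x
    group
  have hRbot : (R : Subgroup (F.autGroup S)) = ⊥ := by
    rw [hR, hbot]
    exact Subgroup.bot_subgroupOf _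
  have hfin : Finite (F.autGroup S) := finite_autGroup F le_rfl
  have hnd : ¬ p ∣ Nat.card (F.autGroup S) := fun h => R.ne_bot_of_dvd_card h hRbot
  obtain ⟨k, hk⟩ := (IsPGroup.iff_card.1 hS)
  rw [hk]
  exact Nat.Coprime.pow_right k ((Nat.Prime.coprime_iff_not_dvd hp).2 hnd).symm

/-- for a saturated fusion system over an abelian `p`-group, `S = Z(F) × foc(F)` -/
theorem fs_abelian_center_focal (F : FusionSystem S) [Finite S] (p : ℕ) [Fact p.Prime]
    (hS : IsPGroup p S) (hF : F.IsSaturated p) (hab : ∀ x ∈ S, ∀ y ∈ S, x * y = y * x) :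
    F.center ⊓ F.focalSubgroup = ⊥ ∧ F.center ⊔ F.focalSubgroup = S := by
  have hn := fs_top_normal_of_abelian F p hS hF hab
  have hcop := fs_autGroup_top_coprime_of_abelian F p hS hF hab
  let _ : CommGroup S := { (inferInstance : Group S) with
    mul_comm := fun a b => Subtype.ext (hab a a.2 b b.2) }
  obtain ⟨hd1, hd2⟩ := comm_coprime_decomp (B := S) (F.autGroup S) hcop
  have hc := fs_isCentral_center F
  have C1 : ∀ z (hz : z ∈ F.center), ∀ α ∈ F.autGroup S, α ⟨z, hc.1 hz⟩ = ⟨z, hc.1 hz⟩ := by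
    intro z hz α hα
    have hφ : FsIso F α := (mem_autGroup_iff F le_rfl α).1 hα
    obtain ⟨ψ, -, h1, h2⟩ := hc.2 S _ hφ
    apply Subtype.ext
    have h3 := h1 ⟨z, hc.1 hz⟩
    have h4 := h2 ⟨z, hz⟩
    have e : Subgroup.inclusion (le_sup_left : S ≤ S ⊔ F.center) ⟨z, hc.1 hz⟩ =
        Subgroup.inclusion (le_sup_right : F.center ≤ S ⊔ F.center) ⟨z, hz⟩ := Subtype.ext rfl
    rw [e, h4] at h3
    exact h3.symm
  have C2 : ∀ z : S, (∀ α ∈ F.autGroup S, α z = z) → (z : Ω) ∈ F.center := by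
    intro z hz
    have hzS : Subgroup.zpowers (z : Ω) ≤ S := by
      rw [Subgroup.zpowers_le]
      exact z.2
    have hcen : F.IsCentral (Subgroup.zpowers (z : Ω)) := by
      refine ⟨hzS, fun P φ hφ => ?_⟩
      have hPS := fs_le F hφ
      obtain ⟨α, hα, hαx⟩ := fs_extend_of_normal F hn P hPS φ hφ
      have hle : P ⊔ Subgroup.zpowers (z : Ω) ≤ S := sup_le hPS hzS
      have hα' : FsIso F α := (mem_autGroup_iff F le_rfl α).1 hα
      refine ⟨_, fs_restrict_mem F hα' hle, fun x => hαx x, fun q => ?_⟩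
      obtain ⟨k, hk⟩ := Subgroup.mem_zpowers_iff.1 q.2
      have e : Subgroup.inclusion hle (Subgroup.inclusion le_sup_right q) = z ^ k := by
        apply Subtype.ext
        rw [Subgroup.coe_zpow]
        exact hk.symm
      show ((α (Subgroup.inclusion hle (Subgroup.inclusion le_sup_right q)) : S) : Ω) = q
      rw [e, map_zpow, hz α hα, Subgroup.coe_zpow]
      exact hk
    exact (le_sSup hcen : Subgroup.zpowers (z : Ω) ≤ F.center) (Subgroup.mem_zpowers _)
  have C3 : F.focalSubgroup ≤ (Subgroup.closure {y : S | ∃ α ∈ F.autGroup S, ∃ c : S,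
      y = c⁻¹ * α c}).map S.subtype := by
    refine (Subgroup.closure_le _).2 ?_
    rintro _ ⟨P, φ, x, hφ, rfl⟩
    have hPS := fs_le F hφ
    obtain ⟨α, hα, hαx⟩ := fs_extend_of_normal F hn P hPS φ hφ
    refine ⟨(Subgroup.inclusion hPS x)⁻¹ * α (Subgroup.inclusion hPS x),
      Subgroup.subset_closure ⟨α, hα, _, rfl⟩, ?_⟩
    rw [← hαx x]
    rfl
  have C4 : ∀ k ∈ Subgroup.closure {y : S | ∃ α ∈ F.autGroup S, ∃ c : S, y = c⁻¹ * α c},
      (k : Ω) ∈ F.focalSubgroup := by
    have hle : Subgroup.closure {y : S | ∃ α ∈ F.autGroup S, ∃ c : S, y = c⁻¹ * α c} ≤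
        (F.focalSubgroup).comap S.subtype := by
      refine (Subgroup.closure_le _).2 ?_
      rintro _ ⟨α, hα, c, rfl⟩
      have hα' : FsIso F α := (mem_autGroup_iff F le_rfl α).1 hα
      exact Subgroup.subset_closure ⟨S, _, c, hα', rfl⟩
    exact fun k hk => hle hk
  constructor
  · rw [eq_bot_iff]
    rintro x ⟨hxc, hxf⟩
    obtain ⟨k, hk, hkx⟩ := C3 hxf
    have e : k = ⟨x, hc.1 hxc⟩ := Subtype.ext hkx
    rw [e] at hk
    have h1 := hd1 ⟨x, hc.1 hxc⟩ (C1 x hxc) hk
    rw [Subgroup.mem_bot]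
    exact congrArg (fun w : S => (w : Ω)) h1
  · apply le_antisymm
    · refine sup_le hc.1 ?_
      intro y hy
      obtain ⟨k, -, rfl⟩ := C3 hy
      exact k.2
    · intro s hs
      obtain ⟨z, k, hz, hk, hzk⟩ := hd2 ⟨s, hs⟩
      have e : s = (z : Ω) * (k : Ω) := congrArg (fun w : S => (w : Ω)) hzk
      rw [e]
      exact Subgroup.mul_mem _ (Subgroup.mem_sup_left (C2 z hz)) (Subgroup.mem_sup_right (C4 k hk))

end Cfsg.Agent.Lib.Helper8
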