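import Mathlib
import Cfsg.Prelude.Def_FusionSystem
import Cfsg.Prelude.Def_FusionComponents
import Cfsg.Agent.Lib.Helper8.FusionAbelian2
import Cfsg.Agent.Lib.Helper8.FusionHypAut

set_option autoImplicit false

namespace Cfsg.Agent.Lib.Helper8

open Cfsg Cfsg.FusionSystem

open scoped IsMulCommutative

/-- trace argument: if `T ≤ A` has index prime to `p`, a `T`-fixed subgroup `V` of the centre of a
`p`-group `Q` containing all `A`-fixed central elements splits over the `A`-fixed points -/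
theorem center_trace_decomp {Q : Type*} [Group Q] [Finite Q] {p : ℕ} [Fact p.Prime]
    (hQ : IsPGroup p Q) (A : Subgroup (MulAut Q)) [Finite A] (T : Subgroup A)
    (hidx : (T.index).Coprime p) (V : Subgroup Q) (hVc : V ≤ Subgroup.center Q)
    (hVT : ∀ v ∈ V, ∀ t : A, t ∈ T → (t : MulAut Q) v = v)
    (hfix : ∀ z : Q, z ∈ Subgroup.center Q → (∀ α ∈ A, α z = z) → z ∈ V) :
    ∃ K : Subgroup Q, K ≤ V ∧ (∀ z ∈ K, (∀ α ∈ A, α z = z) → z = 1) ∧
      ∀ v ∈ V, ∃ z ∈ V, ∃ k ∈ K, (∀ α ∈ A, α z = z) ∧ v = z * k := by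
  classical
  let _ : Fintype (A ⧸ T) := Fintype.ofFinite _
  have τmul : ∀ b c : Subgroup.center Q,
      (∏ q : A ⧸ T, Subgroup.centerCongr ((q.out : A) : MulAut Q) (b * c)) =
      (∏ q : A ⧸ T, Subgroup.centerCongr ((q.out : A) : MulAut Q) b) *
        ∏ q : A ⧸ T, Subgroup.centerCongr ((q.out : A) : MulAut Q) c := by
    intro b c
    rw [← Finset.prod_mul_distrib]
    exact Finset.prod_congr rfl (fun α _ => map_mul _ _ _)
  have τone : (∏ q : A ⧸ T, Subgroup.centerCongr ((q.out : A) : MulAut Q)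
      (1 : Subgroup.center Q)) = 1 := by
    apply Finset.prod_eq_one
    intro α _
    exact map_one _
  have τinv : ∀ b : Subgroup.center Q,
      (∏ q : A ⧸ T, Subgroup.centerCongr ((q.out : A) : MulAut Q) b⁻¹) =
      (∏ q : A ⧸ T, Subgroup.centerCongr ((q.out : A) : MulAut Q) b)⁻¹ := by
    intro b
    rw [← Finset.prod_inv_distrib]
    exact Finset.prod_congr rfl (fun α _ => map_inv _ _)
  have τfix : ∀ (β : A) (v : Subgroup.center Q),
      (∀ t : A, t ∈ T → (t : MulAut Q) (v : Q) = v) →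
      Subgroup.centerCongr (β : MulAut Q)
        (∏ q : A ⧸ T, Subgroup.centerCongr ((q.out : A) : MulAut Q) v) =
        ∏ q : A ⧸ T, Subgroup.centerCongr ((q.out : A) : MulAut Q) v := by
    intro β v hv
    rw [map_prod]
    refine Fintype.prod_equiv (MulAction.toPerm β) _ _ (fun q => ?_)
    have ht : ((β • q : A ⧸ T).out)⁻¹ * (β * q.out) ∈ T := by
      rw [← QuotientGroup.eq, QuotientGroup.out_eq']
      conv_lhs => rw [← QuotientGroup.out_eq' q]
      rfl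
    have e : β * q.out = (β • q : A ⧸ T).out * (((β • q : A ⧸ T).out)⁻¹ * (β * q.out)) := by
      group
    have h2 := hv _ ht
    apply Subtype.ext
    calc (β : MulAut Q) (((q.out : A) : MulAut Q) (v : Q))
        = ((β * q.out : A) : MulAut Q) (v : Q) := rfl
      _ = (((β • q : A ⧸ T).out * (((β • q : A ⧸ T).out)⁻¹ * (β * q.out)) : A) : MulAut Q)
            (v : Q) := by rw [← e]
      _ = (((β • q : A ⧸ T).out : A) : MulAut Q)
            (((((β • q : A ⧸ T).out)⁻¹ * (β * q.out) : A) : MulAut Q) (v : Q)) := rfl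
      _ = (((β • q : A ⧸ T).out : A) : MulAut Q) (v : Q) := by rw [h2]
  have τZ : ∀ z : Subgroup.center Q, (∀ α ∈ A, α (z : Q) = z) →
      (∏ q : A ⧸ T, Subgroup.centerCongr ((q.out : A) : MulAut Q) z) = z ^ T.index := by
    intro z hz
    have e : ∀ q : A ⧸ T, Subgroup.centerCongr ((q.out : A) : MulAut Q) z = z :=
      fun q => Subtype.ext (hz _ (q.out : A).2)
    rw [Finset.prod_congr rfl (fun q _ => e q), Finset.prod_const, Finset.card_univ,
      ← Nat.card_eq_fintype_card]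
    rfl
  have hpow : ∀ w : Subgroup.center Q, (T.index).Coprime (orderOf w) := by
    intro w
    obtain ⟨j, hj⟩ := (hQ.to_subgroup (Subgroup.center Q)) w
    exact Nat.Coprime.coprime_dvd_right (orderOf_dvd_of_pow_eq_one hj) (Nat.Coprime.pow_right j hidx)
  refine ⟨
    { carrier := {v | ∃ hv : v ∈ V,
        (∏ q : A ⧸ T, Subgroup.centerCongr ((q.out : A) : MulAut Q) ⟨v, hVc hv⟩) = 1}
      mul_mem' := ?_
      one_mem' := ?_
      inv_mem' := ?_ }, ?_, ?_, ?_⟩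
  · rintro a b ⟨ha, ha'⟩ ⟨hb, hb'⟩
    refine ⟨V.mul_mem ha hb, ?_⟩
    have e : (⟨a * b, hVc (V.mul_mem ha hb)⟩ : Subgroup.center Q) =
        ⟨a, hVc ha⟩ * ⟨b, hVc hb⟩ := rfl
    rw [e, τmul, ha', hb', one_mul]
  · exact ⟨V.one_mem, τone⟩
  · rintro a ⟨ha, ha'⟩
    refine ⟨V.inv_mem ha, ?_⟩
    have e : (⟨a⁻¹, hVc (V.inv_mem ha)⟩ : Subgroup.center Q) = (⟨a, hVc ha⟩)⁻¹ := rfl
    rw [e, τinv, ha', inv_one]
  · rintro v ⟨hv, -⟩
    exact hv
  · rintro z ⟨hz, hz'⟩ hfixz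
    rw [τZ ⟨z, hVc hz⟩ hfixz] at hz'
    have h3 : orderOf (⟨z, hVc hz⟩ : Subgroup.center Q) ∣ T.index := orderOf_dvd_of_pow_eq_one hz'
    have h4 : orderOf (⟨z, hVc hz⟩ : Subgroup.center Q) = 1 :=
      Nat.eq_one_of_dvd_coprimes (hpow _) h3 dvd_rfl
    have h5 := orderOf_eq_one_iff.1 h4
    exact congrArg Subtype.val h5
  · intro v hv
    have hwfix : ∀ α ∈ A, α ((∏ q : A ⧸ T, Subgroup.centerCongr ((q.out : A) : MulAut Q)
        ⟨v, hVc hv⟩ : Subgroup.center Q) : Q) =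
        ((∏ q : A ⧸ T, Subgroup.centerCongr ((q.out : A) : MulAut Q)
        ⟨v, hVc hv⟩ : Subgroup.center Q) : Q) := by
      intro α hα
      exact congrArg Subtype.val (τfix ⟨α, hα⟩ ⟨v, hVc hv⟩ (fun t ht => hVT v hv t ht))
    obtain ⟨w, hw⟩ : ∃ w : Subgroup.center Q, w = ∏ q : A ⧸ T,
        Subgroup.centerCongr ((q.out : A) : MulAut Q) ⟨v, hVc hv⟩ := ⟨_, rfl⟩
    rw [← hw] at hwfix
    obtain ⟨m, hm⟩ := exists_pow_eq_self_of_coprime (hpow w)
    have hzfix : ∀ α ∈ A, α ((w ^ m : Subgroup.center Q) : Q) = ((w ^ m : Subgroup.center Q) : Q) := by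
      intro α hα
      rw [Subgroup.coe_pow, map_pow, hwfix α hα]
    have hzV : ((w ^ m : Subgroup.center Q) : Q) ∈ V := hfix _ (w ^ m).2 hzfix
    have hτz : (∏ q : A ⧸ T, Subgroup.centerCongr ((q.out : A) : MulAut Q) (w ^ m)) = w := by
      rw [τZ (w ^ m) hzfix, ← pow_mul, mul_comm, pow_mul, hm]
    have hkV : ((w ^ m : Subgroup.center Q) : Q)⁻¹ * v ∈ V := V.mul_mem (V.inv_mem hzV) hv
    refine ⟨_, hzV, ((w ^ m : Subgroup.center Q) : Q)⁻¹ * v, ⟨hkV, ?_⟩, hzfix, ?_⟩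
    · have e : (⟨((w ^ m : Subgroup.center Q) : Q)⁻¹ * v, hVc hkV⟩ : Subgroup.center Q) =
          (w ^ m)⁻¹ * ⟨v, hVc hv⟩ := rfl
      rw [e, τmul, τinv, hτz, ← hw, inv_mul_cancel]
    · rw [mul_inv_cancel_left]

variable {Ω : Type*} [Group Ω] {S : Subgroup Ω}

theorem fs_center_fixed (F : FusionSystem S) [Finite S] {Q : Subgroup Ω} (hQ : Q ≤ S)
    (z : Ω) (hz : z ∈ F.center) (hzQ : z ∈ Q) (α : MulAut Q) (hα : α ∈ F.autGroup Q) :
    α ⟨z, hzQ⟩ = ⟨z, hzQ⟩ := by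
  have hc := fs_isCentral_center F
  have hφ : FsIso F α := (mem_autGroup_iff F hQ α).1 hα
  obtain ⟨ψ, -, h1, h2⟩ := hc.2 Q _ hφ
  apply Subtype.ext
  have h3 := h1 ⟨z, hzQ⟩
  have h4 := h2 ⟨z, hz⟩
  have e : Subgroup.inclusion (le_sup_left : Q ≤ Q ⊔ F.center) ⟨z, hzQ⟩ =
      Subgroup.inclusion (le_sup_right : F.center ≤ Q ⊔ F.center) ⟨z, hz⟩ := Subtype.ext rfl
  rw [e, h4] at h3
  exact h3.symm

theorem fs_mem_center_of_fixed (F : FusionSystem S) [Finite S] {Q : Subgroup Ω}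
    (hn : F.IsNormal Q) (z : Q) (hz : ∀ α ∈ F.autGroup Q, α z = z) : (z : Ω) ∈ F.center := by
  have hQS := hn.1
  have hzS : Subgroup.zpowers (z : Ω) ≤ Q := by
    rw [Subgroup.zpowers_le]
    exact z.2
  have hcen : F.IsCentral (Subgroup.zpowers (z : Ω)) := by
    refine ⟨hzS.trans hQS, fun P φ hφ => ?_⟩
    obtain ⟨ψ, hψ, hag, hmap⟩ := hn.2 P φ hφ
    have hχ := fs_restrict_mem F hψ (le_sup_right : Q ≤ P ⊔ Q)
    have hχr : (ψ.comp (Subgroup.inclusion (le_sup_right : Q ≤ P ⊔ Q))).range ≤ Q := by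
      rintro _ ⟨y, rfl⟩
      exact ((map_subgroupOf_sup_eq_iff ψ).1 hmap).1 y
    obtain ⟨β, hβ, hβx⟩ := fs_exists_aut_of_range_le F hχ hχr
    have hle : P ⊔ Subgroup.zpowers (z : Ω) ≤ P ⊔ Q := sup_le_sup_left hzS P
    refine ⟨_, fs_restrict_mem F hψ hle, fun x => hag x, fun q => ?_⟩
    obtain ⟨k, hk⟩ := Subgroup.mem_zpowers_iff.1 q.2
    have e : Subgroup.inclusion hle (Subgroup.inclusion le_sup_right q) =
        Subgroup.inclusion (le_sup_right : Q ≤ P ⊔ Q) (z ^ k) := by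
      apply Subtype.ext
      show (q : Ω) = ((z ^ k : Q) : Ω)
      rw [Subgroup.coe_zpow]
      exact hk.symm
    show ψ (Subgroup.inclusion hle (Subgroup.inclusion le_sup_right q)) = q
    rw [e]
    have h1 := hβx (z ^ k)
    have h2 : ψ (Subgroup.inclusion (le_sup_right : Q ≤ P ⊔ Q) (z ^ k)) = ((β (z ^ k) : Q) : Ω) :=
      h1.symm
    rw [h2, map_zpow, hz β hβ, Subgroup.coe_zpow]
    exact hk
  exact (le_sSup hcen : Subgroup.zpowers (z : Ω) ≤ F.center) (Subgroup.mem_zpowers _)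

theorem fs_fullyNormalized_of_le_normalizer (F : FusionSystem S) [Finite S] {Q : Subgroup Ω}
    (hQS : Q ≤ S) (hN : S ≤ Subgroup.normalizer (Q : Set Ω)) : F.IsFullyNormalized Q := by
  refine ⟨hQS, fun Q' _ => ?_⟩
  have h1 : normalizerIn S Q = S := le_antisymm inf_le_left (fun s hs =>
    Subgroup.mem_inf.2 ⟨hs, hN hs⟩)
  rw [h1]
  exact Nat.card_le_card_of_injective (Subgroup.inclusion (inf_le_left : normalizerIn S Q' ≤ S))
    (Subgroup.inclusion_injective _)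

/-- if `Z(S) ≤ O_p(F)` then `Z(F)` has a complement in `Z(S)` -/
theorem fs_center_complement (F : FusionSystem S) [Finite S] (p : ℕ) [Fact p.Prime]
    (hS : IsPGroup p S) (hF : F.IsSaturated p)
    (hZ : (S ⊓ Subgroup.centralizer (S : Set Ω)) ≤ F.core) :
    ∃ K : Subgroup Ω, K ≤ (S ⊓ Subgroup.centralizer (S : Set Ω)) ∧ F.center ⊓ K = ⊥ ∧
      F.center ⊔ K = (S ⊓ Subgroup.centralizer (S : Set Ω)) := by
  have hp : p.Prime := Fact.out
  have hn := fs_isNormal_core F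
  have hQS : F.core ≤ S := hn.1
  have hsc := fs_normal_stronglyClosed F hn
  have hfn := fs_fullyNormalized_of_le_normalizer F hQS (fs_stronglyClosed_le_normalizer F hsc)
  obtain ⟨hsat1, -⟩ := (fs_saturated_iff F p hS).1 hF
  obtain ⟨-, -, R, hR⟩ := hsat1 _ hfn
  have hfinQ : Finite F.core := finite_of_le_fs hQS
  have hfinA : Finite (F.autGroup F.core) := finite_autGroup F hQS
  have hidx : (((autInducedBy S F.core).subgroupOf (F.autGroup F.core)).index).Coprime p := by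
    rw [← hR]
    exact ((Nat.Prime.coprime_iff_not_dvd hp).2 R.not_dvd_index).symm
  have hc := fs_isCentral_center F
  have hcZ : F.center ≤ S ⊓ Subgroup.centralizer (S : Set Ω) :=
    le_inf hc.1 (center_le_centralizer F)
  obtain ⟨K, hKV, hK1, hK2⟩ := center_trace_decomp (hS.to_le hQS) (F.autGroup F.core)
    ((autInducedBy S F.core).subgroupOf (F.autGroup F.core)) hidx
    ((S ⊓ Subgroup.centralizer (S : Set Ω)).subgroupOf F.core)
    (by
      intro v hv
      rw [Subgroup.mem_center_iff]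
      intro g
      apply Subtype.ext
      exact (Subgroup.mem_centralizer_iff.1 (Subgroup.mem_inf.1 (Subgroup.mem_subgroupOf.1 hv)).2)
        g (hQS g.2))
    (by
      intro v hv t ht
      obtain ⟨g, hg, hgx⟩ := (mem_autInducedBy_iff S F.core _).1 (Subgroup.mem_subgroupOf.1 ht)
      apply Subtype.ext
      rw [hgx v]
      have h1 := (Subgroup.mem_centralizer_iff.1
        (Subgroup.mem_inf.1 (Subgroup.mem_subgroupOf.1 hv)).2) g hg
      rw [h1]
      group)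
    (by
      intro z _ hz
      exact Subgroup.mem_subgroupOf.2 (hcZ (fs_mem_center_of_fixed F hn z hz)))
  refine ⟨K.map (F.core).subtype, ?_, ?_, ?_⟩
  · rintro _ ⟨k, hk, rfl⟩
    exact Subgroup.mem_subgroupOf.1 (hKV hk)
  · rw [eq_bot_iff]
    rintro x ⟨hxc, ⟨k, hk, rfl⟩⟩
    have h1 := hK1 k hk (fun α hα => fs_center_fixed F hQS _ hxc k.2 α hα)
    rw [Subgroup.mem_bot, h1]
    rfl
  · apply le_antisymm
    · refine sup_le hcZ ?_
      rintro _ ⟨k, hk, rfl⟩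
      exact Subgroup.mem_subgroupOf.1 (hKV hk)
    · intro v hv
      obtain ⟨z, -, k, hk, hzfix, hvzk⟩ := hK2 ⟨v, hZ hv⟩ (Subgroup.mem_subgroupOf.2 hv)
      have e : v = (z : Ω) * (k : Ω) := congrArg (fun w : F.core => (w : Ω)) hvzk
      rw [e]
      exact Subgroup.mul_mem _ (Subgroup.mem_sup_left (fs_mem_center_of_fixed F hn z hzfix))
        (Subgroup.mem_sup_right ⟨k, hk, rfl⟩)

end Cfsg.Agent.Lib.Helper8
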