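import Mathlib
import Cfsg.Prelude.Def_FusionSystem
import Cfsg.Agent.Lib.Helper8.FusionHyp
import Cfsg.Agent.Lib.Helper8.FusionAlperin
import Cfsg.Agent.Lib.Helper8.FusionRS
import Cfsg.Agent.Lib.Helper8.FusionAut

set_option autoImplicit false

namespace Cfsg.Agent.Lib.Helper8

open Cfsg Cfsg.FusionSystem

variable {Ω : Type*} [Group Ω] {S T : Subgroup Ω}

/-- `Aut_F(P) = O^p(Aut_F(P)) Aut_S(P)` for fully normalized `P` -/
theorem fs_aut_decomp8 (F : FusionSystem S) [Finite S] (p : ℕ) [Fact p.Prime]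
    (hS : IsPGroup p S) (hF : F.IsSaturated p) {P : Subgroup Ω} (hPn : F.IsFullyNormalized P)
    (β : MulAut P) (hβ : β ∈ F.autGroup P) :
    ∃ r : F.autGroup P, r ∈ pResidual p (F.autGroup P) ∧ ∃ t ∈ autInducedBy S P,
      β = (r : MulAut P) * t := by
  obtain ⟨hPS, R, hR⟩ := (((fs_saturated_iff F p hS).1 hF).1 P hPn).2
  have hfinP : Finite P := finite_of_le_fs hPS
  obtain ⟨r, hr, t, ht, hrt⟩ := exists_mul_pResidual_sylow R (⟨β, hβ⟩ : F.autGroup P)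
  refine ⟨r, hr, (t : MulAut P), ?_, ?_⟩
  · rw [hR, Subgroup.mem_subgroupOf] at ht
    exact ht
  · exact congrArg Subtype.val hrt

/-- Alperin's theorem reduced to automorphisms of `p'`-order -/
theorem fs_le_of_pprime_aut8 (F : FusionSystem S) [Finite S] (p : ℕ) [Fact p.Prime]
    (hS : IsPGroup p S) (hF : F.IsSaturated p) (D : FusionSystem S)
    (h : ∀ P : Subgroup Ω, (P = S ∨ F.IsEssential p P) → ∀ r : F.autGroup P,
      (orderOf r).Coprime p → (r : MulAut P) ∈ D.autGroup P) : F ≤ D := by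
  apply fs_alperin F p hS hF
  intro P hP β hβ
  have hPn : F.IsFullyNormalized P := by
    rcases hP with rfl | hP
    · exact fs_fullyNormalized_top F
    · exact hP.2.1
  have hPS := hPn.1
  obtain ⟨r, hr, t, ht, rfl⟩ := fs_aut_decomp8 F p hS hF hPn β hβ
  refine Subgroup.mul_mem _ ?_ (autInducedBy_le_autGroup D hPS ht)
  have hres : pResidual p (F.autGroup P) ≤ (D.autGroup P).subgroupOf (F.autGroup P) := by
    unfold pResidual
    rw [Subgroup.closure_le]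
    intro r hr
    exact h P hP r hr
  exact hres hr

/-- image of a subgroup of `T` under an automorphism of `T` -/
def imgAut8 (α : MulAut T) (P : Subgroup Ω) : Subgroup Ω :=
  (P.subgroupOf T).map (T.subtype.comp α.toMonoidHom)

theorem mem_imgAut8 (α : MulAut T) {P : Subgroup Ω} {x : Ω} (hx : x ∈ P) (hxT : x ∈ T) :
    ((α ⟨x, hxT⟩ : T) : Ω) ∈ imgAut8 α P :=
  ⟨⟨x, hxT⟩, Subgroup.mem_subgroupOf.2 hx, rfl⟩

theorem imgAut8_le (α : MulAut T) (P : Subgroup Ω) : imgAut8 α P ≤ T := by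
  rintro _ ⟨y, -, rfl⟩
  exact (α y).2

theorem exists_of_mem_imgAut8 (α : MulAut T) {P : Subgroup Ω} {y : Ω} (hy : y ∈ imgAut8 α P) :
    ∃ (x : Ω) (_ : x ∈ P) (hxT : x ∈ T), ((α ⟨x, hxT⟩ : T) : Ω) = y := by
  obtain ⟨z, hz, rfl⟩ := hy
  exact ⟨z.1, Subgroup.mem_subgroupOf.1 hz, z.2, rfl⟩

/-- the conjugate of a fusion system over `T` by an automorphism of `T` -/
def conjSys8 (E : FusionSystem T) (α : MulAut T) : FusionSystem T where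
  Hom P := {φ | P ≤ T ∧ (∀ x : P, φ x ∈ T) ∧ ∃ χ ∈ E.Hom (imgAut8 α P),
    ∀ (x : P) (hxT : (x : Ω) ∈ T) (hφ : φ x ∈ T)
      (hα : ((α ⟨x, hxT⟩ : T) : Ω) ∈ imgAut8 α P),
      χ ⟨(α ⟨x, hxT⟩ : T), hα⟩ = ((α ⟨φ x, hφ⟩ : T) : Ω)}
  le_of_mem := fun h => ⟨h.1, h.2.1⟩
  injective_of_mem := by
    rintro P φ ⟨hPT, hφT, χ, hχ, hrel⟩ a b hab
    have h1 := hrel a (hPT a.2) (hφT a) (mem_imgAut8 α a.2 (hPT a.2))
    have h2 := hrel b (hPT b.2) (hφT b) (mem_imgAut8 α b.2 (hPT b.2))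
    have h3 : ((α ⟨φ a, hφT a⟩ : T) : Ω) = ((α ⟨φ b, hφT b⟩ : T) : Ω) := by
      have e : (⟨φ a, hφT a⟩ : T) = ⟨φ b, hφT b⟩ := Subtype.ext hab
      rw [e]
    have h4 := E.injective_of_mem hχ (h1.trans (h3.trans h2.symm))
    have h4' : ((α ⟨(a : Ω), hPT a.2⟩ : T) : Ω) = ((α ⟨(b : Ω), hPT b.2⟩ : T) : Ω) :=
      congrArg (fun z : imgAut8 α P => (z : Ω)) h4
    have h5 : (α ⟨(a : Ω), hPT a.2⟩ : T) = α ⟨(b : Ω), hPT b.2⟩ := Subtype.ext h4'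
    have h6 := α.injective h5
    have h6' : (a : Ω) = (b : Ω) := congrArg (fun z : T => (z : Ω)) h6
    exact Subtype.ext h6'
  conj_mem := by
    intro P g hP hg
    refine ⟨hP, fun x => T.mul_mem (T.mul_mem hg (hP x.2)) (T.inv_mem hg),
      conjHom (imgAut8 α P) ((α ⟨g, hg⟩ : T) : Ω),
      E.conj_mem (imgAut8_le α P) (α ⟨g, hg⟩).2, ?_⟩
    intro x hxT hφ hα
    show ((α ⟨g, hg⟩ : T) : Ω) * ((α ⟨x, hxT⟩ : T) : Ω) * ((α ⟨g, hg⟩ : T) : Ω)⁻¹ =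
      ((α ⟨conjHom P g x, hφ⟩ : T) : Ω)
    have e : (⟨conjHom P g x, hφ⟩ : T) = ⟨g, hg⟩ * ⟨x, hxT⟩ * (⟨g, hg⟩ : T)⁻¹ :=
      Subtype.ext rfl
    rw [e, map_mul, map_mul, map_inv]
    rfl
  comp_mem := by
    rintro P Q φ ψ ⟨hPT, hφT, χ₁, hχ₁, hrel₁⟩ ⟨hQT, hψT, χ₂, hχ₂, hrel₂⟩ h
    have hval : ∀ z : imgAut8 α P, χ₁ z ∈ imgAut8 α Q := by
      rintro ⟨z, hz⟩
      obtain ⟨x, hx, hxT, rfl⟩ := exists_of_mem_imgAut8 α hz
      rw [hrel₁ ⟨x, hx⟩ hxT (hφT _) hz]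
      exact mem_imgAut8 α (h ⟨x, hx⟩) (hφT _)
    refine ⟨hPT, fun x => hψT _, χ₂.comp (χ₁.codRestrict _ hval),
      E.comp_mem hχ₁ hχ₂ hval, ?_⟩
    intro x hxT hφ hα
    have h1 := hrel₁ x hxT (hφT x) hα
    have h2 := hrel₂ ⟨φ x, h x⟩ (hφT x) (hψT _) (mem_imgAut8 α (h x) (hφT x))
    have e : (χ₁.codRestrict _ hval) ⟨(α ⟨x, hxT⟩ : T), hα⟩ =
        (⟨((α ⟨φ x, hφT x⟩ : T) : Ω), mem_imgAut8 α (h x) (hφT x)⟩ : imgAut8 α Q) :=
      Subtype.ext h1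
    show χ₂ ((χ₁.codRestrict _ hval) ⟨(α ⟨x, hxT⟩ : T), hα⟩) = _
    rw [e]
    exact h2
  inv_mem := by
    rintro P φ ⟨hPT, hφT, χ, hχ, hrel⟩
    have hinj : Function.Injective φ := by
      intro a b hab
      have h1 := hrel a (hPT a.2) (hφT a) (mem_imgAut8 α a.2 (hPT a.2))
      have h2 := hrel b (hPT b.2) (hφT b) (mem_imgAut8 α b.2 (hPT b.2))
      have h3 : ((α ⟨φ a, hφT a⟩ : T) : Ω) = ((α ⟨φ b, hφT b⟩ : T) : Ω) := by
        have e : (⟨φ a, hφT a⟩ : T) = ⟨φ b, hφT b⟩ := Subtype.ext hab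
        rw [e]
      have h4 := E.injective_of_mem hχ (h1.trans (h3.trans h2.symm))
      have h4' : ((α ⟨(a : Ω), hPT a.2⟩ : T) : Ω) = ((α ⟨(b : Ω), hPT b.2⟩ : T) : Ω) :=
        congrArg (fun z : imgAut8 α P => (z : Ω)) h4
      have h5 : (α ⟨(a : Ω), hPT a.2⟩ : T) = α ⟨(b : Ω), hPT b.2⟩ := Subtype.ext h4'
      have h6 := α.injective h5
      have h6' : (a : Ω) = (b : Ω) := congrArg (fun z : T => (z : Ω)) h6
      exact Subtype.ext h6'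
    obtain ⟨χi, hχi, hχinv⟩ := E.inv_mem hχ
    have hψx : ∀ x : P, (P.subtype.comp (MonoidHom.ofInjective hinj).symm.toMonoidHom)
        ⟨φ x, ⟨x, rfl⟩⟩ = (x : Ω) := by
      intro x
      show (((MonoidHom.ofInjective hinj).symm ⟨φ x, ⟨x, rfl⟩⟩ : P) : Ω) = x
      have e : (⟨φ x, ⟨x, rfl⟩⟩ : φ.range) = MonoidHom.ofInjective hinj x := rfl
      rw [e, MulEquiv.symm_apply_apply]
    have hrT : φ.range ≤ T := by
      rintro _ ⟨x, rfl⟩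
      exact hφT x
    have hle : imgAut8 α φ.range ≤ χ.range := by
      intro y hy
      obtain ⟨z, hz, hzT, rfl⟩ := exists_of_mem_imgAut8 α hy
      obtain ⟨x, rfl⟩ := hz
      exact ⟨⟨_, mem_imgAut8 α x.2 (hPT x.2)⟩,
        hrel x (hPT x.2) hzT (mem_imgAut8 α x.2 (hPT x.2))⟩
    refine ⟨P.subtype.comp (MonoidHom.ofInjective hinj).symm.toMonoidHom,
      ⟨hrT, fun y => hPT ((MonoidHom.ofInjective hinj).symm y).2,
        χi.comp (Subgroup.inclusion hle), fs_restrict_mem E hχi hle, ?_⟩, hψx⟩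
    rintro ⟨_, x, rfl⟩ hyT hψ hα
    have h1 := hrel x (hPT x.2) hyT (mem_imgAut8 α x.2 (hPT x.2))
    have h2 := hχinv ⟨_, mem_imgAut8 α x.2 (hPT x.2)⟩
    have e1 : Subgroup.inclusion hle ⟨((α ⟨φ x, hyT⟩ : T) : Ω), hα⟩ =
        (⟨χ ⟨_, mem_imgAut8 α x.2 (hPT x.2)⟩, ⟨_, rfl⟩⟩ : χ.range) :=
      Subtype.ext h1.symm
    show χi (Subgroup.inclusion hle ⟨((α ⟨φ x, hyT⟩ : T) : Ω), hα⟩) = _
    rw [e1, h2]
    have e2 : (⟨(P.subtype.comp (MonoidHom.ofInjective hinj).symm.toMonoidHom)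
        ⟨φ x, ⟨x, rfl⟩⟩, hψ⟩ : T) = ⟨(x : Ω), hPT x.2⟩ := Subtype.ext (hψx x)
    rw [e2]

theorem mem_conjSys8_iff (E : FusionSystem T) (α : MulAut T) (P : Subgroup Ω) (φ : P →* Ω) :
    φ ∈ (conjSys8 E α).Hom P ↔ (P ≤ T ∧ (∀ x : P, φ x ∈ T) ∧ ∃ χ ∈ E.Hom (imgAut8 α P),
    ∀ (x : P) (hxT : (x : Ω) ∈ T) (hφ : φ x ∈ T)
      (hα : ((α ⟨x, hxT⟩ : T) : Ω) ∈ imgAut8 α P),
      χ ⟨(α ⟨x, hxT⟩ : T), hα⟩ = ((α ⟨φ x, hφ⟩ : T) : Ω)) := Iff.rfl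

/-- a saturated subsystem of `p`-power index is invariant under `Aut_F(T)` -/
theorem ppower_le_conjSys8 (F : FusionSystem S) [Finite S] (p : ℕ) [Fact p.Prime]
    (hS : IsPGroup p S) (hTS : T ≤ S) (E : FusionSystem T) (hEs : E.IsSaturated p)
    (hEi : E.HasPPowerIndexIn F p) (α : MulAut T) (hα : α ∈ F.autGroup T) :
    E ≤ conjSys8 E α := by
  have hfinT : Finite T := finite_of_le_fs hTS
  have hTp : IsPGroup p T := hS.to_le hTS
  apply fs_le_of_pprime_aut8 E p hTp hEs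
  intro P hP r hr
  have hPT : P ≤ T := by
    rcases hP with rfl | hP
    · exact le_rfl
    · exact hP.2.1.1
  have hPS : P ≤ S := hPT.trans hTS
  rw [mem_autGroup_iff (conjSys8 E α) hPT]
  have hrE : FsIso E (r : MulAut P) := (mem_autGroup_iff E hPT _).1 r.2
  have hrF : (r : MulAut P) ∈ F.autGroup P := (mem_autGroup_iff F hPS _).2 (hEi.1 P hrE)
  have hαF : T.subtype.comp α.toMonoidHom ∈ F.Hom T := (mem_autGroup_iff F hTS α).1 hα
  have hres : (T.subtype.comp α.toMonoidHom).comp (Subgroup.inclusion hPT) ∈ F.Hom P :=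
    fs_restrict_mem F hαF hPT
  have hrange : ((T.subtype.comp α.toMonoidHom).comp (Subgroup.inclusion hPT)).range =
      imgAut8 α P := by
    ext y
    constructor
    · rintro ⟨x, rfl⟩
      exact mem_imgAut8 α x.2 (hPT x.2)
    · intro hy
      obtain ⟨x, hx, hxT, rfl⟩ := exists_of_mem_imgAut8 α hy
      exact ⟨⟨x, hx⟩, rfl⟩
  have hP'T : imgAut8 α P ≤ T := imgAut8_le α P
  have hP'S : imgAut8 α P ≤ S := hP'T.trans hTS
  have he := fsIso_fsEquiv F hres hrange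
  have hcop : Nat.Coprime (orderOf (⟨(r : MulAut P), hrF⟩ : F.autGroup P)) p := by
    rw [Subgroup.orderOf_mk, Subgroup.orderOf_coe]
    exact hr
  obtain ⟨α', hα', hα'eq⟩ := fs_pResidual_congr F p hPS hP'S _ he ⟨(r : MulAut P), hrF⟩
    (Subgroup.subset_closure hcop)
  have hα'E : (α' : MulAut (imgAut8 α P)) ∈ E.autGroup (imgAut8 α P) :=
    hEi.2.2 (imgAut8 α P) hP'T ⟨α', hα', rfl⟩
  have hχ : (imgAut8 α P).subtype.comp (α' : MulAut (imgAut8 α P)).toMonoidHom ∈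
      E.Hom (imgAut8 α P) := (mem_autGroup_iff E hP'T _).1 hα'E
  refine ⟨hPT, fun x => hPT ((r : MulAut P) x).2, _, hχ, ?_⟩
  intro x hxT hφ hαx
  show (((α' : MulAut (imgAut8 α P)) ⟨(α ⟨x, hxT⟩ : T), hαx⟩ : imgAut8 α P) : Ω) = _
  rw [hα'eq]
  have e1 : (⟨((α ⟨x, hxT⟩ : T) : Ω), hαx⟩ : imgAut8 α P) =
      fsEquiv _ (F.injective_of_mem hres) hrange x := Subtype.ext rfl
  rw [e1]
  show ((fsEquiv _ (F.injective_of_mem hres) hrange ((r : MulAut P)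
    ((fsEquiv _ (F.injective_of_mem hres) hrange).symm
      (fsEquiv _ (F.injective_of_mem hres) hrange x))) : imgAut8 α P) : Ω) = _
  rw [MulEquiv.symm_apply_apply]
  rfl

end Cfsg.Agent.Lib.Helper8
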