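import Mathlib
import Cfsg.Prelude.Def_FusionSystem
import Cfsg.Agent.Lib.Helper8.PPow1
import Cfsg.Agent.Lib.Helper8.FusionHypAut
import Cfsg.Agent.Lib.Helper8.GroupFusion

set_option autoImplicit false

namespace Cfsg.Agent.Lib.Helper8

open Cfsg Cfsg.FusionSystem

variable {Ω : Type*} [Group Ω] {S T : Subgroup Ω}

/-- a normal subgroup of `S` containing the hyperfocal subgroup is strongly closed -/
theorem sc_of_hyp_le8 (F : FusionSystem S) [Finite S] (p : ℕ) [Fact p.Prime]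
    (hS : IsPGroup p S) (hF : F.IsSaturated p) (hTS : T ≤ S) (hTn : (T.subgroupOf S).Normal)
    (hT : F.hyperfocalSubgroup p ≤ T) : F.StronglyClosed T := by
  refine ⟨hTS, ?_⟩
  intro R hR φ hφ x
  obtain ⟨-, s, hs, hsx⟩ := fs_le_congSystem_hyp F p hS hF R hφ
  have h1 := hT (hsx x)
  have h2 : s * (x : Ω) * s⁻¹ ∈ T := by
    have h3 := hTn.conj_mem ⟨(x : Ω), hTS (hR x.2)⟩ (Subgroup.mem_subgroupOf.2 (hR x.2)) ⟨s, hs⟩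
    exact Subgroup.mem_subgroupOf.1 h3
  have e : φ x = s * (x : Ω) * s⁻¹ * ((s * (x : Ω) * s⁻¹)⁻¹ * φ x) := by group
  rw [e]
  exact T.mul_mem h2 h1

/-- conjugation by an element of `S` is in `Aut_F(T)` -/
theorem conjOn_mem_autGroup8 (F : FusionSystem S) (hTS : T ≤ S)
    (hTn : S ≤ Subgroup.normalizer (T : Set Ω)) (s : S) : conjOn T hTn s ∈ F.autGroup T := by
  rw [mem_autGroup_iff F hTS]
  exact fsIso_conj F hTS (Subgroup.inclusion hTn s) s.2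

/-- invariance under conjugation by elements of `S` -/
theorem ppower_conj_inv8 (F : FusionSystem S) [Finite S] (p : ℕ) [Fact p.Prime]
    (hS : IsPGroup p S) (hTS : T ≤ S) (hTn : S ≤ Subgroup.normalizer (T : Set Ω))
    (E : FusionSystem T) (hEs : E.IsSaturated p) (hEi : E.HasPPowerIndexIn F p)
    (s : Ω) (hs : s ∈ S) (R : Subgroup Ω) (ψ₀ : R →* Ω) (hψ₀ : ψ₀ ∈ E.Hom R) :
    ∃ χ ∈ E.Hom (conjSub s R), ∀ (x : R) (hx : s * (x : Ω) * s⁻¹ ∈ conjSub s R),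
      χ ⟨s * x * s⁻¹, hx⟩ = s * ψ₀ x * s⁻¹ := by
  have hRT : R ≤ T := fs_le E hψ₀
  have hle := ppower_le_conjSys8 F p hS hTS E hEs hEi (conjOn T hTn ⟨s, hs⟩)
    (conjOn_mem_autGroup8 F hTS hTn ⟨s, hs⟩)
  obtain ⟨-, hval, χ, hχ, hrel⟩ := hle R hψ₀
  have hsub : conjSub s R ≤ imgAut8 (conjOn T hTn ⟨s, hs⟩) R := by
    intro y hy
    rw [mem_conjSub] at hy
    have h1 := mem_imgAut8 (conjOn T hTn ⟨s, hs⟩) hy (hRT hy)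
    have e : ((conjOn T hTn ⟨s, hs⟩ ⟨s⁻¹ * y * s, hRT hy⟩ : T) : Ω) = y := by
      rw [conjOn_apply]
      group
    rw [e] at h1
    exact h1
  refine ⟨χ.comp (Subgroup.inclusion hsub), fs_restrict_mem E hχ hsub, ?_⟩
  intro x hx
  exact hrel x (hRT x.2) (hval x) (hsub hx)

/-- the system of maps of `F` that are, on the intersection with `T`, a map of `E` followed by
conjugation by an element of `S` -/
def frattSys8 (F : FusionSystem S) (E : FusionSystem T) (hT : F.StronglyClosed T)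
    (hinv : ∀ s ∈ S, ∀ (R : Subgroup Ω) (ψ₀ : R →* Ω), ψ₀ ∈ E.Hom R →
      ∃ χ ∈ E.Hom (conjSub s R), ∀ (x : R) (hx : s * (x : Ω) * s⁻¹ ∈ conjSub s R),
        χ ⟨s * x * s⁻¹, hx⟩ = s * ψ₀ x * s⁻¹) : FusionSystem S where
  Hom P := {φ | φ ∈ F.Hom P ∧ ∃ s ∈ S, ∃ φ₀ ∈ E.Hom (P ⊓ T),
    ∀ x : ↥(P ⊓ T), φ ⟨(x : Ω), x.2.1⟩ = s * φ₀ x * s⁻¹}
  le_of_mem := fun h => F.le_of_mem h.1
  injective_of_mem := fun h => F.injective_of_mem h.1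
  conj_mem := by
    intro P g hP hg
    exact ⟨F.conj_mem hP hg, g, hg, (P ⊓ T).subtype, fs_subtype_mem E inf_le_right, fun x => rfl⟩
  comp_mem := by
    rintro P Q φ ψ ⟨hφ, s, hs, φ₀, hφ₀, hφrel⟩ ⟨hψ, t, ht, ψ₀, hψ₀, hψrel⟩ h
    obtain ⟨χ, hχ, hχrel⟩ := hinv s⁻¹ (S.inv_mem hs) (Q ⊓ T) ψ₀ hψ₀
    have hφQT : ∀ x : ↥(P ⊓ T), φ ⟨(x : Ω), x.2.1⟩ ∈ Q ⊓ T := fun x =>
      ⟨h _, fs_sc_map_mem F hT hφ ⟨(x : Ω), x.2.1⟩ x.2.2⟩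
    have hval : ∀ x : ↥(P ⊓ T), φ₀ x ∈ conjSub s⁻¹ (Q ⊓ T) := by
      intro x
      rw [mem_conjSub, inv_inv]
      have h1 := hφQT x
      rw [hφrel x] at h1
      exact h1
    refine ⟨F.comp_mem hφ hψ h, t * s, S.mul_mem ht hs, χ.comp (φ₀.codRestrict _ hval),
      E.comp_mem hφ₀ hχ hval, ?_⟩
    intro x
    have h1 := hψrel ⟨φ ⟨(x : Ω), x.2.1⟩, hφQT x⟩
    have hmem : s⁻¹ * φ ⟨(x : Ω), x.2.1⟩ * s⁻¹⁻¹ ∈ conjSub s⁻¹ (Q ⊓ T) := by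
      rw [mem_conjSub]
      have e : s⁻¹⁻¹ * (s⁻¹ * φ ⟨(x : Ω), x.2.1⟩ * s⁻¹⁻¹) * s⁻¹ = φ ⟨(x : Ω), x.2.1⟩ := by group
      rw [e]
      exact hφQT x
    have h2 := hχrel ⟨φ ⟨(x : Ω), x.2.1⟩, hφQT x⟩ hmem
    have e3 : (φ₀.codRestrict _ hval) x =
        (⟨s⁻¹ * φ ⟨(x : Ω), x.2.1⟩ * s⁻¹⁻¹, hmem⟩ : conjSub s⁻¹ (Q ⊓ T)) := by
      apply Subtype.ext
      show φ₀ x = s⁻¹ * φ ⟨(x : Ω), x.2.1⟩ * s⁻¹⁻¹
      rw [hφrel x]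
      group
    show ψ ⟨φ ⟨(x : Ω), x.2.1⟩, h _⟩ = t * s * χ ((φ₀.codRestrict _ hval) x) * (t * s)⁻¹
    rw [e3, h2]
    have h1' : ψ ⟨φ ⟨(x : Ω), x.2.1⟩, h _⟩ =
        t * ψ₀ ⟨φ ⟨(x : Ω), x.2.1⟩, hφQT x⟩ * t⁻¹ := h1
    rw [h1']
    group
  inv_mem := by
    rintro P φ ⟨hφ, s, hs, φ₀, hφ₀, hφrel⟩
    obtain ⟨ψ, hψ, hψinv⟩ := F.inv_mem hφ
    obtain ⟨φ₀i, hφ₀i, hφ₀inv⟩ := E.inv_mem hφ₀
    obtain ⟨χ, hχ, hχrel⟩ := hinv s hs φ₀.range φ₀i hφ₀i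
    have hpre : ∀ y : ↥(φ.range ⊓ T), ∃ x : ↥(P ⊓ T), φ ⟨(x : Ω), x.2.1⟩ = (y : Ω) := by
      rintro ⟨y, ⟨x, rfl⟩, hyT⟩
      have hxT : (x : Ω) ∈ T := by
        have h1 := fs_sc_map_mem F hT hψ ⟨φ x, ⟨x, rfl⟩⟩ hyT
        rw [hψinv x] at h1
        exact h1
      exact ⟨⟨(x : Ω), ⟨x.2, hxT⟩⟩, rfl⟩
    have hle : φ.range ⊓ T ≤ conjSub s φ₀.range := by
      intro y hy
      obtain ⟨x, hx⟩ := hpre ⟨y, hy⟩
      rw [mem_conjSub]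
      refine ⟨x, ?_⟩
      have h1 := hφrel x
      have hx' : φ ⟨(x : Ω), x.2.1⟩ = y := hx
      rw [hx'] at h1
      rw [h1]
      group
    refine ⟨ψ, ⟨hψ, s⁻¹, S.inv_mem hs, χ.comp (Subgroup.inclusion hle),
      fs_restrict_mem E hχ hle, ?_⟩, hψinv⟩
    intro y
    obtain ⟨x, hx⟩ := hpre y
    have h1 : ψ ⟨(y : Ω), y.2.1⟩ = (x : Ω) := by
      have h2 := hψinv ⟨(x : Ω), x.2.1⟩
      have e : (⟨(y : Ω), y.2.1⟩ : φ.range) = ⟨φ ⟨(x : Ω), x.2.1⟩, ⟨_, rfl⟩⟩ :=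
        Subtype.ext hx.symm
      rw [e]
      exact h2
    have hy2 : (y : Ω) = s * φ₀ x * s⁻¹ := by
      rw [← hx]
      exact hφrel x
    have hmem : s * ((⟨φ₀ x, ⟨x, rfl⟩⟩ : φ₀.range) : Ω) * s⁻¹ ∈ conjSub s φ₀.range := by
      rw [mem_conjSub]
      have e : s⁻¹ * (s * φ₀ x * s⁻¹) * s = φ₀ x := by group
      show s⁻¹ * (s * φ₀ x * s⁻¹) * s ∈ φ₀.range
      rw [e]
      exact ⟨x, rfl⟩
    have h3 := hχrel ⟨φ₀ x, ⟨x, rfl⟩⟩ hmem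
    rw [hφ₀inv x] at h3
    have e4 : Subgroup.inclusion hle y =
        (⟨s * ((⟨φ₀ x, ⟨x, rfl⟩⟩ : φ₀.range) : Ω) * s⁻¹, hmem⟩ : conjSub s φ₀.range) :=
      Subtype.ext hy2
    show ψ ⟨(y : Ω), y.2.1⟩ = s⁻¹ * χ (Subgroup.inclusion hle y) * s⁻¹⁻¹
    rw [e4, h3, h1]
    group

/-- the Frattini property of a subsystem of `p`-power index -/
theorem ppower_le_frattSys8 (F : FusionSystem S) [Finite S] (p : ℕ) [Fact p.Prime]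
    (hS : IsPGroup p S) (hF : F.IsSaturated p) (hT : F.StronglyClosed T) (E : FusionSystem T)
    (hEi : E.HasPPowerIndexIn F p)
    (hinv : ∀ s ∈ S, ∀ (R : Subgroup Ω) (ψ₀ : R →* Ω), ψ₀ ∈ E.Hom R →
      ∃ χ ∈ E.Hom (conjSub s R), ∀ (x : R) (hx : s * (x : Ω) * s⁻¹ ∈ conjSub s R),
        χ ⟨s * x * s⁻¹, hx⟩ = s * ψ₀ x * s⁻¹) : F ≤ frattSys8 F E hT hinv := by
  apply fs_le_of_pprime_aut8 F p hS hF
  intro P hP r hr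
  have hPS : P ≤ S := by
    rcases hP with rfl | hP
    · exact le_rfl
    · exact hP.2.1.1
  rw [mem_autGroup_iff (frattSys8 F E hT hinv) hPS]
  have hrF : P.subtype.comp (r : MulAut P).toMonoidHom ∈ F.Hom P :=
    (mem_autGroup_iff F hPS _).1 r.2
  have hres := fs_restrict_mem F hrF (inf_le_left : P ⊓ T ≤ P)
  have hrle : ((P.subtype.comp (r : MulAut P).toMonoidHom).comp
      (Subgroup.inclusion (inf_le_left : P ⊓ T ≤ P))).range ≤ P ⊓ T := by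
    rintro _ ⟨x, rfl⟩
    exact ⟨((r : MulAut P) ⟨(x : Ω), x.2.1⟩).2,
      fs_sc_map_mem F hT hrF ⟨(x : Ω), x.2.1⟩ x.2.2⟩
  obtain ⟨β, hβ, hβx⟩ := fs_exists_aut_of_range_le F hres hrle
  have hdvd : orderOf β ∣ orderOf (r : MulAut P) :=
    orderOf_dvd_of_restrict8 (Subgroup.inclusion (inf_le_left : P ⊓ T ≤ P))
      (Subgroup.inclusion_injective _) β (r : MulAut P) (fun x => Subtype.ext (hβx x).symm)
  have hcop : Nat.Coprime (orderOf (⟨β, hβ⟩ : F.autGroup (P ⊓ T))) p := by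
    rw [Subgroup.orderOf_mk]
    rw [← Subgroup.orderOf_coe] at hr
    exact Nat.Coprime.coprime_dvd_left hdvd hr
  have hmem : (⟨β, hβ⟩ : F.autGroup (P ⊓ T)) ∈ pResidual p (F.autGroup (P ⊓ T)) :=
    Subgroup.subset_closure hcop
  have hβE : β ∈ E.autGroup (P ⊓ T) :=
    hEi.2.2 (P ⊓ T) inf_le_right ⟨⟨β, hβ⟩, hmem, rfl⟩
  have hφ₀ := (mem_autGroup_iff E inf_le_right β).1 hβE
  refine ⟨hrF, 1, S.one_mem, _, hφ₀, ?_⟩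
  intro x
  show (((r : MulAut P) ⟨(x : Ω), x.2.1⟩ : P) : Ω) = 1 * ((β x : ↥(P ⊓ T)) : Ω) * 1⁻¹
  rw [hβx x, one_mul, inv_one, mul_one]
  rfl

end Cfsg.Agent.Lib.Helper8
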