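import Mathlib
import Cfsg.Prelude.Def_FusionSystem
import Cfsg.Agent.Lib.Helper8.PPow2
import Cfsg.Agent.Lib.Helper8.Fusion4
import Cfsg.Agent.Lib.Helper8.FusionCenterSplit
import Cfsg.Agent.Lib.Helper8.FusionChain
import Cfsg.Agent.Lib.Helper8.FusionSat

set_option autoImplicit false

namespace Cfsg.Agent.Lib.Helper8

open Cfsg Cfsg.FusionSystem

variable {Ω : Type*} [Group Ω] {S T : Subgroup Ω}

/-- the extension property of an automorphism of `T` -/
def ExtProp8 (F : FusionSystem S) (T : Subgroup Ω) (α : MulAut T) : Prop :=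
  ∃ β ∈ F.autGroup (T ⊔ centralizerIn S T),
    (∀ x : T, ((β (Subgroup.inclusion le_sup_left x) : ↥(T ⊔ centralizerIn S T)) : Ω) =
      ((α x : T) : Ω)) ∧
    ∀ c : ↥(T ⊔ centralizerIn S T), (c : Ω) ∈ centralizerIn S T →
      (c : Ω)⁻¹ * ((β c : ↥(T ⊔ centralizerIn S T)) : Ω) ∈ T ⊓ Subgroup.centralizer (T : Set Ω)

/-- an automorphism of `T` preserves the centre -/
theorem aut_center8 (α : MulAut T) (z : T) (hz : (z : Ω) ∈ Subgroup.centralizer (T : Set Ω)) :
    ((α z : T) : Ω) ∈ T ⊓ Subgroup.centralizer (T : Set Ω) := by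
  refine ⟨(α z).2, ?_⟩
  show ((α z : T) : Ω) ∈ Subgroup.centralizer (T : Set Ω)
  rw [Subgroup.mem_centralizer_iff]
  intro t ht
  have h2 : α.symm ⟨t, ht⟩ * z = z * α.symm ⟨t, ht⟩ := by
    apply Subtype.ext
    rw [Subgroup.mem_centralizer_iff] at hz
    exact hz _ (α.symm ⟨t, ht⟩).2
  have h3 := congrArg (fun y : T => ((α y : T) : Ω)) h2
  simp only [map_mul, MulEquiv.apply_symm_apply, Subgroup.coe_mul] at h3
  exact h3

/-- an automorphism of `W ≥ T` extending an automorphism of `T` preserves the centralizer of `T` -/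
theorem ext_maps_cent8 {W : Subgroup Ω} (hTW : T ≤ W) (α : MulAut T) (β : MulAut W)
    (hext : ∀ x : T, β (Subgroup.inclusion hTW x) = Subgroup.inclusion hTW (α x))
    (c : W) (hc : (c : Ω) ∈ Subgroup.centralizer (T : Set Ω)) :
    ((β c : W) : Ω) ∈ Subgroup.centralizer (T : Set Ω) := by
  rw [Subgroup.mem_centralizer_iff]
  intro t ht
  have h2 : Subgroup.inclusion hTW (α.symm ⟨t, ht⟩) * c =
      c * Subgroup.inclusion hTW (α.symm ⟨t, ht⟩) := by
    apply Subtype.ext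
    rw [Subgroup.mem_centralizer_iff] at hc
    exact hc _ (α.symm ⟨t, ht⟩).2
  have h3 := congrArg (fun y : W => ((β y : W) : Ω)) h2
  simp only [map_mul, hext, MulEquiv.apply_symm_apply, Subgroup.coe_mul] at h3
  exact h3

theorem extProp_one8 (F : FusionSystem S) (T : Subgroup Ω) : ExtProp8 F T 1 := by
  refine ⟨1, Subgroup.one_mem _, fun x => rfl, ?_⟩
  intro c hc
  show (c : Ω)⁻¹ * (c : Ω) ∈ _
  rw [inv_mul_cancel]
  exact Subgroup.one_mem _

theorem extProp_mul8 (F : FusionSystem S) (T : Subgroup Ω) {α₁ α₂ : MulAut T}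
    (h₁ : ExtProp8 F T α₁) (h₂ : ExtProp8 F T α₂) : ExtProp8 F T (α₁ * α₂) := by
  obtain ⟨β₁, hβ₁, hext₁, hc₁⟩ := h₁
  obtain ⟨β₂, hβ₂, hext₂, hc₂⟩ := h₂
  refine ⟨β₁ * β₂, Subgroup.mul_mem _ hβ₁ hβ₂, ?_, ?_⟩
  · intro x
    have e : β₂ (Subgroup.inclusion le_sup_left x) = Subgroup.inclusion le_sup_left (α₂ x) :=
      Subtype.ext (hext₂ x)
    show ((β₁ (β₂ (Subgroup.inclusion le_sup_left x)) : ↥(T ⊔ centralizerIn S T)) : Ω) =
      ((α₁ (α₂ x) : T) : Ω)
    rw [e, hext₁]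
  · intro c hc
    have hz := hc₂ c hc
    obtain ⟨z, hzdef⟩ : ∃ z : T, (z : Ω) = (c : Ω)⁻¹ * ((β₂ c : ↥(T ⊔ centralizerIn S T)) : Ω) :=
      ⟨⟨_, hz.1⟩, rfl⟩
    have hz2 : (z : Ω) ∈ Subgroup.centralizer (T : Set Ω) := by
      rw [hzdef]
      exact hz.2
    have e : β₂ c = c * Subgroup.inclusion le_sup_left z := by
      apply Subtype.ext
      show ((β₂ c : ↥(T ⊔ centralizerIn S T)) : Ω) = (c : Ω) * (z : Ω)
      rw [hzdef, mul_inv_cancel_left]
    have e2 : (c : Ω)⁻¹ * (((β₁ * β₂) c : ↥(T ⊔ centralizerIn S T)) : Ω) =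
        ((c : Ω)⁻¹ * ((β₁ c : ↥(T ⊔ centralizerIn S T)) : Ω)) * ((α₁ z : T) : Ω) := by
      show (c : Ω)⁻¹ * ((β₁ (β₂ c) : ↥(T ⊔ centralizerIn S T)) : Ω) = _
      rw [e, map_mul, Subgroup.coe_mul, hext₁, mul_assoc]
    rw [e2]
    exact Subgroup.mul_mem _ (hc₁ c hc) (aut_center8 α₁ z hz2)

theorem extProp_pow8 (F : FusionSystem S) (T : Subgroup Ω) {α : MulAut T}
    (h : ExtProp8 F T α) (n : ℕ) : ExtProp8 F T (α ^ n) := by
  induction n with
  | zero =>
    rw [pow_zero]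
    exact extProp_one8 F T
  | succ n ih =>
    rw [pow_succ]
    exact extProp_mul8 F T ih h

theorem extProp_inv8 (F : FusionSystem S) (T : Subgroup Ω) [Finite T] {α : MulAut T}
    (h : ExtProp8 F T α) : ExtProp8 F T α⁻¹ := by
  have hpos : 0 < orderOf α := orderOf_pos α
  have e : α⁻¹ = α ^ (orderOf α - 1) := by
    apply inv_eq_of_mul_eq_one_left
    rw [← pow_succ, Nat.sub_add_cancel hpos, pow_orderOf_eq_one]
  rw [e]
  exact extProp_pow8 F T h _

/-- automorphisms of `p'`-order of a strongly closed subgroup containing the hyperfocal subgroup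
have the extension property -/
theorem ext_of_pprime8 (F : FusionSystem S) [Finite S] (p : ℕ) [Fact p.Prime]
    (hS : IsPGroup p S) (hF : F.IsSaturated p) (hsc : F.StronglyClosed T)
    (hT : F.hyperfocalSubgroup p ≤ T) (α : MulAut T) (hα : α ∈ F.autGroup T)
    (hcop : (orderOf α).Coprime p) : ExtProp8 F T α := by
  have hp : p.Prime := Fact.out
  have hTS : T ≤ S := hsc.1
  have hfinT : Finite T := finite_of_le_fs hTS
  have hTn : S ≤ Subgroup.normalizer (T : Set Ω) := fs_stronglyClosed_le_normalizer F hsc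
  have hTfn : F.IsFullyNormalized T := fs_fullyNormalized_of_le_normalizer F hTS hTn
  obtain ⟨hn, hcr⟩ := (fs_saturated_iff F p hS).1 hF
  have hrec : F.IsReceptive T := hcr T (hn T hTfn).1
  have hφ : T.subtype.comp α.toMonoidHom ∈ F.Hom T := (mem_autGroup_iff F hTS α).1 hα
  have hrange : (T.subtype.comp α.toMonoidHom).range = T := by
    ext y
    constructor
    · rintro ⟨x, rfl⟩
      exact (α x).2
    · intro hy
      refine ⟨α.symm ⟨y, hy⟩, ?_⟩
      show ((α (α.symm ⟨y, hy⟩) : T) : Ω) = y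
      rw [α.apply_symm_apply]
  obtain ⟨ψ, hψ, hψx⟩ := hrec.2 T _ hφ hrange
  have hCS : centralizerIn S T ≤ S := inf_le_left
  have hWS : T ⊔ centralizerIn S T ≤ S := sup_le hTS hCS
  have hWle : T ⊔ centralizerIn S T ≤ extender S T (T.subtype.comp α.toMonoidHom) :=
    sup_le (le_extender F hφ) (centralizerIn_le_extender S T _)
  have hχ := fs_restrict_mem F hψ hWle
  have hχT : ∀ x : T, (ψ.comp (Subgroup.inclusion hWle)) (Subgroup.inclusion le_sup_left x) =
      ((α x : T) : Ω) := by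
    intro x
    exact hψx (x : Ω) x.2 (hWle ((le_sup_left : T ≤ T ⊔ centralizerIn S T) x.2))
  have hχC : ∀ c : ↥(T ⊔ centralizerIn S T), (c : Ω) ∈ centralizerIn S T →
      (ψ.comp (Subgroup.inclusion hWle)) c ∈ centralizerIn S T := by
    intro c hc
    refine ⟨fs_map_mem F hχ c, ?_⟩
    show (ψ.comp (Subgroup.inclusion hWle)) c ∈ Subgroup.centralizer (T : Set Ω)
    rw [Subgroup.mem_centralizer_iff]
    intro t ht
    have h2 : Subgroup.inclusion (le_sup_left : T ≤ T ⊔ centralizerIn S T) (α.symm ⟨t, ht⟩) * c =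
        c * Subgroup.inclusion le_sup_left (α.symm ⟨t, ht⟩) := by
      apply Subtype.ext
      exact (Subgroup.mem_centralizer_iff.1 hc.2) _ (α.symm ⟨t, ht⟩).2
    have h3 := congrArg (fun w : ↥(T ⊔ centralizerIn S T) =>
      (ψ.comp (Subgroup.inclusion hWle)) w) h2
    simp only [map_mul] at h3
    rw [hχT, α.apply_symm_apply] at h3
    exact h3
  have hrle : (ψ.comp (Subgroup.inclusion hWle)).range ≤ T ⊔ centralizerIn S T := by
    rintro _ ⟨w, rfl⟩
    have hw2 : (w : Ω) ∈ centralizerIn S T ⊔ T := by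
      rw [sup_comm]
      exact w.2
    obtain ⟨c, hc, t, ht, hw⟩ := exists_mul_of_mem_sup8 (centralizerIn S T) T
      (fun c hc => Subgroup.centralizer_le_normalizer _ hc.2) hw2
    have ew : w = Subgroup.inclusion le_sup_right (⟨c, hc⟩ : centralizerIn S T) *
        Subgroup.inclusion le_sup_left (⟨t, ht⟩ : T) := Subtype.ext hw
    rw [ew, map_mul]
    refine Subgroup.mul_mem _ ((le_sup_right : centralizerIn S T ≤ T ⊔ centralizerIn S T)
      (hχC _ hc)) ((le_sup_left : T ≤ T ⊔ centralizerIn S T) ?_)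
    rw [hχT]
    exact (α _).2
  obtain ⟨β₀, hβ₀, hβ₀x⟩ := fs_exists_aut_of_range_le F hχ hrle
  have hext₀ : ∀ x : T, β₀ (Subgroup.inclusion le_sup_left x) =
      Subgroup.inclusion le_sup_left (α x) := by
    intro x
    apply Subtype.ext
    rw [hβ₀x]
    exact hχT x
  have hfinW : Finite ↥(T ⊔ centralizerIn S T) := finite_of_le_fs hWS
  have hpos : orderOf β₀ ≠ 0 := (orderOf_pos β₀).ne'
  obtain ⟨a, m, hm, ho⟩ := Nat.exists_eq_pow_mul_and_not_dvd hpos p hp.ne_one
  have hmcop : Nat.Coprime m p := ((Nat.Prime.coprime_iff_not_dvd hp).2 hm).symm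
  have hj : ∃ j : ℕ, α ^ (p ^ a * j) = α := by
    by_cases h1 : orderOf α = 1
    · refine ⟨0, ?_⟩
      rw [orderOf_eq_one_iff] at h1
      rw [h1]
      simp
    · have hαpos : 0 < orderOf α := orderOf_pos α
      have h1' : 1 < orderOf α := by omega
      have hc' : Nat.Coprime (p ^ a) (orderOf α) := (Nat.Coprime.pow_right a hcop).symm
      obtain ⟨j, -, hj⟩ := Nat.exists_mul_mod_eq_one_of_coprime hc' h1'
      refine ⟨j, ?_⟩
      rw [← pow_mod_orderOf, hj, pow_one]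
  obtain ⟨j, hj⟩ := hj
  have hβmem : β₀ ^ (p ^ a * j) ∈ F.autGroup (T ⊔ centralizerIn S T) :=
    Subgroup.pow_mem _ hβ₀ _
  have hext : ∀ x : T, (β₀ ^ (p ^ a * j)) (Subgroup.inclusion le_sup_left x) =
      Subgroup.inclusion le_sup_left (α x) := by
    intro x
    have h1 := induced_pow8 (Subgroup.inclusion (le_sup_left : T ≤ T ⊔ centralizerIn S T))
      α β₀ hext₀ (p ^ a * j) x
    rw [hj] at h1
    exact h1
  have hord : orderOf (β₀ ^ (p ^ a * j)) ∣ m := by
    apply orderOf_dvd_of_pow_eq_one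
    rw [← pow_mul, mul_assoc, mul_comm j m, ← mul_assoc, ← ho, pow_mul, pow_orderOf_eq_one,
      one_pow]
  have hres : (⟨β₀ ^ (p ^ a * j), hβmem⟩ : F.autGroup (T ⊔ centralizerIn S T)) ∈
      pResidual p (F.autGroup (T ⊔ centralizerIn S T)) := by
    apply Subgroup.subset_closure
    show Nat.Coprime (orderOf (⟨β₀ ^ (p ^ a * j), hβmem⟩ :
      F.autGroup (T ⊔ centralizerIn S T))) p
    rw [Subgroup.orderOf_mk]
    exact Nat.Coprime.coprime_dvd_left hord hmcop
  refine ⟨β₀ ^ (p ^ a * j), hβmem,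
    fun x => congrArg (fun y : ↥(T ⊔ centralizerIn S T) => (y : Ω)) (hext x), ?_⟩
  intro c hc
  refine ⟨hT (Subgroup.subset_closure ⟨T ⊔ centralizerIn S T, ⟨β₀ ^ (p ^ a * j), hβmem⟩, c,
    hWS, hres, rfl⟩), ?_⟩
  apply Subgroup.mul_mem
  · exact Subgroup.inv_mem _ hc.2
  · exact ext_maps_cent8 le_sup_left α _ hext c hc.2

/-- inner automorphisms have the extension property -/
theorem ext_of_conj8 (F : FusionSystem S) (hTS : T ≤ S) (α : MulAut T) (g : Ω) (hg : g ∈ T)
    (hα : ∀ x : T, ((α x : T) : Ω) = g * (x : Ω) * g⁻¹) : ExtProp8 F T α := by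
  have hWS : T ⊔ centralizerIn S T ≤ S := sup_le hTS inf_le_left
  have hgW : g ∈ T ⊔ centralizerIn S T := (le_sup_left : T ≤ T ⊔ centralizerIn S T) hg
  have hgN : g ∈ Subgroup.normalizer ((T ⊔ centralizerIn S T : Subgroup Ω) : Set Ω) :=
    Subgroup.le_normalizer hgW
  refine ⟨(T ⊔ centralizerIn S T).normalizerMonoidHom ⟨g, hgN⟩, ?_, ?_, ?_⟩
  · rw [mem_autGroup_iff F hWS]
    exact fsIso_conj F hWS ⟨g, hgN⟩ (hTS hg)
  · intro x
    rw [hα]
    rfl
  · intro c hc
    have h1 : g * (c : Ω) = (c : Ω) * g := (Subgroup.mem_centralizer_iff.1 hc.2) g hg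
    have e : (c : Ω)⁻¹ * ((((T ⊔ centralizerIn S T).normalizerMonoidHom ⟨g, hgN⟩) c :
        ↥(T ⊔ centralizerIn S T)) : Ω) = 1 := by
      show (c : Ω)⁻¹ * (g * (c : Ω) * g⁻¹) = 1
      rw [h1]
      group
    rw [e]
    exact Subgroup.one_mem _

/-- the extension condition for a saturated subsystem over a strongly closed subgroup containing
the hyperfocal subgroup -/
theorem ppower_ext8 (F : FusionSystem S) [Finite S] (p : ℕ) [Fact p.Prime]
    (hS : IsPGroup p S) (hF : F.IsSaturated p) (hsc : F.StronglyClosed T)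
    (hT : F.hyperfocalSubgroup p ≤ T) (E : FusionSystem T) (hEs : E.IsSaturated p)
    (hEF : E.IsSubsystemOf F) (α : MulAut T) (hα : α ∈ E.autGroup T) : ExtProp8 F T α := by
  have hTS : T ≤ S := hsc.1
  have hfinT : Finite T := finite_of_le_fs hTS
  have hTp : IsPGroup p T := hS.to_le hTS
  obtain ⟨r, hr, t, ht, rfl⟩ := fs_aut_decomp8 E p hTp hEs (fs_fullyNormalized_top E) α hα
  clear hα
  apply extProp_mul8
  · unfold pResidual at hr
    induction hr using Subgroup.closure_induction with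
    | mem a ha =>
      apply ext_of_pprime8 F p hS hF hsc hT
      · exact (mem_autGroup_iff F hTS _).2 (hEF T ((mem_autGroup_iff E le_rfl _).1 a.2))
      · rw [Subgroup.orderOf_coe]
        exact ha
    | one => exact extProp_one8 F T
    | mul a b _ _ iha ihb => exact extProp_mul8 F T iha ihb
    | inv a _ iha => exact extProp_inv8 F T iha
  · obtain ⟨g, hg, hgx⟩ := (mem_autInducedBy_iff T T t).1 ht
    exact ext_of_conj8 F hTS t g hg hgx

/-- a saturated subsystem of `p`-power index over a normal subgroup of `S` is normal -/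
theorem ppower_normal8 (F : FusionSystem S) [Finite S] (p : ℕ) [Fact p.Prime]
    (hS : IsPGroup p S) (hF : F.IsSaturated p) (hTS : T ≤ S) (hTn : (T.subgroupOf S).Normal)
    (hT : F.hyperfocalSubgroup p ≤ T) (E : FusionSystem T) (hEs : E.IsSaturated p)
    (hEi : E.HasPPowerIndexIn F p) : E.IsNormalIn F p := by
  have hsc := sc_of_hyp_le8 F p hS hF hTS hTn hT
  have hTn' := fs_stronglyClosed_le_normalizer F hsc
  have hinv := ppower_conj_inv8 F p hS hTS hTn' E hEs hEi
  refine ⟨⟨hEs, hF, hEi.1, hsc, ?_, ?_⟩, ?_⟩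
  · intro P hPT φ hφ α hα
    have hle := ppower_le_conjSys8 F p hS hTS E hEs hEi α hα
    obtain ⟨-, hval, χ, hχ, hrel⟩ := hle P hφ
    exact ⟨χ, hχ, fun x hφx hαx => hrel x (hPT x.2) hφx hαx⟩
  · intro P hPT φ hφ
    have hle := ppower_le_frattSys8 F p hS hF hsc E hEi hinv
    obtain ⟨-, s, hs, φ₀, hφ₀, hrel⟩ := hle P hφ
    refine ⟨conjOn T hTn' ⟨s, hs⟩, conjOn_mem_autGroup8 F hTS hTn' ⟨s, hs⟩,
      φ₀.comp (Subgroup.inclusion (le_inf le_rfl hPT)),
      fs_restrict_mem E hφ₀ (le_inf le_rfl hPT), ?_⟩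
    intro x hx
    rw [conjOn_apply]
    exact hrel ⟨(x : Ω), ⟨x.2, hPT x.2⟩⟩
  · intro α hα
    exact ppower_ext8 F p hS hF hsc hT E hEs hEi.1 α hα

end Cfsg.Agent.Lib.Helper8
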