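import Mathlib
import Cfsg.Prelude.Def_FusionSystem
import Cfsg.Agent.Lib.Helper8.PPow3
import Cfsg.Agent.Lib.Helper8.GroupFusionNormal
import Cfsg.Agent.Lib.Helper8.FusionMod
import Cfsg.Agent.Lib.Helper8.FusionAlperin

set_option autoImplicit false

namespace Cfsg.Agent.Lib.Helper8

open Cfsg Cfsg.FusionSystem

variable {Ω : Type*} [Group Ω] {S T : Subgroup Ω}

/-- the strong invariance condition -/
def StrongInv8 (F : FusionSystem S) (E : FusionSystem T) : Prop :=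
  ∀ (P Q : Subgroup Ω) (hPQ : P ≤ Q) (_ : Q ≤ T) (φ : P →* Ω) (_ : φ ∈ E.Hom P)
    (hφQ : ∀ x : P, φ x ∈ Q) (ψ : Q →* Ω) (_ : ψ ∈ F.Hom Q),
    ∃ χ ∈ E.Hom ((P.subgroupOf Q).map ψ),
      ∀ (x : P) (hx : ψ (Subgroup.inclusion hPQ x) ∈ (P.subgroupOf Q).map ψ),
        χ ⟨ψ (Subgroup.inclusion hPQ x), hx⟩ = ψ ⟨φ x, hφQ x⟩

theorem si_le_conjSys8 (F : FusionSystem S) (E : FusionSystem T) (hSI : StrongInv8 F E)
    (hTS : T ≤ S) (α : MulAut T) (hα : α ∈ F.autGroup T) : E ≤ conjSys8 E α := by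
  intro P φ hφ
  rw [mem_conjSys8_iff]
  have hPT : P ≤ T := fs_le E hφ
  refine ⟨hPT, fun x => fs_map_mem E hφ x, ?_⟩
  obtain ⟨χ, hχ, hrel⟩ := hSI P T hPT le_rfl φ hφ (fun x => fs_map_mem E hφ x)
    (T.subtype.comp α.toMonoidHom) ((mem_autGroup_iff F hTS α).1 hα)
  exact ⟨χ, hχ, fun x hxT hφx hαx => hrel x hαx⟩

theorem si_aut_conj8 (F : FusionSystem S) (E : FusionSystem T) (hSI : StrongInv8 F E)
    (hTS : T ≤ S) {R : Subgroup Ω} (hRT : R ≤ T) (a b : MulAut R) (ha : a ∈ F.autGroup R)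
    (hb : b ∈ E.autGroup R) : a * b * a⁻¹ ∈ E.autGroup R := by
  have hRS : R ≤ S := hRT.trans hTS
  have haF : R.subtype.comp a.toMonoidHom ∈ F.Hom R := (mem_autGroup_iff F hRS a).1 ha
  have hbE : R.subtype.comp b.toMonoidHom ∈ E.Hom R := (mem_autGroup_iff E hRT b).1 hb
  obtain ⟨χ, hχ, hrel⟩ := hSI R R le_rfl hRT _ hbE (fun x => (b x).2) _ haF
  have hle : R ≤ (R.subgroupOf R).map (R.subtype.comp a.toMonoidHom) := by
    intro y hy
    refine ⟨a⁻¹ ⟨y, hy⟩, Subgroup.mem_subgroupOf.2 (a⁻¹ ⟨y, hy⟩).2, ?_⟩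
    show ((a (a⁻¹ ⟨y, hy⟩) : R) : Ω) = y
    rw [MulAut.apply_inv_self]
  rw [mem_autGroup_iff E hRT]
  have h1 := fs_restrict_mem E hχ hle
  have e : R.subtype.comp (a * b * a⁻¹).toMonoidHom = χ.comp (Subgroup.inclusion hle) := by
    ext y
    have hy2 : (R.subtype.comp a.toMonoidHom) (Subgroup.inclusion (le_refl R) (a⁻¹ y)) ∈
        (R.subgroupOf R).map (R.subtype.comp a.toMonoidHom) :=
      ⟨_, Subgroup.mem_subgroupOf.2 (a⁻¹ y).2, rfl⟩
    have h2 := hrel (a⁻¹ y) hy2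
    show ((a (b (a⁻¹ y)) : R) : Ω) = χ (Subgroup.inclusion hle y)
    have e2 : Subgroup.inclusion hle y =
        ⟨(R.subtype.comp a.toMonoidHom) (Subgroup.inclusion (le_refl R) (a⁻¹ y)), hy2⟩ := by
      apply Subtype.ext
      show (y : Ω) = ((a (a⁻¹ y) : R) : Ω)
      rw [MulAut.apply_inv_self]
    rw [e2, h2]
    rfl
  unfold FsIso
  rw [e]
  exact h1

/-- the system of maps of `F` between subgroups of `T` that are a map of `E` followed by an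
element of `Aut_F(T)` -/
def frattT8 (F : FusionSystem S) (E : FusionSystem T) (hT : F.StronglyClosed T)
    (hinv : ∀ α ∈ F.autGroup T, E ≤ conjSys8 E α) : FusionSystem T where
  Hom P := {φ | φ ∈ F.Hom P ∧ P ≤ T ∧ ∃ α ∈ F.autGroup T, ∃ φ₀ ∈ E.Hom P,
    ∀ (x : P) (hx : φ₀ x ∈ T), φ x = ((α ⟨φ₀ x, hx⟩ : T) : Ω)}
  le_of_mem := fun h => ⟨h.2.1, fun x => fs_sc_map_mem F hT h.1 x (h.2.1 x.2)⟩
  injective_of_mem := fun h => F.injective_of_mem h.1
  conj_mem := by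
    intro P g hP hg
    exact ⟨F.conj_mem (hP.trans hT.1) (hT.1 hg), hP, 1, Subgroup.one_mem _, conjHom P g,
      E.conj_mem hP hg, fun x hx => rfl⟩
  comp_mem := by
    rintro P Q φ ψ ⟨hφ, hPT, α, hα, φ₀, hφ₀, hφrel⟩ ⟨hψ, hQT, α', hα', ψ₀, hψ₀, hψrel⟩ h
    obtain ⟨-, hψ₀T, χ, hχ, hχrel⟩ := hinv α⁻¹ (Subgroup.inv_mem _ hα) Q hψ₀
    have hφ₀T : ∀ x : P, φ₀ x ∈ T := fun x => fs_map_mem E hφ₀ x
    have hφT : ∀ x : P, φ x ∈ T := fun x => hQT (h x)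
    have hkey : ∀ x : P, (α⁻¹ ⟨φ x, hφT x⟩ : T) = ⟨φ₀ x, hφ₀T x⟩ := by
      intro x
      have e : (⟨φ x, hφT x⟩ : T) = α ⟨φ₀ x, hφ₀T x⟩ := Subtype.ext (hφrel x (hφ₀T x))
      rw [e, MulAut.inv_apply_self]
    have hval : ∀ x : P, φ₀ x ∈ imgAut8 α⁻¹ Q := by
      intro x
      have h1 := mem_imgAut8 α⁻¹ (h x) (hφT x)
      rw [hkey x] at h1
      exact h1
    refine ⟨F.comp_mem hφ hψ h, hPT, α' * α, Subgroup.mul_mem _ hα' hα,
      χ.comp (φ₀.codRestrict _ hval), E.comp_mem hφ₀ hχ hval, ?_⟩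
    intro x hx
    have hmem : ((α⁻¹ ⟨φ x, hφT x⟩ : T) : Ω) ∈ imgAut8 α⁻¹ Q :=
      mem_imgAut8 α⁻¹ (h x) (hφT x)
    have h2 := hχrel ⟨φ x, h x⟩ (hφT x) (hψ₀T _) hmem
    have e3 : (φ₀.codRestrict _ hval) x =
        (⟨((α⁻¹ ⟨φ x, hφT x⟩ : T) : Ω), hmem⟩ : imgAut8 α⁻¹ Q) := by
      apply Subtype.ext
      show φ₀ x = ((α⁻¹ ⟨φ x, hφT x⟩ : T) : Ω)
      rw [hkey x]
    have e4 : (⟨(χ.comp (φ₀.codRestrict _ hval)) x, hx⟩ : T) =
        α⁻¹ ⟨ψ₀ ⟨φ x, h x⟩, hψ₀T _⟩ := by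
      apply Subtype.ext
      show χ ((φ₀.codRestrict _ hval) x) = _
      rw [e3]
      exact h2
    rw [e4]
    show ψ ⟨φ x, h x⟩ = ((α' (α (α⁻¹ ⟨ψ₀ ⟨φ x, h x⟩, hψ₀T _⟩)) : T) : Ω)
    rw [MulAut.apply_inv_self]
    exact hψrel ⟨φ x, h x⟩ (hψ₀T _)
  inv_mem := by
    rintro P φ ⟨hφ, hPT, α, hα, φ₀, hφ₀, hφrel⟩
    obtain ⟨ψ, hψ, hψinv⟩ := F.inv_mem hφ
    obtain ⟨φ₀i, hφ₀i, hφ₀inv⟩ := E.inv_mem hφ₀
    obtain ⟨-, -, χ, hχ, hχrel⟩ := hinv α hα φ₀.range hφ₀i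
    have hφ₀T : ∀ x : P, φ₀ x ∈ T := fun x => fs_map_mem E hφ₀ x
    have hrT : φ.range ≤ T := by
      rintro _ ⟨x, rfl⟩
      exact fs_sc_map_mem F hT hφ x (hPT x.2)
    have hmem : ∀ x : P, ((α ⟨φ₀ x, hφ₀T x⟩ : T) : Ω) ∈ imgAut8 α φ₀.range := fun x =>
      mem_imgAut8 α (⟨x, rfl⟩ : φ₀ x ∈ φ₀.range) (hφ₀T x)
    have hle : φ.range ≤ imgAut8 α φ₀.range := by
      rintro _ ⟨x, rfl⟩
      rw [hφrel x (hφ₀T x)]
      exact hmem x
    refine ⟨ψ, ⟨hψ, hrT, α⁻¹, Subgroup.inv_mem _ hα, χ.comp (Subgroup.inclusion hle),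
      fs_restrict_mem E hχ hle, ?_⟩, hψinv⟩
    rintro ⟨_, x, rfl⟩ hy
    have hprf : φ₀i ⟨φ₀ x, ⟨x, rfl⟩⟩ ∈ T := by
      rw [hφ₀inv x]
      exact hPT x.2
    have h1 := hχrel ⟨φ₀ x, ⟨x, rfl⟩⟩ (hφ₀T x) hprf (hmem x)
    have e0 : (⟨φ₀i ⟨φ₀ x, ⟨x, rfl⟩⟩, hprf⟩ : T) = ⟨(x : Ω), hPT x.2⟩ :=
      Subtype.ext (hφ₀inv x)
    rw [e0] at h1
    have e1 : Subgroup.inclusion hle ⟨φ x, ⟨x, rfl⟩⟩ =
        (⟨((α ⟨φ₀ x, hφ₀T x⟩ : T) : Ω), hmem x⟩ : imgAut8 α φ₀.range) :=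
      Subtype.ext (hφrel x (hφ₀T x))
    have e2 : (⟨(χ.comp (Subgroup.inclusion hle)) ⟨φ x, ⟨x, rfl⟩⟩, hy⟩ : T) =
        α ⟨(x : Ω), hPT x.2⟩ := by
      apply Subtype.ext
      show χ (Subgroup.inclusion hle ⟨φ x, ⟨x, rfl⟩⟩) = _
      rw [e1]
      exact h1
    rw [e2, MulAut.inv_apply_self]
    exact hψinv x

theorem le_frattT8 (F : FusionSystem S) (E : FusionSystem T) (hT : F.StronglyClosed T)
    (hinv : ∀ α ∈ F.autGroup T, E ≤ conjSys8 E α) (hE : E.IsSubsystemOf F) :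
    E ≤ frattT8 F E hT hinv := by
  intro P φ hφ
  exact ⟨hE P hφ, fs_le E hφ, 1, Subgroup.one_mem _, φ, hφ, fun x hx => rfl⟩

theorem top_frattT8 (F : FusionSystem S) [Finite S] (E : FusionSystem T)
    (hT : F.StronglyClosed T) (hinv : ∀ α ∈ F.autGroup T, E ≤ conjSys8 E α) :
    F.Hom T ⊆ (frattT8 F E hT hinv).Hom T := by
  intro φ hφ
  have hTS := hT.1
  have hle : φ.range ≤ T := by
    rintro _ ⟨x, rfl⟩
    exact hT.2 T le_rfl φ hφ x
  have hr := fs_range_eq_of_le F hφ hle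
  exact ⟨hφ, le_rfl, fsEquiv φ (F.injective_of_mem hφ) hr,
    (mem_autGroup_iff F hTS _).2 (fsIso_fsEquiv F hφ hr), T.subtype, fs_subtype_mem E le_rfl,
    fun x hx => rfl⟩

/-- the Frattini argument: automorphisms of a fully normalized subgroup of `T` -/
theorem fratt_aut8 (F : FusionSystem S) [Finite S] (p : ℕ) [Fact p.Prime]
    (hS : IsPGroup p S) (hF : F.IsSaturated p) (E D : FusionSystem T) (hTS : T ≤ S)
    (hE : E.IsSubsystemOf F) (hED : E ≤ D)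
    {R : Subgroup Ω} (hRT : R ≤ T) (hRn : F.IsFullyNormalized R)
    (hnorm : ∀ a b : MulAut R, a ∈ F.autGroup R → b ∈ E.autGroup R →
      a * b * a⁻¹ ∈ E.autGroup R)
    (ih : F.Hom (normalizerIn T R) ⊆ D.Hom (normalizerIn T R)) :
    F.autGroup R ≤ D.autGroup R := by
  have hRS : R ≤ S := hRT.trans hTS
  obtain ⟨hn, hcr⟩ := (fs_saturated_iff F p hS).1 hF
  obtain ⟨hRc, -, Syl, hSyl⟩ := hn R hRn
  have hrec : F.IsReceptive R := hcr R hRc
  have hfinA : Finite (F.autGroup R) := finite_autGroup F hRS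
  have hEA : E.autGroup R ≤ F.autGroup R := by
    intro b hb
    exact (mem_autGroup_iff F hRS b).2 (hE R ((mem_autGroup_iff E hRT b).1 hb))
  have hN : ((E.autGroup R).subgroupOf (F.autGroup R)).Normal := by
    constructor
    intro b hb a
    rw [Subgroup.mem_subgroupOf] at hb ⊢
    exact hnorm a b a.2 hb
  obtain ⟨SylB, hSylB⟩ := sylow_inf_normal p Syl ((E.autGroup R).subgroupOf (F.autGroup R))
  have hfr := Sylow.normalizer_sup_eq_top SylB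
  intro a ha
  have hmem : (⟨a, ha⟩ : F.autGroup R) ∈
      Subgroup.normalizer (((SylB : Subgroup ((E.autGroup R).subgroupOf (F.autGroup R))).map
        ((E.autGroup R).subgroupOf (F.autGroup R)).subtype : Subgroup (F.autGroup R)) :
          Set (F.autGroup R)) ⊔ (E.autGroup R).subgroupOf (F.autGroup R) := by
    rw [hfr]
    exact Subgroup.mem_top _
  have hNtop : Subgroup.normalizer ((((E.autGroup R).subgroupOf (F.autGroup R) :
      Subgroup (F.autGroup R))) : Set (F.autGroup R)) = ⊤ := Subgroup.normalizer_eq_top _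
  obtain ⟨n, hn', b, hb, hab⟩ := exists_mul_of_mem_sup8 _ _ (by
    rw [hNtop]
    exact le_top) hmem
  have hbD : (b : MulAut R) ∈ D.autGroup R := by
    rw [Subgroup.mem_subgroupOf] at hb
    exact (mem_autGroup_iff D hRT _).2 (hED R ((mem_autGroup_iff E hRT _).1 hb))
  have hnD : (n : MulAut R) ∈ D.autGroup R := by
    have hnF : R.subtype.comp (n : MulAut R).toMonoidHom ∈ F.Hom R :=
      (mem_autGroup_iff F hRS _).1 n.2
    have hNle : normalizerIn T R ≤ extender S R (R.subtype.comp (n : MulAut R).toMonoidHom) := by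
      intro g hg
      have hgT : g ∈ T := hg.1
      have hgN : g ∈ Subgroup.normalizer (R : Set Ω) := hg.2
      apply mem_extender_of_conj_mem (n : MulAut R) (hTS hgT) hgN
      have hcS : R.normalizerMonoidHom ⟨g, hgN⟩ ∈ autInducedBy S R :=
        (mem_autInducedBy_iff S R _).2 ⟨g, hTS hgT, fun x => rfl⟩
      have hcE : R.normalizerMonoidHom ⟨g, hgN⟩ ∈ E.autGroup R :=
        autInducedBy_le_autGroup E hRT ((mem_autInducedBy_iff T R _).2 ⟨g, hgT, fun x => rfl⟩)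
      have hcA : R.normalizerMonoidHom ⟨g, hgN⟩ ∈ F.autGroup R := hEA hcE
      have hcN : (⟨_, hcA⟩ : F.autGroup R) ∈ (E.autGroup R).subgroupOf (F.autGroup R) :=
        Subgroup.mem_subgroupOf.2 hcE
      have hcSyl : (⟨⟨_, hcA⟩, hcN⟩ : (E.autGroup R).subgroupOf (F.autGroup R)) ∈
          (SylB : Subgroup ((E.autGroup R).subgroupOf (F.autGroup R))) := by
        rw [hSylB, Subgroup.mem_subgroupOf]
        refine ⟨?_, hcN⟩
        show (⟨_, hcA⟩ : F.autGroup R) ∈ (Syl : Subgroup (F.autGroup R))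
        rw [hSyl, Subgroup.mem_subgroupOf]
        exact hcS
      have hcmap : (⟨_, hcA⟩ : F.autGroup R) ∈
          (SylB : Subgroup ((E.autGroup R).subgroupOf (F.autGroup R))).map
            ((E.autGroup R).subgroupOf (F.autGroup R)).subtype :=
        ⟨⟨⟨_, hcA⟩, hcN⟩, hcSyl, rfl⟩
      have h3 := (Subgroup.mem_normalizer_iff.1 hn' ⟨_, hcA⟩).1 hcmap
      obtain ⟨z, hz, hzeq⟩ := h3
      have hz' : z ∈ (SylB : Subgroup ((E.autGroup R).subgroupOf (F.autGroup R))) := hz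
      rw [hSylB, Subgroup.mem_subgroupOf] at hz'
      have hz1 : (z : F.autGroup R) ∈ (Syl : Subgroup (F.autGroup R)) := hz'.1
      rw [hSyl, Subgroup.mem_subgroupOf] at hz1
      have e : ((z : F.autGroup R) : MulAut R) =
          (n : MulAut R) * R.normalizerMonoidHom ⟨g, hgN⟩ * (n : MulAut R)⁻¹ :=
        congrArg (fun w : F.autGroup R => (w : MulAut R)) hzeq
      rw [← e]
      exact hz1
    obtain ⟨θ, hθ, hθx⟩ := fs_receptive_extend F hrec hnF (fsIso_range _)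
      (le_normalizerIn hRT) hNle
    have hθD := ih hθ
    have h1 := fs_restrict_mem D hθD (le_normalizerIn hRT)
    rw [mem_autGroup_iff D hRT]
    have e : R.subtype.comp (n : MulAut R).toMonoidHom =
        θ.comp (Subgroup.inclusion (le_normalizerIn hRT)) := by
      ext x
      exact (hθx x).symm
    unfold FsIso
    rw [e]
    exact h1
  have e : a = (n : MulAut R) * (b : MulAut R) :=
    congrArg (fun w : F.autGroup R => (w : MulAut R)) hab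
  rw [e]
  exact Subgroup.mul_mem _ hnD hbD

theorem si_frattini_aux8 (F : FusionSystem S) [Finite S] (p : ℕ) [Fact p.Prime]
    (hS : IsPGroup p S) (hF : F.IsSaturated p) (E D : FusionSystem T)
    (hE : E.IsSubsystemOf F) (hT : F.StronglyClosed T) (hED : E ≤ D)
    (hnorm : ∀ R : Subgroup Ω, R ≤ T → ∀ a b : MulAut R, a ∈ F.autGroup R →
      b ∈ E.autGroup R → a * b * a⁻¹ ∈ E.autGroup R)
    (htop : F.Hom T ⊆ D.Hom T) :
    ∀ (n : ℕ) (P : Subgroup Ω), P ≤ T → Nat.card T - Nat.card P = n →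
      F.Hom P ⊆ D.Hom P := by
  have hTS : T ≤ S := hT.1
  have hfinT : Finite T := finite_of_le_fs hTS
  have hTp : IsPGroup p T := hS.to_le hTS
  obtain ⟨hn, hc⟩ := (fs_saturated_iff F p hS).1 hF
  intro n
  induction n using Nat.strong_induction_on with
  | _ n ih =>
    intro P hPT hPn φ hφ
    have hPS : P ≤ S := hPT.trans hTS
    have ih' : ∀ P' : Subgroup Ω, P' ≤ T → Nat.card P < Nat.card P' →
        F.Hom P' ⊆ D.Hom P' := by
      intro P' hP'T hlt ψ hψ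
      have h6 : Nat.card P' ≤ Nat.card T := Subgroup.card_le_of_le hP'T
      exact ih (Nat.card T - Nat.card P') (by omega) P' hP'T rfl hψ
    by_cases hPeq : P = T
    · subst hPeq
      exact htop hφ
    obtain ⟨R, hconj, hRn⟩ := exists_fullyNormalized_conj F hPS
    obtain ⟨hRc, hRa⟩ := hn R hRn
    have hRr := hc R hRc
    have hRS := hRn.1
    have hRT : R ≤ T := by
      obtain ⟨φ', hφ', rfl⟩ := hconj
      rintro _ ⟨x, rfl⟩
      exact hT.2 P hPT φ' hφ' x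
    have hQT : φ.range ≤ T := by
      rintro _ ⟨x, rfl⟩
      exact hT.2 P hPT φ hφ x
    have hconjQ : F.IsConj φ.range R :=
      fs_isConj_trans F (fs_isConj_symm F ⟨φ, hφ, rfl⟩) hconj
    have hcardQ : Nat.card φ.range = Nat.card P :=
      (Nat.card_congr (MonoidHom.ofInjective (F.injective_of_mem hφ)).toEquiv).symm
    have hcardne : ∀ P' : Subgroup Ω, P' ≤ T → Nat.card P' = Nat.card P → P' ≠ T := by
      intro P' hP'T hcard' h
      apply hPeq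
      apply Subgroup.eq_of_le_of_card_ge hPT
      rw [← hcard', h]
    have hstep : ∀ P' : Subgroup Ω, P' ≤ T → F.IsConj P' R → Nat.card P' = Nat.card P →
        ∃ e' : P' ≃* R, FsIso F e' ∧ FsIso D e' := by
      intro P' hP'T hc' hcard'
      have hP'ne : P' ≠ T := hcardne P' hP'T hcard'
      obtain ⟨χ, hχ, hχN, hχP⟩ := fs_exists_normalizer_map F p hS R P' hRa hRr hc'
      have hlt := normalizerIn_card_lt hTp hP'T hP'ne
      have hNle : normalizerIn T P' ≤ normalizerIn S P' := inf_le_inf_right _ hTS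
      have hχ1 : χ.comp (Subgroup.inclusion hNle) ∈ F.Hom (normalizerIn T P') :=
        fs_restrict_mem F hχ hNle
      have hχD : χ.comp (Subgroup.inclusion hNle) ∈ D.Hom (normalizerIn T P') :=
        ih' _ (normalizerIn_le T P') (by rw [← hcard']; exact hlt) hχ1
      have hP'N : P' ≤ normalizerIn T P' := le_normalizerIn hP'T
      have hr : ((χ.comp (Subgroup.inclusion hNle)).comp (Subgroup.inclusion hP'N)).range =
          R := by
        rw [← hχP]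
        ext y
        constructor
        · rintro ⟨x, rfl⟩
          exact ⟨Subgroup.inclusion (hP'N.trans hNle) x, Subgroup.mem_subgroupOf.2 x.2, rfl⟩
        · rintro ⟨x, hx, rfl⟩
          exact ⟨⟨x.1, Subgroup.mem_subgroupOf.1 hx⟩, rfl⟩
      have h1 := fs_restrict_mem F hχ1 hP'N
      have h2 := fs_restrict_mem D hχD hP'N
      exact ⟨fsEquiv _ (F.injective_of_mem h1) hr, fsIso_fsEquiv F h1 hr,
        fsIso_fsEquiv D h2 hr⟩
    obtain ⟨e₁, he₁F, he₁D⟩ := hstep P hPT hconj rfl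
    obtain ⟨e₂, he₂F, he₂D⟩ := hstep φ.range hQT hconjQ hcardQ
    have heF : FsIso F (fsEquiv φ (F.injective_of_mem hφ) rfl) := fsIso_fsEquiv F hφ rfl
    have hαF : FsIso F ((e₁.symm.trans (fsEquiv φ (F.injective_of_mem hφ) rfl)).trans e₂) :=
      fsIso_trans F (fsIso_trans F (fsIso_symm F he₁F) heF) he₂F
    have hcardR : Nat.card R = Nat.card P := (Nat.card_congr e₁.toEquiv).symm
    have hRne : R ≠ T := hcardne R hRT hcardR
    have hαD : FsIso D ((e₁.symm.trans (fsEquiv φ (F.injective_of_mem hφ) rfl)).trans e₂) := by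
      have hmem : ((e₁.symm.trans (fsEquiv φ (F.injective_of_mem hφ) rfl)).trans e₂ :
          MulAut R) ∈ F.autGroup R := (mem_autGroup_iff F hRS _).2 hαF
      apply (mem_autGroup_iff D hRT _).1
      have hlt := normalizerIn_card_lt hTp hRT hRne
      exact fratt_aut8 F p hS hF E D hTS hE hED hRT hRn (hnorm R hRT)
        (ih' _ (normalizerIn_le T R) (by rw [← hcardR]; exact hlt)) hmem
    have hfin : FsIso D (e₁.trans
        (((e₁.symm.trans (fsEquiv φ (F.injective_of_mem hφ) rfl)).trans e₂).trans e₂.symm)) :=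
      fsIso_trans D he₁D (fsIso_trans D hαD (fsIso_symm D he₂D))
    have e : φ.range.subtype.comp (e₁.trans
        (((e₁.symm.trans (fsEquiv φ (F.injective_of_mem hφ) rfl)).trans e₂).trans
          e₂.symm)).toMonoidHom = φ := by
      ext x
      simp [fsEquiv_apply]
    rw [← e]
    exact hfin

/-- strong invariance implies invariance -/
theorem si_invariant8 (F : FusionSystem S) [Finite S] (p : ℕ) [Fact p.Prime]
    (hS : IsPGroup p S) (hF : F.IsSaturated p) (E : FusionSystem T)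
    (hE : E.IsSubsystemOf F) (hT : F.StronglyClosed T) (hSI : StrongInv8 F E) :
    E.IsInvariantIn F := by
  have hTS := hT.1
  have hinv : ∀ α ∈ F.autGroup T, E ≤ conjSys8 E α :=
    fun α hα => si_le_conjSys8 F E hSI hTS α hα
  refine ⟨hE, hT, ?_, ?_⟩
  · intro P hPT φ hφ α hα
    obtain ⟨-, hval, χ, hχ, hrel⟩ := hinv α hα P hφ
    exact ⟨χ, hχ, fun x hφx hαx => hrel x (hPT x.2) hφx hαx⟩
  · intro P hPT φ hφ
    have h := si_frattini_aux8 F p hS hF E (frattT8 F E hT hinv) hE hT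
      (le_frattT8 F E hT hinv hE)
      (fun R hRT a b ha hb => si_aut_conj8 F E hSI hTS hRT a b ha hb)
      (top_frattT8 F E hT hinv) _ P hPT rfl hφ
    obtain ⟨-, -, α, hα, φ₀, hφ₀, hrel⟩ := h
    exact ⟨α, hα, φ₀, hφ₀, hrel⟩

/-- invariance implies strong invariance -/
theorem invariant_si8 (F : FusionSystem S) (E : FusionSystem T) (h : E.IsInvariantIn F) :
    StrongInv8 F E := by
  obtain ⟨hE, hT, hinv, hfr⟩ := h
  intro P Q hPQ hQT φ hφ hφQ ψ hψ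
  obtain ⟨α, hα, ψ₀, hψ₀, hψrel⟩ := hfr Q hQT ψ hψ
  have hψ₀T : ∀ y : Q, ψ₀ y ∈ T := fun y => fs_map_mem E hψ₀ y
  have hres : ψ₀.comp (Subgroup.inclusion hPQ) ∈ E.Hom P := fs_restrict_mem E hψ₀ hPQ
  obtain ⟨ι, hι, hιinv⟩ := E.inv_mem hres
  have hιP : ∀ y, ι y ∈ P := by
    rintro ⟨_, x, rfl⟩
    rw [hιinv x]
    exact x.2
  have h1 := E.comp_mem hι hφ hιP
  have h1Q : ∀ y, (φ.comp (ι.codRestrict P hιP)) y ∈ Q := fun y => hφQ _
  have h2 := E.comp_mem h1 hψ₀ h1Q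
  have hRT : (ψ₀.comp (Subgroup.inclusion hPQ)).range ≤ T := by
    rintro _ ⟨x, rfl⟩
    exact hψ₀T _
  obtain ⟨χ₂, hχ₂, hχ₂rel⟩ := hinv _ hRT _ h2 α hα
  have hle : (P.subgroupOf Q).map ψ ≤
      ((ψ₀.comp (Subgroup.inclusion hPQ)).range.subgroupOf T).map
        (T.subtype.comp α.toMonoidHom) := by
    rintro _ ⟨y, hy, rfl⟩
    rw [hψrel y (hψ₀T y)]
    refine ⟨⟨ψ₀ y, hψ₀T y⟩, ?_, rfl⟩
    show ψ₀ y ∈ (ψ₀.comp (Subgroup.inclusion hPQ)).range
    exact ⟨⟨(y : Ω), Subgroup.mem_subgroupOf.1 hy⟩, rfl⟩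
  refine ⟨χ₂.comp (Subgroup.inclusion hle), fs_restrict_mem E hχ₂ hle, ?_⟩
  intro x hx
  have hyR : ψ₀ (Subgroup.inclusion hPQ x) ∈ (ψ₀.comp (Subgroup.inclusion hPQ)).range :=
    ⟨x, rfl⟩
  have hαy : ((α ⟨ψ₀ (Subgroup.inclusion hPQ x), hRT hyR⟩ : T) : Ω) ∈
      ((ψ₀.comp (Subgroup.inclusion hPQ)).range.subgroupOf T).map
        (T.subtype.comp α.toMonoidHom) :=
    ⟨⟨_, hRT hyR⟩, Subgroup.mem_subgroupOf.2 hyR, rfl⟩
  have hχ₁T : (ψ₀.comp ((φ.comp (ι.codRestrict P hιP)).codRestrict Q h1Q))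
      ⟨ψ₀ (Subgroup.inclusion hPQ x), hyR⟩ ∈ T := hψ₀T _
  have h3 := hχ₂rel ⟨ψ₀ (Subgroup.inclusion hPQ x), hyR⟩ hχ₁T hαy
  have e1 : Subgroup.inclusion hle ⟨ψ (Subgroup.inclusion hPQ x), hx⟩ =
      ⟨((α ⟨ψ₀ (Subgroup.inclusion hPQ x), hRT hyR⟩ : T) : Ω), hαy⟩ :=
    Subtype.ext (hψrel _ (hψ₀T _))
  show χ₂ (Subgroup.inclusion hle ⟨ψ (Subgroup.inclusion hPQ x), hx⟩) = _
  rw [e1, h3, hψrel ⟨φ x, hφQ x⟩ (hψ₀T _)]
  have e3 : (⟨ι ⟨ψ₀ (Subgroup.inclusion hPQ x), hyR⟩, hιP _⟩ : P) = x :=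
    Subtype.ext (hιinv x)
  have e4 : (⟨φ ⟨ι ⟨ψ₀ (Subgroup.inclusion hPQ x), hyR⟩, hιP _⟩, hφQ _⟩ : Q) =
      ⟨φ x, hφQ x⟩ := by
    apply Subtype.ext
    show φ ⟨ι ⟨ψ₀ (Subgroup.inclusion hPQ x), hyR⟩, hιP _⟩ = φ x
    rw [e3]
  have e2 : (⟨(ψ₀.comp ((φ.comp (ι.codRestrict P hιP)).codRestrict Q h1Q))
      ⟨ψ₀ (Subgroup.inclusion hPQ x), hyR⟩, hχ₁T⟩ : T) = ⟨ψ₀ ⟨φ x, hφQ x⟩, hψ₀T _⟩ := by
    apply Subtype.ext
    exact congrArg (fun q : Q => ψ₀ q) e4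
  rw [e2]

end Cfsg.Agent.Lib.Helper8
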