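import Mathlib
import Cfsg.Prelude.Def_FusionSystem
import Cfsg.Agent.Lib.Helper8.PInv1
import Cfsg.Agent.Lib.Helper8.FusionCentricGen

set_option autoImplicit false

namespace Cfsg.Agent.Lib.Helper8

open Cfsg Cfsg.FusionSystem

variable {Ω : Type*} [Group Ω] {S T : Subgroup Ω}

/-- an element of `p`-power order is conjugate into a given Sylow `p`-subgroup -/
theorem pelt_conj_sylow8 {G : Type*} [Group G] [Finite G] {p : ℕ} [Fact p.Prime]
    (Syl : Sylow p G) (b : G) (hb : ∃ k : ℕ, orderOf b = p ^ k) :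
    ∃ g : G, g * b * g⁻¹ ∈ (Syl : Subgroup G) := by
  obtain ⟨k, hk⟩ := hb
  have hz : IsPGroup p (Subgroup.zpowers b) := by
    apply IsPGroup.of_card (n := k)
    rw [Nat.card_zpowers, hk]
  obtain ⟨Q, hQ⟩ := hz.exists_le_sylow
  obtain ⟨g, hg⟩ := MulAction.exists_smul_eq G Q Syl
  have hPmem : ∀ y : G, y ∈ (Syl : Subgroup G) ↔ g⁻¹ * y * g ∈ (Q : Subgroup G) := by
    intro y
    rw [← hg, Sylow.coe_subgroup_smul, Subgroup.mem_pointwise_smul_iff_inv_smul_mem]
    have e : (MulAut.conj g)⁻¹ • y = g⁻¹ * y * g := by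
      rw [← map_inv]
      show g⁻¹ * y * g⁻¹⁻¹ = _
      rw [inv_inv]
    rw [e]
  refine ⟨g, ?_⟩
  rw [hPmem]
  have e : g⁻¹ * (g * b * g⁻¹) * g = b := by group
  rw [e]
  exact hQ (Subgroup.mem_zpowers b)

/-- the generic Frattini argument: automorphisms of a fully normalized subgroup of `T` -/
theorem fratt_aut_gen8 (F : FusionSystem S) [Finite S] (p : ℕ) [Fact p.Prime]
    (hS : IsPGroup p S) (hF : F.IsSaturated p) (D : FusionSystem T) (hTS : T ≤ S)
    {R : Subgroup Ω} (hRT : R ≤ T) (hRn : F.IsFullyNormalized R)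
    (B : Subgroup (MulAut R)) (hBA : B ≤ F.autGroup R)
    (hnorm : ∀ a b : MulAut R, a ∈ F.autGroup R → b ∈ B → a * b * a⁻¹ ∈ B)
    (hBD : B ≤ D.autGroup R) (hTB : autInducedBy T R ≤ B)
    (ih : F.Hom (normalizerIn T R) ⊆ D.Hom (normalizerIn T R)) :
    F.autGroup R ≤ D.autGroup R := by
  have hRS : R ≤ S := hRT.trans hTS
  obtain ⟨hn, hcr⟩ := (fs_saturated_iff F p hS).1 hF
  obtain ⟨hRc, -, Syl, hSyl⟩ := hn R hRn
  have hrec : F.IsReceptive R := hcr R hRc
  have hfinA : Finite (F.autGroup R) := finite_autGroup F hRS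
  have hN : (B.subgroupOf (F.autGroup R)).Normal := by
    constructor
    intro b hb a
    rw [Subgroup.mem_subgroupOf] at hb ⊢
    exact hnorm a b a.2 hb
  obtain ⟨SylB, hSylB⟩ := sylow_inf_normal p Syl (B.subgroupOf (F.autGroup R))
  have hfr := Sylow.normalizer_sup_eq_top SylB
  intro a ha
  have hmem : (⟨a, ha⟩ : F.autGroup R) ∈
      Subgroup.normalizer (((SylB : Subgroup (B.subgroupOf (F.autGroup R))).map
        (B.subgroupOf (F.autGroup R)).subtype : Subgroup (F.autGroup R)) :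
          Set (F.autGroup R)) ⊔ B.subgroupOf (F.autGroup R) := by
    rw [hfr]
    exact Subgroup.mem_top _
  have hNtop : Subgroup.normalizer (((B.subgroupOf (F.autGroup R) :
      Subgroup (F.autGroup R))) : Set (F.autGroup R)) = ⊤ := Subgroup.normalizer_eq_top _
  obtain ⟨n, hn', b, hb, hab⟩ := exists_mul_of_mem_sup8 _ _ (by
    rw [hNtop]
    exact le_top) hmem
  have hbD : (b : MulAut R) ∈ D.autGroup R := by
    rw [Subgroup.mem_subgroupOf] at hb
    exact hBD hb
  have hnD : (n : MulAut R) ∈ D.autGroup R := by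
    have hnF : R.subtype.comp (n : MulAut R).toMonoidHom ∈ F.Hom R :=
      (mem_autGroup_iff F hRS _).1 n.2
    have hNle : normalizerIn T R ≤ extender S R (R.subtype.comp (n : MulAut R).toMonoidHom) := by
      intro g hg
      have hgT : g ∈ T := hg.1
      have hgN : g ∈ Subgroup.normalizer (R : Set Ω) := hg.2
      apply mem_extender_of_conj_mem (n : MulAut R) (hTS hgT) hgN
      have hcS : R.normalizerMonoidHom ⟨g, hgN⟩ ∈ autInducedBy S R :=
        (mem_autInducedBy_iff S R _).2 ⟨g, hTS hgT, fun x => rfl⟩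
      have hcE : R.normalizerMonoidHom ⟨g, hgN⟩ ∈ B :=
        hTB ((mem_autInducedBy_iff T R _).2 ⟨g, hgT, fun x => rfl⟩)
      have hcA : R.normalizerMonoidHom ⟨g, hgN⟩ ∈ F.autGroup R := hBA hcE
      have hcN : (⟨_, hcA⟩ : F.autGroup R) ∈ B.subgroupOf (F.autGroup R) :=
        Subgroup.mem_subgroupOf.2 hcE
      have hcSyl : (⟨⟨_, hcA⟩, hcN⟩ : B.subgroupOf (F.autGroup R)) ∈
          (SylB : Subgroup (B.subgroupOf (F.autGroup R))) := by
        rw [hSylB, Subgroup.mem_subgroupOf]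
        refine ⟨?_, hcN⟩
        show (⟨_, hcA⟩ : F.autGroup R) ∈ (Syl : Subgroup (F.autGroup R))
        rw [hSyl, Subgroup.mem_subgroupOf]
        exact hcS
      have hcmap : (⟨_, hcA⟩ : F.autGroup R) ∈
          (SylB : Subgroup (B.subgroupOf (F.autGroup R))).map
            (B.subgroupOf (F.autGroup R)).subtype :=
        ⟨⟨⟨_, hcA⟩, hcN⟩, hcSyl, rfl⟩
      have h3 := (Subgroup.mem_normalizer_iff.1 hn' ⟨_, hcA⟩).1 hcmap
      obtain ⟨z, hz, hzeq⟩ := h3
      have hz' : z ∈ (SylB : Subgroup (B.subgroupOf (F.autGroup R))) := hz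
      rw [hSylB, Subgroup.mem_subgroupOf] at hz'
      have hz1 : (z : F.autGroup R) ∈ (Syl : Subgroup (F.autGroup R)) := hz'.1
      rw [hSyl, Subgroup.mem_subgroupOf] at hz1
      have e : ((z : F.autGroup R) : MulAut R) =
          (n : MulAut R) * R.normalizerMonoidHom ⟨g, hgN⟩ * (n : MulAut R)⁻¹ :=
        congrArg (fun w : F.autGroup R => (w : MulAut R)) hzeq
      rw [← e]
      exact hz1
    obtain ⟨θ, hθ, hθx⟩ := fs_receptive_extend F hrec hnF (fsIso_range _)
      (le_normalizerIn hRT) hNle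
    have hθD := ih hθ
    have h1 := fs_restrict_mem D hθD (le_normalizerIn hRT)
    rw [mem_autGroup_iff D hRT]
    have e : R.subtype.comp (n : MulAut R).toMonoidHom =
        θ.comp (Subgroup.inclusion (le_normalizerIn hRT)) := by
      ext x
      exact (hθx x).symm
    unfold FsIso
    rw [e]
    exact h1
  have e : a = (n : MulAut R) * (b : MulAut R) :=
    congrArg (fun w : F.autGroup R => (w : MulAut R)) hab
  rw [e]
  exact Subgroup.mul_mem _ hnD hbD

/-- the generic induction: a subsystem `D` over a strongly closed `T` contains all maps of `F`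
between subgroups of `T` as soon as it contains the automorphism groups of the fully normalized
subgroups, where the maps on larger subgroups may be assumed to lie in `D` -/
theorem frattini_ind8 (F : FusionSystem S) [Finite S] (p : ℕ) [Fact p.Prime]
    (hS : IsPGroup p S) (hF : F.IsSaturated p) (D : FusionSystem T)
    (hT : F.StronglyClosed T) (htop : F.Hom T ⊆ D.Hom T)
    (hstep : ∀ R : Subgroup Ω, R ≤ T → R ≠ T → F.IsFullyNormalized R →
      (∀ P' : Subgroup Ω, P' ≤ T → Nat.card R < Nat.card P' → F.Hom P' ⊆ D.Hom P') →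
      F.autGroup R ≤ D.autGroup R) :
    ∀ (n : ℕ) (P : Subgroup Ω), P ≤ T → Nat.card T - Nat.card P = n →
      F.Hom P ⊆ D.Hom P := by
  have hTS : T ≤ S := hT.1
  have hfinT : Finite T := finite_of_le_fs hTS
  have hTp : IsPGroup p T := hS.to_le hTS
  obtain ⟨hn, hc⟩ := (fs_saturated_iff F p hS).1 hF
  intro n
  induction n using Nat.strong_induction_on with
  | _ n ih =>
    intro P hPT hPn φ hφ
    have hPS : P ≤ S := hPT.trans hTS
    have ih' : ∀ P' : Subgroup Ω, P' ≤ T → Nat.card P < Nat.card P' →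
        F.Hom P' ⊆ D.Hom P' := by
      intro P' hP'T hlt ψ hψ
      have h6 : Nat.card P' ≤ Nat.card T := Subgroup.card_le_of_le hP'T
      exact ih (Nat.card T - Nat.card P') (by omega) P' hP'T rfl hψ
    by_cases hPeq : P = T
    · subst hPeq
      exact htop hφ
    obtain ⟨R, hconj, hRn⟩ := exists_fullyNormalized_conj F hPS
    obtain ⟨hRc, hRa⟩ := hn R hRn
    have hRr := hc R hRc
    have hRS := hRn.1
    have hRT : R ≤ T := by
      obtain ⟨φ', hφ', rfl⟩ := hconj
      rintro _ ⟨x, rfl⟩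
      exact hT.2 P hPT φ' hφ' x
    have hQT : φ.range ≤ T := by
      rintro _ ⟨x, rfl⟩
      exact hT.2 P hPT φ hφ x
    have hconjQ : F.IsConj φ.range R :=
      fs_isConj_trans F (fs_isConj_symm F ⟨φ, hφ, rfl⟩) hconj
    have hcardQ : Nat.card φ.range = Nat.card P :=
      (Nat.card_congr (MonoidHom.ofInjective (F.injective_of_mem hφ)).toEquiv).symm
    have hcardne : ∀ P' : Subgroup Ω, P' ≤ T → Nat.card P' = Nat.card P → P' ≠ T := by
      intro P' hP'T hcard' h
      apply hPeq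
      apply Subgroup.eq_of_le_of_card_ge hPT
      rw [← hcard', h]
    have hstep' : ∀ P' : Subgroup Ω, P' ≤ T → F.IsConj P' R → Nat.card P' = Nat.card P →
        ∃ e' : P' ≃* R, FsIso F e' ∧ FsIso D e' := by
      intro P' hP'T hc' hcard'
      have hP'ne : P' ≠ T := hcardne P' hP'T hcard'
      obtain ⟨χ, hχ, hχN, hχP⟩ := fs_exists_normalizer_map F p hS R P' hRa hRr hc'
      have hlt := normalizerIn_card_lt hTp hP'T hP'ne
      have hNle : normalizerIn T P' ≤ normalizerIn S P' := inf_le_inf_right _ hTS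
      have hχ1 : χ.comp (Subgroup.inclusion hNle) ∈ F.Hom (normalizerIn T P') :=
        fs_restrict_mem F hχ hNle
      have hχD : χ.comp (Subgroup.inclusion hNle) ∈ D.Hom (normalizerIn T P') :=
        ih' _ (normalizerIn_le T P') (by rw [← hcard']; exact hlt) hχ1
      have hP'N : P' ≤ normalizerIn T P' := le_normalizerIn hP'T
      have hr : ((χ.comp (Subgroup.inclusion hNle)).comp (Subgroup.inclusion hP'N)).range =
          R := by
        rw [← hχP]
        ext y
        constructor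
        · rintro ⟨x, rfl⟩
          exact ⟨Subgroup.inclusion (hP'N.trans hNle) x, Subgroup.mem_subgroupOf.2 x.2, rfl⟩
        · rintro ⟨x, hx, rfl⟩
          exact ⟨⟨x.1, Subgroup.mem_subgroupOf.1 hx⟩, rfl⟩
      have h1 := fs_restrict_mem F hχ1 hP'N
      have h2 := fs_restrict_mem D hχD hP'N
      exact ⟨fsEquiv _ (F.injective_of_mem h1) hr, fsIso_fsEquiv F h1 hr,
        fsIso_fsEquiv D h2 hr⟩
    obtain ⟨e₁, he₁F, he₁D⟩ := hstep' P hPT hconj rfl
    obtain ⟨e₂, he₂F, he₂D⟩ := hstep' φ.range hQT hconjQ hcardQ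
    have heF : FsIso F (fsEquiv φ (F.injective_of_mem hφ) rfl) := fsIso_fsEquiv F hφ rfl
    have hαF : FsIso F ((e₁.symm.trans (fsEquiv φ (F.injective_of_mem hφ) rfl)).trans e₂) :=
      fsIso_trans F (fsIso_trans F (fsIso_symm F he₁F) heF) he₂F
    have hcardR : Nat.card R = Nat.card P := (Nat.card_congr e₁.toEquiv).symm
    have hRne : R ≠ T := hcardne R hRT hcardR
    have hαD : FsIso D ((e₁.symm.trans (fsEquiv φ (F.injective_of_mem hφ) rfl)).trans e₂) := by
      have hmem : ((e₁.symm.trans (fsEquiv φ (F.injective_of_mem hφ) rfl)).trans e₂ :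
          MulAut R) ∈ F.autGroup R := (mem_autGroup_iff F hRS _).2 hαF
      apply (mem_autGroup_iff D hRT _).1
      refine hstep R hRT hRne hRn ?_ hmem
      intro P' hP'T hlt
      exact ih' P' hP'T (by rw [← hcardR]; exact hlt)
    have hfin : FsIso D (e₁.trans
        (((e₁.symm.trans (fsEquiv φ (F.injective_of_mem hφ) rfl)).trans e₂).trans e₂.symm)) :=
      fsIso_trans D he₁D (fsIso_trans D hαD (fsIso_symm D he₂D))
    have e : φ.range.subtype.comp (e₁.trans
        (((e₁.symm.trans (fsEquiv φ (F.injective_of_mem hφ) rfl)).trans e₂).trans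
          e₂.symm)).toMonoidHom = φ := by
      ext x
      simp [fsEquiv_apply]
    rw [← e]
    exact hfin

/-- a fully centralized subgroup containing its centralizer is centric -/
theorem fs_centric_of_fullyCentralized8 (F : FusionSystem S) [Finite S] {R : Subgroup Ω}
    (hRc : F.IsFullyCentralized R) (hC : centralizerIn S R ≤ R) : F.IsCentric R := by
  refine ⟨hRc.1, ?_⟩
  rintro Q ⟨φ, hφ, rfl⟩
  have hcard := hRc.2 φ.range ⟨φ, hφ, rfl⟩
  have hfin : Finite (centralizerIn S φ.range) := finite_of_le_fs (centralizerIn_le S φ.range)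
  have hmap : ∀ c : centralizerIn S R, φ ⟨(c : Ω), hC c.2⟩ ∈ centralizerIn S φ.range := by
    intro c
    rw [mem_centralizerIn]
    refine ⟨fs_map_mem F hφ _, ?_⟩
    rintro _ ⟨x, rfl⟩
    have h1 : (x : Ω) * (c : Ω) = (c : Ω) * (x : Ω) := (mem_centralizerIn.1 c.2).2 _ x.2
    have h2 : x * (⟨(c : Ω), hC c.2⟩ : R) = ⟨(c : Ω), hC c.2⟩ * x := Subtype.ext h1
    rw [← map_mul, ← map_mul, h2]
  have hbij : Function.Bijective (fun c : centralizerIn S R =>
      (⟨φ ⟨(c : Ω), hC c.2⟩, hmap c⟩ : centralizerIn S φ.range)) := by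
    apply Function.Injective.bijective_of_nat_card_le _ hcard
    intro a b hab
    have h1 : φ ⟨(a : Ω), hC a.2⟩ = φ ⟨(b : Ω), hC b.2⟩ :=
      congrArg (fun z : centralizerIn S φ.range => (z : Ω)) hab
    have h2 := F.injective_of_mem hφ h1
    exact Subtype.ext (congrArg (fun z : R => (z : Ω)) h2)
  intro c hc
  obtain ⟨c₀, hc₀⟩ := hbij.2 ⟨c, hc⟩
  have h1 : φ ⟨(c₀ : Ω), hC c₀.2⟩ = c :=
    congrArg (fun z : centralizerIn S φ.range => (z : Ω)) hc₀
  rw [← h1]
  exact ⟨_, rfl⟩

/-- transport of the subgroup generated by the elements of `p`-power order along an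
isomorphism of the system -/
theorem fs_ppClosure_congr8 (F : FusionSystem S) (p : ℕ) {P P' : Subgroup Ω} (hPS : P ≤ S)
    (hP'S : P' ≤ S) (e : P ≃* P') (he : FsIso F e) (α : F.autGroup P)
    (hα : α ∈ Subgroup.closure {a : F.autGroup P | ∃ k : ℕ, orderOf a = p ^ k}) :
    ∃ α' : F.autGroup P',
      α' ∈ Subgroup.closure {a : F.autGroup P' | ∃ k : ℕ, orderOf a = p ^ k} ∧
      (α' : MulAut P') = MulAut.congr e (α : MulAut P) := by
  have hmem : ∀ a : F.autGroup P,
      ((MulAut.congr e).toMonoidHom.comp (F.autGroup P).subtype) a ∈ F.autGroup P' := fun a =>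
    (mem_autGroup_iff F hP'S _).2 (fsIso_trans F (fsIso_symm F he)
      (fsIso_trans F ((mem_autGroup_iff F hPS _).1 a.2) he))
  have horder : ∀ a : F.autGroup P,
      orderOf ((((MulAut.congr e).toMonoidHom.comp (F.autGroup P).subtype).codRestrict
        (F.autGroup P') hmem) a) = orderOf a := by
    intro a
    rw [← Subgroup.orderOf_coe, ← Subgroup.orderOf_coe a]
    exact (MulAut.congr e).orderOf_eq (a : MulAut P)
  have key : ∀ a ∈ Subgroup.closure {a : F.autGroup P | ∃ k : ℕ, orderOf a = p ^ k},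
      (((MulAut.congr e).toMonoidHom.comp (F.autGroup P).subtype).codRestrict
        (F.autGroup P') hmem) a ∈
        Subgroup.closure {a : F.autGroup P' | ∃ k : ℕ, orderOf a = p ^ k} := by
    intro a ha
    induction ha using Subgroup.closure_induction with
    | mem x hx =>
      apply Subgroup.subset_closure
      obtain ⟨k, hk⟩ := hx
      exact ⟨k, by rw [horder]; exact hk⟩
    | one =>
      rw [map_one]
      exact one_mem _
    | mul a b _ _ ha hb =>
      rw [map_mul]
      exact mul_mem ha hb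
    | inv a _ ha =>
      rw [map_inv]
      exact inv_mem ha
  exact ⟨_, key α hα, rfl⟩

/-- the subgroup generated by the elements of `p`-power order is normal -/
theorem ppClosure_conj8 {G : Type*} [Group G] (p : ℕ) (g n : G)
    (hn : n ∈ Subgroup.closure {a : G | ∃ k : ℕ, orderOf a = p ^ k}) :
    g * n * g⁻¹ ∈ Subgroup.closure {a : G | ∃ k : ℕ, orderOf a = p ^ k} := by
  induction hn using Subgroup.closure_induction with
  | mem x hx =>
    apply Subgroup.subset_closure
    obtain ⟨k, hk⟩ := hx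
    refine ⟨k, ?_⟩
    have e : orderOf (g * x * g⁻¹) = orderOf x := by
      have := (MulAut.conj g).orderOf_eq x
      exact this
    rw [e]
    exact hk
  | one =>
    have e : g * 1 * g⁻¹ = 1 := by group
    rw [e]
    exact one_mem _
  | mul a b _ _ ha hb =>
    have e : g * (a * b) * g⁻¹ = (g * a * g⁻¹) * (g * b * g⁻¹) := by group
    rw [e]
    exact Subgroup.mul_mem _ ha hb
  | inv a _ ha =>
    have e : g * a⁻¹ * g⁻¹ = (g * a * g⁻¹)⁻¹ := by group
    rw [e]
    exact Subgroup.inv_mem _ ha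

/-- the largest subsystem of `E` invariant under `Aut_F(S)` -/
def invCore8 (F : FusionSystem S) (E : FusionSystem S) : FusionSystem S where
  Hom P := {φ | ∀ α ∈ F.autGroup S, φ ∈ (conjSys8 E α).Hom P}
  le_of_mem := fun h => (conjSys8 E 1).le_of_mem (h 1 (Subgroup.one_mem _))
  injective_of_mem := fun h => (conjSys8 E 1).injective_of_mem (h 1 (Subgroup.one_mem _))
  conj_mem := fun hP hg α _ => (conjSys8 E α).conj_mem hP hg
  comp_mem := fun hφ hψ h α hα => (conjSys8 E α).comp_mem (hφ α hα) (hψ α hα) h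
  inv_mem := by
    intro P φ hφ
    obtain ⟨ψ, hψ, hψinv⟩ := (conjSys8 E 1).inv_mem (hφ 1 (Subgroup.one_mem _))
    refine ⟨ψ, ?_, hψinv⟩
    intro α hα
    obtain ⟨ψ', hψ', hψ'inv⟩ := (conjSys8 E α).inv_mem (hφ α hα)
    have e : ψ' = ψ := by
      ext ⟨_, x, rfl⟩
      rw [hψ'inv x, hψinv x]
    rw [← e]
    exact hψ'

theorem invCore_le8 (F E : FusionSystem S) : invCore8 F E ≤ E := by
  intro P φ hφ
  obtain ⟨hPS, hφS, χ, hχ, hrel⟩ :=
    (mem_conjSys8_iff E 1 P φ).1 (hφ 1 (Subgroup.one_mem _))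
  have hle : P ≤ imgAut8 (1 : MulAut S) P := fun x hx =>
    mem_imgAut8 (1 : MulAut S) hx (hPS hx)
  have h1 := fs_restrict_mem E hχ hle
  have e : χ.comp (Subgroup.inclusion hle) = φ := by
    ext x
    exact hrel x (hPS x.2) (hφS x) (hle x.2)
  rw [← e]
  exact h1

theorem invCore_inv8 (F E : FusionSystem S) (α : MulAut S) (hα : α ∈ F.autGroup S) :
    invCore8 F E ≤ conjSys8 (invCore8 F E) α := by
  intro P φ hφ
  obtain ⟨hPS, hφS, χ, hχ, hrel⟩ := (mem_conjSys8_iff E α P φ).1 (hφ α hα)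
  rw [mem_conjSys8_iff]
  refine ⟨hPS, hφS, χ, ?_, hrel⟩
  intro β hβ
  obtain ⟨-, -, χ'', hχ'', hrel''⟩ :=
    (mem_conjSys8_iff E (β * α) P φ).1 (hφ (β * α) (Subgroup.mul_mem _ hβ hα))
  rw [mem_conjSys8_iff]
  have hχS : ∀ y : imgAut8 α P, χ y ∈ S := fun y => fs_map_mem E hχ y
  refine ⟨imgAut8_le α P, hχS, ?_⟩
  have hle : imgAut8 β (imgAut8 α P) ≤ imgAut8 (β * α) P := by
    intro z hz
    obtain ⟨y, hy, hyS, rfl⟩ := exists_of_mem_imgAut8 β hz
    obtain ⟨x, hx, hxS, rfl⟩ := exists_of_mem_imgAut8 α hy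
    exact mem_imgAut8 (β * α) hx hxS
  refine ⟨χ''.comp (Subgroup.inclusion hle), fs_restrict_mem E hχ'' hle, ?_⟩
  rintro ⟨y, hy⟩ hyS hχy hβy
  obtain ⟨x, hx, hxS, rfl⟩ := exists_of_mem_imgAut8 α hy
  have h1 := hrel'' ⟨x, hx⟩ hxS (hφS _) (hle hβy)
  have h2 := hrel ⟨x, hx⟩ hxS (hφS _) hy
  have e : (⟨χ ⟨((α ⟨x, hxS⟩ : S) : Ω), hy⟩, hχy⟩ : S) = α ⟨φ ⟨x, hx⟩, hφS _⟩ :=
    Subtype.ext h2
  rw [e]
  exact h1

end Cfsg.Agent.Lib.Helper8
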