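import Mathlib
import Cfsg.Prelude.Def_FusionSystem
import Cfsg.Agent.Lib.Helper8.PIdx1

set_option autoImplicit false

namespace Cfsg.Agent.Lib.Helper8

open Cfsg Cfsg.FusionSystem

variable {Ω : Type*} [Group Ω] {S : Subgroup Ω}

theorem fs_sc_top8 (F : FusionSystem S) : F.StronglyClosed S :=
  ⟨le_rfl, fun _ _ _ hφ x => fs_map_mem F hφ x⟩

theorem invCore_aut8 (F : FusionSystem S) [Finite S] (p : ℕ) (E : FusionSystem S)
    (h : ∀ P : Subgroup Ω, F.IsCentric P →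
      (Subgroup.closure {α : ↥(F.autGroup P) | ∃ k : ℕ, orderOf α = p ^ k}).map
        (F.autGroup P).subtype ≤ E.autGroup P)
    {P : Subgroup Ω} (hP : F.IsCentric P) :
    (Subgroup.closure {α : ↥(F.autGroup P) | ∃ k : ℕ, orderOf α = p ^ k}).map
      (F.autGroup P).subtype ≤ (invCore8 F E).autGroup P := by
  have hPS : P ≤ S := hP.1
  rintro _ ⟨b, hb, rfl⟩
  rw [mem_autGroup_iff (invCore8 F E) hPS]
  show P.subtype.comp (b : MulAut P).toMonoidHom ∈ (invCore8 F E).Hom P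
  intro α hα
  have hαF : S.subtype.comp α.toMonoidHom ∈ F.Hom S := (mem_autGroup_iff F le_rfl α).1 hα
  have hres : (S.subtype.comp α.toMonoidHom).comp (Subgroup.inclusion hPS) ∈ F.Hom P :=
    fs_restrict_mem F hαF hPS
  have hrange : ((S.subtype.comp α.toMonoidHom).comp (Subgroup.inclusion hPS)).range =
      imgAut8 α P := by
    ext y
    constructor
    · rintro ⟨x, rfl⟩
      exact mem_imgAut8 α x.2 (hPS x.2)
    · intro hy
      obtain ⟨x, hx, hxT, rfl⟩ := exists_of_mem_imgAut8 α hy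
      exact ⟨⟨x, hx⟩, rfl⟩
  have hP'S : imgAut8 α P ≤ S := imgAut8_le α P
  have he := fsIso_fsEquiv F hres hrange
  obtain ⟨α', hα', hα'eq⟩ := fs_ppClosure_congr8 F p hPS hP'S _ he b hb
  have hcen : F.IsCentric (imgAut8 α P) := fs_centric_conj F hP ⟨_, hres, hrange⟩
  have hα'E : (α' : MulAut (imgAut8 α P)) ∈ E.autGroup (imgAut8 α P) :=
    h _ hcen ⟨α', hα', rfl⟩
  have hχ : (imgAut8 α P).subtype.comp (α' : MulAut (imgAut8 α P)).toMonoidHom ∈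
      E.Hom (imgAut8 α P) := (mem_autGroup_iff E hP'S _).1 hα'E
  rw [mem_conjSys8_iff]
  refine ⟨hPS, fun x => hPS ((b : MulAut P) x).2, _, hχ, ?_⟩
  intro x hxT hφ hαx
  show (((α' : MulAut (imgAut8 α P)) ⟨(α ⟨x, hxT⟩ : S), hαx⟩ : imgAut8 α P) : Ω) = _
  rw [hα'eq]
  have e1 : (⟨((α ⟨x, hxT⟩ : S) : Ω), hαx⟩ : imgAut8 α P) =
      fsEquiv _ (F.injective_of_mem hres) hrange x := Subtype.ext rfl
  rw [e1]
  show ((fsEquiv _ (F.injective_of_mem hres) hrange ((b : MulAut P)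
    ((fsEquiv _ (F.injective_of_mem hres) hrange).symm
      (fsEquiv _ (F.injective_of_mem hres) hrange x))) : imgAut8 α P) : Ω) = _
  rw [MulEquiv.symm_apply_apply]
  rfl

theorem pidx_le_fratt8 (F : FusionSystem S) [Finite S] (p : ℕ) [Fact p.Prime]
    (hS : IsPGroup p S) (hF : F.IsSaturated p) (E : FusionSystem S) (hEF : E.IsSubsystemOf F)
    (h : ∀ P : Subgroup Ω, F.IsCentric P →
      (Subgroup.closure {α : ↥(F.autGroup P) | ∃ k : ℕ, orderOf α = p ^ k}).map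
        (F.autGroup P).subtype ≤ E.autGroup P) :
    ∀ P : Subgroup Ω, F.Hom P ⊆ (frattT8 F (invCore8 F E) (fs_sc_top8 F)
      (fun α hα => invCore_inv8 F E α hα)).Hom P := by
  have hEsF : (invCore8 F E).IsSubsystemOf F := fun P φ hφ => hEF P (invCore_le8 F E P hφ)
  have hED := le_frattT8 F (invCore8 F E) (fs_sc_top8 F)
    (fun α hα => invCore_inv8 F E α hα) hEsF
  obtain ⟨hn, hcr⟩ := (fs_saturated_iff F p hS).1 hF
  intro P φ hφ
  refine frattini_ind8 F p hS hF _ (fs_sc_top8 F) (top_frattT8 F _ (fs_sc_top8 F) _) ?_ _ P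
    (fs_le F hφ) rfl hφ
  intro R hRS hRne hRn ih
  obtain ⟨hRc, hRa⟩ := hn R hRn
  have hrec := hcr R hRc
  by_cases hC : centralizerIn S R ≤ R
  · have hcen : F.IsCentric R := fs_centric_of_fullyCentralized8 F hRc hC
    have hB := invCore_aut8 F p E h hcen
    apply fratt_aut_gen8 F p hS hF _ le_rfl hRS hRn
      ((Subgroup.closure {α : ↥(F.autGroup R) | ∃ k : ℕ, orderOf α = p ^ k}).map
        (F.autGroup R).subtype)
    · rintro _ ⟨b, -, rfl⟩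
      exact b.2
    · rintro a _ ha ⟨b, hb, rfl⟩
      exact ⟨⟨a, ha⟩ * b * ⟨a, ha⟩⁻¹, ppClosure_conj8 p ⟨a, ha⟩ b hb, rfl⟩
    · intro b hb
      have h1 := hB hb
      exact (mem_autGroup_iff _ hRS b).2
        (hED R ((mem_autGroup_iff (invCore8 F E) hRS b).1 h1))
    · intro c hc
      have hcA : c ∈ F.autGroup R := autInducedBy_le_autGroup F hRS hc
      refine ⟨⟨c, hcA⟩, Subgroup.subset_closure ?_, rfl⟩
      obtain ⟨k, hk⟩ := (IsPGroup.iff_orderOf.1 (autInducedBy_isPGroup hS R)) ⟨c, hc⟩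
      refine ⟨k, ?_⟩
      rw [Subgroup.orderOf_mk] at hk ⊢
      exact hk
    · exact ih _ (normalizerIn_le S R) (normalizerIn_card_lt hS hRS hRne)
  · intro a ha
    have haF : R.subtype.comp a.toMonoidHom ∈ F.Hom R := (mem_autGroup_iff F hRS a).1 ha
    have hWle : R ⊔ centralizerIn S R ≤ extender S R (R.subtype.comp a.toMonoidHom) :=
      sup_le (le_extender F haF) (centralizerIn_le_extender S R _)
    obtain ⟨θ, hθ, hθx⟩ := fs_receptive_extend F hrec haF (fsIso_range _) le_sup_left hWle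
    have hWS : R ⊔ centralizerIn S R ≤ S := sup_le hRS (centralizerIn_le S R)
    have hlt : R < R ⊔ centralizerIn S R := by
      refine lt_of_le_of_ne le_sup_left ?_
      intro heq
      exact hC (le_sup_right.trans (le_of_eq heq.symm))
    have hθD := ih _ hWS (card_lt_of_lt_fs hWS hlt) hθ
    have h1 := fs_restrict_mem _ hθD (le_sup_left : R ≤ R ⊔ centralizerIn S R)
    rw [mem_autGroup_iff _ hRS]
    have e : R.subtype.comp a.toMonoidHom =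
        θ.comp (Subgroup.inclusion (le_sup_left : R ≤ R ⊔ centralizerIn S R)) := by
      ext x
      exact (hθx x).symm
    unfold FsIso
    rw [e]
    exact h1

/-- the Frattini property -/
theorem pidx_frattini8 (F : FusionSystem S) [Finite S] (p : ℕ) [Fact p.Prime]
    (hS : IsPGroup p S) (hF : F.IsSaturated p) (E : FusionSystem S) (hEF : E.IsSubsystemOf F)
    (h : ∀ P : Subgroup Ω, F.IsCentric P →
      (Subgroup.closure {α : ↥(F.autGroup P) | ∃ k : ℕ, orderOf α = p ^ k}).map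
        (F.autGroup P).subtype ≤ E.autGroup P) :
    ∀ (P : Subgroup Ω) (φ : P →* Ω), φ ∈ F.Hom P → ∃ α ∈ F.autGroup S, ∃ φ₀ ∈ E.Hom P,
      ∀ (x : P) (hx : φ₀ x ∈ S), φ x = ((α ⟨φ₀ x, hx⟩ : S) : Ω) := by
  intro P φ hφ
  obtain ⟨-, -, α, hα, φ₀, hφ₀, hrel⟩ := pidx_le_fratt8 F p hS hF E hEF h P hφ
  exact ⟨α, hα, φ₀, invCore_le8 F E P hφ₀, hrel⟩

/-- index prime to `p` -/
theorem pidx_index8 (F : FusionSystem S) [Finite S] (p : ℕ) [Fact p.Prime]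
    (hS : IsPGroup p S) (hF : F.IsSaturated p) (E : FusionSystem S) (hEF : E.IsSubsystemOf F)
    (h : ∀ P : Subgroup Ω, F.IsCentric P →
      (Subgroup.closure {α : ↥(F.autGroup P) | ∃ k : ℕ, orderOf α = p ^ k}).map
        (F.autGroup P).subtype ≤ E.autGroup P) : E.HasPrimeToPIndexIn F p := by
  refine ⟨hEF, ?_⟩
  intro P hPS
  rw [Subgroup.map_le_iff_le_comap, Subgroup.closure_le]
  rintro b ⟨k, hk⟩
  show (b : MulAut P) ∈ E.autGroup P
  obtain ⟨hn, hcr⟩ := (fs_saturated_iff F p hS).1 hF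
  obtain ⟨R, ⟨θ, hθ, hθr⟩, hRn⟩ := exists_fullyNormalized_conj F hPS
  obtain ⟨hRc, hRS, Syl, hSyl⟩ := hn R hRn
  have hfinA : Finite (F.autGroup R) := finite_autGroup F hRS
  obtain ⟨e, he⟩ : ∃ e : P ≃* R, FsIso F e := ⟨_, fsIso_fsEquiv F hθ hθr⟩
  have hb'A : MulAut.congr e (b : MulAut P) ∈ F.autGroup R :=
    (mem_autGroup_iff F hRS _).2 (fsIso_trans F (fsIso_symm F he)
      (fsIso_trans F ((mem_autGroup_iff F hPS _).1 b.2) he))
  have hord : orderOf (⟨MulAut.congr e (b : MulAut P), hb'A⟩ : F.autGroup R) = p ^ k := by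
    rw [Subgroup.orderOf_mk, (MulAut.congr e).orderOf_eq, Subgroup.orderOf_coe, hk]
  obtain ⟨g, hg⟩ := pelt_conj_sylow8 Syl _ ⟨k, hord⟩
  rw [hSyl, Subgroup.mem_subgroupOf] at hg
  obtain ⟨s, hsS, hs⟩ := (mem_autInducedBy_iff S R _).1 hg
  have hθ' : FsIso F (e.trans (g : MulAut R)) :=
    fsIso_trans F he ((mem_autGroup_iff F hRS _).1 g.2)
  obtain ⟨α, hα, φ₀, hφ₀, hrel⟩ := pidx_frattini8 F p hS hF E hEF h P _ hθ'
  have hφ₀S : ∀ x : P, φ₀ x ∈ S := fun x => fs_map_mem E hφ₀ x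
  have hkey : ∃ t ∈ S, ∀ x : P, φ₀ ((b : MulAut P) x) = t * φ₀ x * t⁻¹ := by
    refine ⟨((α⁻¹ ⟨s, hsS⟩ : S) : Ω), (α⁻¹ ⟨s, hsS⟩).2, ?_⟩
    intro x
    have h1 := hs ((g : MulAut R) (e x))
    have h2 : (((g * ⟨MulAut.congr e (b : MulAut P), hb'A⟩ * g⁻¹ : F.autGroup R) : MulAut R)
        ((g : MulAut R) (e x))) = (g : MulAut R) (e ((b : MulAut P) x)) := by
      show (g : MulAut R) (MulAut.congr e (b : MulAut P)
        ((g : MulAut R)⁻¹ ((g : MulAut R) (e x)))) = _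
      rw [MulAut.inv_apply_self]
      show (g : MulAut R) (e ((b : MulAut P) (e.symm (e x)))) = _
      rw [MulEquiv.symm_apply_apply]
    rw [h2] at h1
    have h3 := hrel ((b : MulAut P) x) (hφ₀S _)
    have h4 := hrel x (hφ₀S _)
    have h5 : ((α ⟨φ₀ ((b : MulAut P) x), hφ₀S _⟩ : S) : Ω) =
        s * ((α ⟨φ₀ x, hφ₀S _⟩ : S) : Ω) * s⁻¹ := by
      rw [← h3, ← h4]
      exact h1
    have h6 : α ⟨φ₀ ((b : MulAut P) x), hφ₀S _⟩ =
        ⟨s, hsS⟩ * α ⟨φ₀ x, hφ₀S _⟩ * (⟨s, hsS⟩ : S)⁻¹ := Subtype.ext h5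
    have h7 : (⟨φ₀ ((b : MulAut P) x), hφ₀S _⟩ : S) =
        α⁻¹ ⟨s, hsS⟩ * ⟨φ₀ x, hφ₀S _⟩ * (α⁻¹ ⟨s, hsS⟩)⁻¹ := by
      have h8 := congrArg (fun z : S => α⁻¹ z) h6
      simp only [MulAut.inv_apply_self, map_mul, map_inv] at h8
      exact h8
    exact congrArg (fun z : S => (z : Ω)) h7
  obtain ⟨t, htS, hkey⟩ := hkey
  have hQS : φ₀.range ≤ S := fs_range_le E hφ₀
  obtain ⟨ι, hι, hιinv⟩ := E.inv_mem hφ₀
  have hc := E.conj_mem hQS htS
  have hval1 : ∀ x : P, φ₀ x ∈ φ₀.range := fun x => ⟨x, rfl⟩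
  have h1 := E.comp_mem hφ₀ hc hval1
  have hval2 : ∀ x : P, ((conjHom φ₀.range t).comp (φ₀.codRestrict _ hval1)) x ∈
      φ₀.range := by
    intro x
    show t * φ₀ x * t⁻¹ ∈ φ₀.range
    rw [← hkey x]
    exact ⟨_, rfl⟩
  have h2 := E.comp_mem h1 hι hval2
  rw [mem_autGroup_iff E hPS]
  have e2 : P.subtype.comp (b : MulAut P).toMonoidHom =
      ι.comp (((conjHom φ₀.range t).comp (φ₀.codRestrict _ hval1)).codRestrict _ hval2) := by
    ext x
    show (((b : MulAut P) x : P) : Ω) = ι ⟨t * φ₀ x * t⁻¹, hval2 x⟩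
    have e3 : (⟨t * φ₀ x * t⁻¹, hval2 x⟩ : φ₀.range) =
        ⟨φ₀ ((b : MulAut P) x), ⟨_, rfl⟩⟩ := Subtype.ext (hkey x).symm
    rw [e3, hιinv]
  unfold FsIso
  rw [e2]
  exact h2

/-- the centric subgroups agree -/
theorem pidx_centric8 (F : FusionSystem S) [Finite S] (p : ℕ) [Fact p.Prime]
    (hS : IsPGroup p S) (hF : F.IsSaturated p) (E : FusionSystem S) (hEF : E.IsSubsystemOf F)
    (h : ∀ P : Subgroup Ω, F.IsCentric P →
      (Subgroup.closure {α : ↥(F.autGroup P) | ∃ k : ℕ, orderOf α = p ^ k}).map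
        (F.autGroup P).subtype ≤ E.autGroup P) :
    ∀ P : Subgroup Ω, E.IsCentric P ↔ F.IsCentric P := by
  intro P
  constructor
  · intro hP
    refine ⟨hP.1, ?_⟩
    rintro Q ⟨φ, hφ, rfl⟩
    obtain ⟨α, hα, φ₀, hφ₀, hrel⟩ := pidx_frattini8 F p hS hF E hEF h P φ hφ
    have hφ₀S : ∀ x : P, φ₀ x ∈ S := fun x => fs_map_mem E hφ₀ x
    have hQ₀ := hP.2 φ₀.range ⟨φ₀, hφ₀, rfl⟩
    intro c hc
    obtain ⟨hcS, hcc⟩ := mem_centralizerIn.1 hc
    have hc₀ : ((α⁻¹ ⟨c, hcS⟩ : S) : Ω) ∈ centralizerIn S φ₀.range := by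
      rw [mem_centralizerIn]
      refine ⟨(α⁻¹ ⟨c, hcS⟩).2, ?_⟩
      rintro _ ⟨x, rfl⟩
      have h1 := hcc (φ x) ⟨x, rfl⟩
      rw [hrel x (hφ₀S x)] at h1
      have h2 : α ⟨φ₀ x, hφ₀S x⟩ * ⟨c, hcS⟩ = ⟨c, hcS⟩ * α ⟨φ₀ x, hφ₀S x⟩ := Subtype.ext h1
      have h3 := congrArg (fun z : S => α⁻¹ z) h2
      simp only [map_mul, MulAut.inv_apply_self] at h3
      exact congrArg (fun z : S => (z : Ω)) h3
    obtain ⟨x₀, hx₀⟩ := hQ₀ hc₀
    refine ⟨x₀, ?_⟩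
    rw [hrel x₀ (hφ₀S x₀)]
    have e : (⟨φ₀ x₀, hφ₀S x₀⟩ : S) = α⁻¹ ⟨c, hcS⟩ := Subtype.ext hx₀
    rw [e, MulAut.apply_inv_self]
  · intro hP
    exact fs_centric_mono (F := F) (F' := E) hEF hP

end Cfsg.Agent.Lib.Helper8
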