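import Mathlib
import Cfsg.Prelude.Def_FusionSystem
import Cfsg.Agent.Lib.Helper8.PIdx2

set_option autoImplicit false

namespace Cfsg.Agent.Lib.Helper8

open Cfsg Cfsg.FusionSystem

variable {Ω : Type*} [Group Ω] {S : Subgroup Ω}

/-- membership in a conjugate Sylow subgroup -/
theorem mem_sylow_smul8 {G : Type*} [Group G] {p : ℕ} (Q Syl : Sylow p G) (g : G)
    (hg : g • Q = Syl) (y : G) :
    y ∈ (Syl : Subgroup G) ↔ g⁻¹ * y * g ∈ (Q : Subgroup G) := by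
  rw [← hg, Sylow.coe_subgroup_smul, Subgroup.mem_pointwise_smul_iff_inv_smul_mem]
  have e : (MulAut.conj g)⁻¹ • y = g⁻¹ * y * g := by
    rw [← map_inv]
    show g⁻¹ * y * g⁻¹⁻¹ = _
    rw [inv_inv]
  rw [e]

/-- for a subgroup `K` and a Sylow subgroup `Syl`, some conjugate of `K` meets `Syl` in a
maximal `p`-subgroup of the conjugate -/
theorem exists_conj_max8 {G : Type*} [Group G] [Finite G] (p : ℕ) [Fact p.Prime]
    (Syl : Sylow p G) (K : Subgroup G) :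
    ∃ γ : G, ∀ H : Subgroup G, IsPGroup p H → (∀ h ∈ H, γ⁻¹ * h * γ ∈ K) →
      (∀ s ∈ (Syl : Subgroup G), γ⁻¹ * s * γ ∈ K → s ∈ H) → H ≤ (Syl : Subgroup G) := by
  obtain ⟨SK⟩ : Nonempty (Sylow p K) := inferInstance
  have hH₀ : IsPGroup p ((SK : Subgroup K).map K.subtype) := SK.isPGroup'.map _
  obtain ⟨Syl', hSyl'⟩ := hH₀.exists_le_sylow
  obtain ⟨g, hg⟩ := MulAction.exists_smul_eq G Syl' Syl
  have hmem := mem_sylow_smul8 Syl' Syl g hg
  refine ⟨g, ?_⟩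
  intro H hH h1 h2
  have hinj : Function.Injective ((MulAut.conj g).toMonoidHom.comp K.subtype) := by
    intro a b hab
    apply Subtype.ext
    exact (MulAut.conj g).injective hab
  have hH₁ : IsPGroup p (H.comap ((MulAut.conj g).toMonoidHom.comp K.subtype)) :=
    hH.comap_of_injective _ hinj
  have hle : (SK : Subgroup K) ≤ H.comap ((MulAut.conj g).toMonoidHom.comp K.subtype) := by
    intro k hk
    rw [Subgroup.mem_comap]
    show g * (k : G) * g⁻¹ ∈ H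
    have e : g⁻¹ * (g * (k : G) * g⁻¹) * g = k := by group
    apply h2
    · rw [hmem, e]
      exact hSyl' ⟨k, hk, rfl⟩
    · rw [e]
      exact k.2
  have heq := SK.is_maximal' hH₁ hle
  intro h hh
  have hk := h1 h hh
  have hk2 : (⟨g⁻¹ * h * g, hk⟩ : K) ∈
      H.comap ((MulAut.conj g).toMonoidHom.comp K.subtype) := by
    rw [Subgroup.mem_comap]
    show g * (g⁻¹ * h * g) * g⁻¹ ∈ H
    have e : g * (g⁻¹ * h * g) * g⁻¹ = h := by group
    rw [e]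
    exact hh
  rw [heq] at hk2
  rw [hmem]
  exact hSyl' ⟨⟨g⁻¹ * h * g, hk⟩, hk2, rfl⟩

theorem sylow_ker_conj_aux8 {G G' : Type*} [Group G] [Finite G] [Group G'] (p : ℕ)
    [Fact p.Prime] (ρ : G →* G') (Syl : Sylow p G) (X L : Subgroup G) (hX : IsPGroup p X)
    (hSL : (Syl : Subgroup G) ≤ L) (hXL : X ≤ L)
    (hLρ : ∀ l ∈ L, ∃ s ∈ (Syl : Subgroup G), ρ s = ρ l) :
    ∃ κ : G, ρ κ = 1 ∧ ∀ x ∈ X, κ * x * κ⁻¹ ∈ (Syl : Subgroup G) := by
  have hXp : IsPGroup p (X.subgroupOf L) := hX.comap_subtype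
  obtain ⟨Syl', hSyl'⟩ := hXp.exists_le_sylow
  obtain ⟨l, hl⟩ := MulAction.exists_smul_eq L Syl' (Syl.subtype hSL)
  have hmem := mem_sylow_smul8 Syl' (Syl.subtype hSL) l hl
  obtain ⟨s, hs, hsl⟩ := hLρ (l : G) l.2
  refine ⟨s⁻¹ * (l : G), by rw [map_mul, map_inv, hsl, inv_mul_cancel], ?_⟩
  intro x hx
  have h1 : (l * ⟨x, hXL hx⟩ * l⁻¹ : L) ∈ ((Syl.subtype hSL : Sylow p L) : Subgroup L) := by
    rw [hmem]
    have e : l⁻¹ * (l * ⟨x, hXL hx⟩ * l⁻¹) * l = ⟨x, hXL hx⟩ := by group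
    rw [e]
    exact hSyl' (Subgroup.mem_subgroupOf.2 hx)
  rw [Sylow.coe_subtype, Subgroup.mem_subgroupOf] at h1
  have e : s⁻¹ * (l : G) * x * (s⁻¹ * (l : G))⁻¹ = s⁻¹ * ((l : G) * x * (l : G)⁻¹) * s := by
    group
  rw [e]
  exact Subgroup.mul_mem _ (Subgroup.mul_mem _ (Subgroup.inv_mem _ hs) h1) hs

/-- a `p`-subgroup whose image lies in the image of a Sylow subgroup is conjugate into the
Sylow subgroup by an element of the kernel -/
theorem sylow_ker_conj8 {G G' : Type*} [Group G] [Finite G] [Group G'] (p : ℕ) [Fact p.Prime]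
    (ρ : G →* G') (Syl : Sylow p G) (X : Subgroup G) (hX : IsPGroup p X)
    (hXρ : ∀ x ∈ X, ∃ s ∈ (Syl : Subgroup G), ρ s = ρ x) :
    ∃ κ : G, ρ κ = 1 ∧ ∀ x ∈ X, κ * x * κ⁻¹ ∈ (Syl : Subgroup G) := by
  apply sylow_ker_conj_aux8 p ρ Syl X (((Syl : Subgroup G).map ρ).comap ρ) hX
  · exact Subgroup.le_comap_map _ _
  · intro x hx
    obtain ⟨s, hs, hsx⟩ := hXρ x hx
    exact ⟨s, hs, hsx⟩
  · intro l hl
    obtain ⟨s, hs, hsl⟩ := hl
    exact ⟨s, hs, hsl⟩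

/-- automorphisms of `R` stabilizing `P` and `Q` (and, if `pt`, fixing `Q` elementwise) -/
def kStab8 (R P Q : Subgroup Ω) (pt : Prop) : Subgroup (MulAut R) where
  carrier := {β | (∀ y : R, (y : Ω) ∈ P ↔ ((β y : R) : Ω) ∈ P) ∧
    (∀ y : R, (y : Ω) ∈ Q ↔ ((β y : R) : Ω) ∈ Q) ∧ (pt → ∀ y : R, (y : Ω) ∈ Q → β y = y)}
  one_mem' := ⟨fun _ => Iff.rfl, fun _ => Iff.rfl, fun _ _ _ => rfl⟩
  mul_mem' := by
    rintro a b ⟨ha1, ha2, ha3⟩ ⟨hb1, hb2, hb3⟩
    refine ⟨fun y => (hb1 y).trans (ha1 (b y)), fun y => (hb2 y).trans (ha2 (b y)),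
      fun hpt y hy => ?_⟩
    show a (b y) = y
    rw [hb3 hpt y hy, ha3 hpt y hy]
  inv_mem' := by
    rintro a ⟨ha1, ha2, ha3⟩
    refine ⟨fun y => ?_, fun y => ?_, fun hpt y hy => ?_⟩
    · have h := ha1 (a⁻¹ y)
      rw [MulAut.apply_inv_self] at h
      exact h.symm
    · have h := ha2 (a⁻¹ y)
      rw [MulAut.apply_inv_self] at h
      exact h.symm
    · have h : a⁻¹ (a y) = y := by rw [MulAut.inv_apply_self]
      rw [ha3 hpt y hy] at h
      exact h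

theorem mem_kStab8_iff (R P Q : Subgroup Ω) (pt : Prop) (β : MulAut R) :
    β ∈ kStab8 R P Q pt ↔ ((∀ y : R, (y : Ω) ∈ P ↔ ((β y : R) : Ω) ∈ P) ∧
    (∀ y : R, (y : Ω) ∈ Q ↔ ((β y : R) : Ω) ∈ Q) ∧ (pt → ∀ y : R, (y : Ω) ∈ Q → β y = y)) :=
  Iff.rfl

/-- the image of a subgroup under an isomorphism of subgroups -/
def imgEq8 {A B : Subgroup Ω} (e : A ≃* B) (P : Subgroup Ω) : Subgroup Ω :=
  (P.subgroupOf A).map (B.subtype.comp e.toMonoidHom)

theorem mem_imgEq8 {A B : Subgroup Ω} (e : A ≃* B) (P : Subgroup Ω) (y : B) :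
    (y : Ω) ∈ imgEq8 e P ↔ ((e.symm y : A) : Ω) ∈ P := by
  constructor
  · rintro ⟨x, hx, hxy⟩
    have e1 : e x = y := Subtype.ext hxy
    rw [← e1, e.symm_apply_apply]
    exact Subgroup.mem_subgroupOf.1 hx
  · intro h
    refine ⟨e.symm y, Subgroup.mem_subgroupOf.2 h, ?_⟩
    show ((e (e.symm y) : B) : Ω) = y
    rw [e.apply_symm_apply]

theorem imgEq8_le {A B : Subgroup Ω} (e : A ≃* B) (P : Subgroup Ω) : imgEq8 e P ≤ B := by
  rintro _ ⟨x, -, rfl⟩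
  exact (e x).2

theorem apply_mem_imgEq8 {A B : Subgroup Ω} (e : A ≃* B) (P : Subgroup Ω) (x : A) :
    ((e x : B) : Ω) ∈ imgEq8 e P ↔ (x : Ω) ∈ P := by
  rw [mem_imgEq8, e.symm_apply_apply]

theorem imgEq8_eq_range {A B : Subgroup Ω} (e : A ≃* B) {Q : Subgroup Ω} (hQA : Q ≤ A) :
    imgEq8 e Q = ((B.subtype.comp e.toMonoidHom).comp (Subgroup.inclusion hQA)).range := by
  ext y
  constructor
  · rintro ⟨x, hx, rfl⟩
    exact ⟨⟨(x : Ω), Subgroup.mem_subgroupOf.1 hx⟩, rfl⟩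
  · rintro ⟨q, rfl⟩
    exact ⟨Subgroup.inclusion hQA q, Subgroup.mem_subgroupOf.2 q.2, rfl⟩

theorem congr_apply8 {R R' : Subgroup Ω} (e : R ≃* R') (β : MulAut R) (x : R) :
    MulAut.congr e β (e x) = e (β x) := by
  show e (β (e.symm (e x))) = e (β x)
  rw [e.symm_apply_apply]

theorem kStab_congr8 {R R' : Subgroup Ω} (e : R ≃* R') (P Q : Subgroup Ω) (pt : Prop)
    (β : MulAut R) :
    MulAut.congr e β ∈ kStab8 R' (imgEq8 e P) (imgEq8 e Q) pt ↔ β ∈ kStab8 R P Q pt := by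
  constructor
  · rintro ⟨h1, h2, h3⟩
    refine ⟨fun y => ?_, fun y => ?_, fun hpt y hy => ?_⟩
    · have h := h1 (e y)
      rw [congr_apply8, apply_mem_imgEq8, apply_mem_imgEq8] at h
      exact h
    · have h := h2 (e y)
      rw [congr_apply8, apply_mem_imgEq8, apply_mem_imgEq8] at h
      exact h
    · have h := h3 hpt (e y) ((apply_mem_imgEq8 e Q y).2 hy)
      rw [congr_apply8] at h
      exact e.injective h
  · rintro ⟨h1, h2, h3⟩
    refine ⟨fun y => ?_, fun y => ?_, fun hpt y hy => ?_⟩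
    · have h := h1 (e.symm y)
      rw [← apply_mem_imgEq8 e P, ← apply_mem_imgEq8 e P, ← congr_apply8,
        e.apply_symm_apply] at h
      exact h
    · have h := h2 (e.symm y)
      rw [← apply_mem_imgEq8 e Q, ← apply_mem_imgEq8 e Q, ← congr_apply8,
        e.apply_symm_apply] at h
      exact h
    · rw [mem_imgEq8] at hy
      have h := h3 hpt (e.symm y) hy
      show e (β (e.symm y)) = y
      rw [h, e.apply_symm_apply]

theorem kStab_img_iff8 {R R' : Subgroup Ω} (e : R ≃* R') (P Q : Subgroup Ω) (pt : Prop)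
    (β' : MulAut R') :
    β' ∈ kStab8 R' (imgEq8 e P) (imgEq8 e Q) pt ↔
      (MulAut.congr e).symm β' ∈ kStab8 R P Q pt := by
  rw [← kStab_congr8 e P Q pt, MulEquiv.apply_symm_apply]

/-- the maximality condition: `Aut_S(R) ∩ K` is a maximal `p`-subgroup of `Aut_F(R) ∩ K`, for
`K` the stabilizer of `P` and `Q` -/
def MaxCond8 (F : FusionSystem S) (p : ℕ) (R P Q : Subgroup Ω) (pt : Prop) : Prop :=
  ∀ H : Subgroup (MulAut R), IsPGroup p H → H ≤ F.autGroup R ⊓ kStab8 R P Q pt →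
    autInducedBy S R ⊓ kStab8 R P Q pt ≤ H → H ≤ autInducedBy S R

theorem maxCond_congr8 (F : FusionSystem S) (p : ℕ) {R R' P P' Q Q' : Subgroup Ω}
    (pt : Prop) (hR : R = R') (hP : P = P') (hQ : Q = Q') (h : MaxCond8 F p R P Q pt) :
    MaxCond8 F p R' P' Q' pt := by
  subst hR hP hQ
  exact h

theorem exists_good_conj8 (F : FusionSystem S) [Finite S] (p : ℕ) [Fact p.Prime]
    (hS : IsPGroup p S) (hF : F.IsSaturated p) {W : Subgroup Ω} (hWS : W ≤ S)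
    (P Q : Subgroup Ω) (pt : Prop) :
    ∃ (R : Subgroup Ω) (χ : W ≃* R), FsIso F χ ∧ F.IsFullyNormalized R ∧
      MaxCond8 F p R (imgEq8 χ P) (imgEq8 χ Q) pt := by
  obtain ⟨hn, hcr⟩ := (fs_saturated_iff F p hS).1 hF
  obtain ⟨R, ⟨χ₀', hχ₀', hr⟩, hRn⟩ := exists_fullyNormalized_conj F hWS
  obtain ⟨χ₀, hχ₀⟩ : ∃ χ₀ : W ≃* R, FsIso F χ₀ := ⟨_, fsIso_fsEquiv F hχ₀' hr⟩
  obtain ⟨hRc, hRS, Syl, hSyl⟩ := hn R hRn
  have hfinA : Finite (F.autGroup R) := finite_autGroup F hRS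
  obtain ⟨γ, hγ⟩ := exists_conj_max8 p Syl
    ((kStab8 R (imgEq8 χ₀ P) (imgEq8 χ₀ Q) pt).subgroupOf (F.autGroup R))
  have hχ : FsIso F (χ₀.trans (γ : MulAut R)) :=
    fsIso_trans F hχ₀ ((mem_autGroup_iff F hRS _).1 γ.2)
  refine ⟨R, χ₀.trans (γ : MulAut R), hχ, hRn, ?_⟩
  intro H hH hHle hle
  have hkey : ∀ β : MulAut R,
      β ∈ kStab8 R (imgEq8 (χ₀.trans (γ : MulAut R)) P)
        (imgEq8 (χ₀.trans (γ : MulAut R)) Q) pt ↔
      (γ : MulAut R)⁻¹ * β * (γ : MulAut R) ∈ kStab8 R (imgEq8 χ₀ P) (imgEq8 χ₀ Q) pt := by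
    intro β
    rw [kStab_img_iff8, kStab_img_iff8]
    have e : (MulAut.congr (χ₀.trans (γ : MulAut R))).symm β =
        (MulAut.congr χ₀).symm ((γ : MulAut R)⁻¹ * β * (γ : MulAut R)) := by
      ext w
      rfl
    rw [e]
  have hconcl := hγ (H.subgroupOf (F.autGroup R)) hH.comap_subtype
    (by
      intro h hh
      rw [Subgroup.mem_subgroupOf] at hh ⊢
      exact (hkey _).1 (hHle hh).2)
    (by
      intro s hs hsK
      rw [Subgroup.mem_subgroupOf] at hsK ⊢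
      apply hle
      refine ⟨?_, (hkey _).2 hsK⟩
      have h3 : s ∈ (Syl : Subgroup (F.autGroup R)) := hs
      rw [hSyl, Subgroup.mem_subgroupOf] at h3
      exact h3)
  intro β hβ
  have hβA := (hHle hβ).1
  have h3 : (⟨β, hβA⟩ : F.autGroup R) ∈ (Syl : Subgroup (F.autGroup R)) :=
    hconcl (Subgroup.mem_subgroupOf.2 hβ)
  rw [hSyl, Subgroup.mem_subgroupOf] at h3
  exact h3

/-- transport of the maximality condition along an isomorphism of the system under which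
conjugations by elements of `S` in the stabilizer stay conjugations by elements of `S` -/
theorem maxCond_transport8 (F : FusionSystem S) (p : ℕ) {R R' : Subgroup Ω}
    (hRS : R ≤ S) (hR'S : R' ≤ S) (e : R ≃* R') (he : FsIso F e) (P Q : Subgroup Ω)
    (pt : Prop)
    (htr : ∀ s : MulAut R, s ∈ kStab8 R P Q pt → ∀ g ∈ S,
      (∀ r : R, ((s r : R) : Ω) = g * (r : Ω) * g⁻¹) →
      ∃ g' ∈ S, ∀ r : R, ((e (s r) : R') : Ω) = g' * ((e r : R') : Ω) * g'⁻¹)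
    (h : MaxCond8 F p R P Q pt) : MaxCond8 F p R' (imgEq8 e P) (imgEq8 e Q) pt := by
  intro H' hH' hH'le hle'
  have hinj : Function.Injective (MulAut.congr e).toMonoidHom := (MulAut.congr e).injective
  have hHp : IsPGroup p (H'.comap (MulAut.congr e).toMonoidHom) :=
    hH'.comap_of_injective _ hinj
  have h1 : H'.comap (MulAut.congr e).toMonoidHom ≤ F.autGroup R ⊓ kStab8 R P Q pt := by
    intro β hβ
    have hβ' : MulAut.congr e β ∈ H' := hβ
    obtain ⟨hA, hK⟩ := hH'le hβ'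
    refine ⟨?_, (kStab_congr8 e P Q pt β).1 hK⟩
    show β ∈ F.autGroup R
    rw [mem_autGroup_iff F hRS]
    have hA' : MulAut.congr e β ∈ F.autGroup R' := hA
    have h2 := (mem_autGroup_iff F hR'S _).1 hA'
    have h3 := fsIso_trans F he (fsIso_trans F h2 (fsIso_symm F he))
    have e4 : e.trans ((MulAut.congr e β).trans e.symm) = β := by
      ext x
      show ((e.symm (e (β (e.symm (e x)))) : R) : Ω) = _
      rw [e.symm_apply_apply, e.symm_apply_apply]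
    rw [e4] at h3
    exact h3
  have h2 : autInducedBy S R ⊓ kStab8 R P Q pt ≤ H'.comap (MulAut.congr e).toMonoidHom := by
    rintro s ⟨hsS, hsK⟩
    obtain ⟨g, hgS, hg⟩ := (mem_autInducedBy_iff S R s).1 hsS
    obtain ⟨g', hg'S, hg'⟩ := htr s hsK g hgS hg
    show MulAut.congr e s ∈ H'
    apply hle'
    refine ⟨(mem_autInducedBy_iff S R' _).2 ⟨g', hg'S, fun y => ?_⟩,
      (kStab_congr8 e P Q pt s).2 hsK⟩
    have h4 := hg' (e.symm y)
    rw [e.apply_symm_apply] at h4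
    exact h4
  have hconcl := h _ hHp h1 h2
  intro β' hβ'
  have hβ : (MulAut.congr e).symm β' ∈ H'.comap (MulAut.congr e).toMonoidHom := by
    show MulAut.congr e ((MulAut.congr e).symm β') ∈ H'
    rw [MulEquiv.apply_symm_apply]
    exact hβ'
  obtain ⟨g, hgS, hg⟩ := (mem_autInducedBy_iff S R _).1 (hconcl hβ)
  obtain ⟨g', hg'S, hg'⟩ := htr _ (h1 hβ).2 g hgS hg
  refine (mem_autInducedBy_iff S R' _).2 ⟨g', hg'S, fun y => ?_⟩
  have h4 := hg' (e.symm y)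
  rw [e.apply_symm_apply] at h4
  refine Eq.trans ?_ h4
  show ((β' y : R') : Ω) = ((e (e.symm (β' (e (e.symm y)))) : R') : Ω)
  rw [e.apply_symm_apply, e.apply_symm_apply]

/-- `N_S(Q)`, or `C_S(Q)` if `pt` holds -/
def nOrC8 (S Q : Subgroup Ω) (pt : Prop) : Subgroup Ω where
  carrier := {g | g ∈ S ∧ g ∈ Subgroup.normalizer (Q : Set Ω) ∧
    (pt → g ∈ Subgroup.centralizer (Q : Set Ω))}
  one_mem' := ⟨S.one_mem, Subgroup.one_mem _, fun _ => Subgroup.one_mem _⟩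
  mul_mem' := fun ha hb => ⟨S.mul_mem ha.1 hb.1, Subgroup.mul_mem _ ha.2.1 hb.2.1,
    fun h => Subgroup.mul_mem _ (ha.2.2 h) (hb.2.2 h)⟩
  inv_mem' := fun ha => ⟨S.inv_mem ha.1, Subgroup.inv_mem _ ha.2.1,
    fun h => Subgroup.inv_mem _ (ha.2.2 h)⟩

theorem mem_nOrC8 (S Q : Subgroup Ω) (pt : Prop) (g : Ω) :
    g ∈ nOrC8 S Q pt ↔ (g ∈ S ∧ g ∈ Subgroup.normalizer (Q : Set Ω) ∧
    (pt → g ∈ Subgroup.centralizer (Q : Set Ω))) := Iff.rfl

theorem nOrC8_le (S Q : Subgroup Ω) (pt : Prop) : nOrC8 S Q pt ≤ S := fun _ h => h.1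

/-- restriction of an automorphism to a stable subgroup -/
def autRestr8 {R P : Subgroup Ω} (hPR : P ≤ R) (β : MulAut R)
    (h : ∀ y : R, (y : Ω) ∈ P ↔ ((β y : R) : Ω) ∈ P) : MulAut P where
  toFun x := ⟨((β (Subgroup.inclusion hPR x) : R) : Ω), (h _).1 x.2⟩
  invFun x := ⟨((β⁻¹ (Subgroup.inclusion hPR x) : R) : Ω), (h _).2 (by
    rw [MulAut.apply_inv_self]
    exact x.2)⟩
  left_inv x := by
    apply Subtype.ext
    have e : Subgroup.inclusion hPR ⟨((β (Subgroup.inclusion hPR x) : R) : Ω), (h _).1 x.2⟩ =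
        β (Subgroup.inclusion hPR x) := Subtype.ext rfl
    show ((β⁻¹ (Subgroup.inclusion hPR
      ⟨((β (Subgroup.inclusion hPR x) : R) : Ω), (h _).1 x.2⟩) : R) : Ω) = x
    rw [e, MulAut.inv_apply_self]
    rfl
  right_inv x := by
    apply Subtype.ext
    have hx : ((β⁻¹ (Subgroup.inclusion hPR x) : R) : Ω) ∈ P := (h _).2 (by
      rw [MulAut.apply_inv_self]
      exact x.2)
    have e : Subgroup.inclusion hPR ⟨((β⁻¹ (Subgroup.inclusion hPR x) : R) : Ω), hx⟩ =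
        β⁻¹ (Subgroup.inclusion hPR x) := Subtype.ext rfl
    show ((β (Subgroup.inclusion hPR
      ⟨((β⁻¹ (Subgroup.inclusion hPR x) : R) : Ω), hx⟩) : R) : Ω) = x
    rw [e, MulAut.apply_inv_self]
    rfl
  map_mul' x y := by
    apply Subtype.ext
    show ((β (Subgroup.inclusion hPR (x * y)) : R) : Ω) =
      ((β (Subgroup.inclusion hPR x) : R) : Ω) * ((β (Subgroup.inclusion hPR y) : R) : Ω)
    rw [map_mul, map_mul]
    rfl

theorem autRestr8_apply {R P : Subgroup Ω} (hPR : P ≤ R) (β : MulAut R)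
    (h : ∀ y : R, (y : Ω) ∈ P ↔ ((β y : R) : Ω) ∈ P) (x : P) :
    ((autRestr8 hPR β h x : P) : Ω) = ((β (Subgroup.inclusion hPR x) : R) : Ω) := rfl

/-- restriction to `P` of the automorphisms of `P ⊔ Q` in the stabilizer -/
def kRho8 (F : FusionSystem S) (P Q : Subgroup Ω) (pt : Prop) :
    ↥(F.autGroup (P ⊔ Q) ⊓ kStab8 (P ⊔ Q) P Q pt) →* MulAut P where
  toFun b := autRestr8 le_sup_left (b : MulAut ↥(P ⊔ Q)) b.2.2.1
  map_one' := by
    ext x
    rfl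
  map_mul' a b := by
    ext x
    rfl

theorem kRho8_apply (F : FusionSystem S) (P Q : Subgroup Ω) (pt : Prop)
    (b : ↥(F.autGroup (P ⊔ Q) ⊓ kStab8 (P ⊔ Q) P Q pt)) (x : P) :
    ((kRho8 F P Q pt b x : P) : Ω) =
      (((b : MulAut ↥(P ⊔ Q)) (Subgroup.inclusion le_sup_left x) : ↥(P ⊔ Q)) : Ω) := rfl

end Cfsg.Agent.Lib.Helper8
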