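import Mathlib
import Cfsg.Prelude.Def_FusionSystem
import Cfsg.Agent.Lib.Helper8.KNorm1

set_option autoImplicit false

namespace Cfsg.Agent.Lib.Helper8

open Cfsg Cfsg.FusionSystem

variable {Ω : Type*} [Group Ω] {S : Subgroup Ω}

/-- `E` is the `K`-normalizer system of `Q`: the normalizer system, or the centralizer system if
`pt` holds -/
def IsKSystem8 (F : FusionSystem S) (Q : Subgroup Ω) (pt : Prop)
    (E : FusionSystem (nOrC8 S Q pt)) : Prop :=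
  ∀ (P : Subgroup Ω) (φ : P →* Ω), φ ∈ E.Hom P ↔ (φ ∈ F.Hom P ∧ P ≤ nOrC8 S Q pt ∧
    (∀ x : P, φ x ∈ nOrC8 S Q pt) ∧
    ∃ ψ ∈ F.Hom (P ⊔ Q), (∀ x : P, ψ (Subgroup.inclusion le_sup_left x) = φ x) ∧
      (Q.subgroupOf (P ⊔ Q)).map ψ = Q ∧
      (pt → ∀ x : Q, ψ (Subgroup.inclusion le_sup_right x) = x))

theorem kRho_mem8 (F : FusionSystem S) (Q : Subgroup Ω) (hQS : Q ≤ S) (pt : Prop)
    (E : FusionSystem (nOrC8 S Q pt)) (hE : IsKSystem8 F Q pt E)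
    {P : Subgroup Ω} (hPN : P ≤ nOrC8 S Q pt)
    (b : ↥(F.autGroup (P ⊔ Q) ⊓ kStab8 (P ⊔ Q) P Q pt)) :
    kRho8 F P Q pt b ∈ E.autGroup P := by
  have hPS : P ≤ S := hPN.trans (nOrC8_le S Q pt)
  have hWS : P ⊔ Q ≤ S := sup_le hPS hQS
  have hbF : (P ⊔ Q).subtype.comp (b : MulAut ↥(P ⊔ Q)).toMonoidHom ∈ F.Hom (P ⊔ Q) :=
    (mem_autGroup_iff F hWS _).1 b.2.1
  obtain ⟨hb1, hb2, hb3⟩ := b.2.2
  rw [mem_autGroup_iff E hPN]
  show P.subtype.comp (kRho8 F P Q pt b).toMonoidHom ∈ E.Hom P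
  rw [hE]
  refine ⟨?_, hPN, fun x => hPN (kRho8 F P Q pt b x).2, _, hbF, fun x => rfl, ?_, ?_⟩
  · have h1 := fs_restrict_mem F hbF (le_sup_left : P ≤ P ⊔ Q)
    have e : P.subtype.comp (kRho8 F P Q pt b).toMonoidHom =
        ((P ⊔ Q).subtype.comp (b : MulAut ↥(P ⊔ Q)).toMonoidHom).comp
          (Subgroup.inclusion le_sup_left) := by
      ext x
      rfl
    rw [e]
    exact h1
  · ext y
    constructor
    · rintro ⟨z, hz, rfl⟩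
      exact (hb2 z).1 (Subgroup.mem_subgroupOf.1 hz)
    · intro hy
      have hyW : y ∈ P ⊔ Q := (le_sup_right : Q ≤ P ⊔ Q) hy
      refine ⟨(b : MulAut ↥(P ⊔ Q))⁻¹ ⟨y, hyW⟩, ?_, ?_⟩
      · show ((((b : MulAut ↥(P ⊔ Q))⁻¹ ⟨y, hyW⟩) : ↥(P ⊔ Q)) : Ω) ∈ Q
        apply (hb2 _).2
        rw [MulAut.apply_inv_self]
        exact hy
      · show ((((b : MulAut ↥(P ⊔ Q)) ((b : MulAut ↥(P ⊔ Q))⁻¹ ⟨y, hyW⟩)) : ↥(P ⊔ Q)) : Ω) = y
        rw [MulAut.apply_inv_self]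
  · intro hpt x
    have h1 := hb3 hpt (Subgroup.inclusion le_sup_right x) x.2
    exact congrArg (fun z : ↥(P ⊔ Q) => (z : Ω)) h1

theorem kRho_surj8 (F : FusionSystem S) [Finite S] (Q : Subgroup Ω) (pt : Prop)
    (E : FusionSystem (nOrC8 S Q pt)) (hE : IsKSystem8 F Q pt E)
    {P : Subgroup Ω} (hPN : P ≤ nOrC8 S Q pt) (a : MulAut P) (ha : a ∈ E.autGroup P) :
    ∃ b : ↥(F.autGroup (P ⊔ Q) ⊓ kStab8 (P ⊔ Q) P Q pt), kRho8 F P Q pt b = a := by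
  have haE : P.subtype.comp a.toMonoidHom ∈ E.Hom P := (mem_autGroup_iff E hPN a).1 ha
  obtain ⟨-, -, -, ψ, hψ, hψP, hψQ, hψpt⟩ := (hE P _).1 haE
  have hPnorm : P ≤ Subgroup.normalizer (Q : Set Ω) := fun x hx => (hPN hx).2.1
  have hψQmem : ∀ q : Q, ψ (Subgroup.inclusion le_sup_right q) ∈ Q := by
    intro q
    have h : ψ (Subgroup.inclusion le_sup_right q) ∈ (Q.subgroupOf (P ⊔ Q)).map ψ :=
      ⟨_, Subgroup.mem_subgroupOf.2 q.2, rfl⟩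
    rw [hψQ] at h
    exact h
  have hψPmem : ∀ (y : ↥(P ⊔ Q)) (hy : (y : Ω) ∈ P), ψ y = ((a ⟨(y : Ω), hy⟩ : P) : Ω) := by
    intro y hy
    exact hψP ⟨(y : Ω), hy⟩
  have hrle : ψ.range ≤ P ⊔ Q := by
    rintro _ ⟨w, rfl⟩
    obtain ⟨x, hx, q, hq, hw⟩ := exists_mul_of_mem_sup8 P Q hPnorm w.2
    have ew : w = Subgroup.inclusion le_sup_left ⟨x, hx⟩ *
        Subgroup.inclusion le_sup_right ⟨q, hq⟩ := Subtype.ext hw
    rw [ew, map_mul, hψP]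
    exact Subgroup.mul_mem _ ((le_sup_left : P ≤ P ⊔ Q) (a ⟨x, hx⟩).2)
      ((le_sup_right : Q ≤ P ⊔ Q) (hψQmem ⟨q, hq⟩))
  obtain ⟨β, hβ, hβx⟩ := fs_exists_aut_of_range_le F hψ hrle
  have hβinj : Function.Injective β := β.injective
  have hK : β ∈ kStab8 (P ⊔ Q) P Q pt := by
    refine ⟨fun y => ⟨fun hy => ?_, fun hy => ?_⟩, fun y => ⟨fun hy => ?_, fun hy => ?_⟩,
      fun hpt y hy => ?_⟩
    · rw [hβx, hψPmem y hy]
      exact (a ⟨(y : Ω), hy⟩).2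
    · obtain ⟨x', hx'⟩ := a.surjective ⟨((β y : ↥(P ⊔ Q)) : Ω), hy⟩
      have h1 : β (Subgroup.inclusion le_sup_left x') = β y := by
        apply Subtype.ext
        rw [hβx, hψP]
        exact congrArg (fun z : P => (z : Ω)) hx'
      have h2 := hβinj h1
      rw [← h2]
      exact x'.2
    · rw [hβx]
      exact hψQmem ⟨(y : Ω), hy⟩
    · have hy' : ((β y : ↥(P ⊔ Q)) : Ω) ∈ (Q.subgroupOf (P ⊔ Q)).map ψ := by
        rw [hψQ]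
        exact hy
      obtain ⟨z, hz, hzy⟩ := hy'
      have h1 : β z = β y := by
        apply Subtype.ext
        rw [hβx]
        exact hzy
      have h2 := hβinj h1
      rw [← h2]
      exact Subgroup.mem_subgroupOf.1 hz
    · apply Subtype.ext
      rw [hβx]
      exact hψpt hpt ⟨(y : Ω), hy⟩
  refine ⟨⟨β, hβ, hK⟩, ?_⟩
  ext x
  rw [kRho8_apply]
  show ((β (Subgroup.inclusion le_sup_left x) : ↥(P ⊔ Q)) : Ω) = _
  rw [hβx, hψP]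
  rfl

theorem kRho_syl8 (F : FusionSystem S) [Finite S] (Q : Subgroup Ω) (hQS : Q ≤ S) (pt : Prop)
    {P : Subgroup Ω} (b : ↥(F.autGroup (P ⊔ Q) ⊓ kStab8 (P ⊔ Q) P Q pt))
    (hb : (b : MulAut ↥(P ⊔ Q)) ∈ autInducedBy S (P ⊔ Q)) :
    kRho8 F P Q pt b ∈ autInducedBy (nOrC8 S Q pt) P := by
  obtain ⟨g, hgS, hg⟩ := (mem_autInducedBy_iff S (P ⊔ Q) _).1 hb
  obtain ⟨hb1, hb2, hb3⟩ := b.2.2
  have hfinQ : Finite Q := finite_of_le_fs hQS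
  refine (mem_autInducedBy_iff _ P _).2 ⟨g, ⟨hgS, ?_, ?_⟩, fun x => ?_⟩
  · apply mem_normalizer_of_conj_mem_finite
    intro y hy
    have h1 := (hb2 ⟨y, (le_sup_right : Q ≤ P ⊔ Q) hy⟩).1 hy
    rw [hg] at h1
    exact h1
  · intro hpt
    rw [Subgroup.mem_centralizer_iff]
    intro y hy
    have h1 := hb3 hpt ⟨y, (le_sup_right : Q ≤ P ⊔ Q) hy⟩ hy
    have h2 : (((b : MulAut ↥(P ⊔ Q)) ⟨y, (le_sup_right : Q ≤ P ⊔ Q) hy⟩ : ↥(P ⊔ Q)) : Ω) =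
        y := congrArg (fun z : ↥(P ⊔ Q) => (z : Ω)) h1
    rw [hg] at h2
    have h3 : g * y * g⁻¹ = y := h2
    calc y * g = (g * y * g⁻¹) * g := by rw [h3]
      _ = g * y := by group
  · rw [kRho8_apply, hg]
    rfl

theorem normalizer_sup8 {P Q : Subgroup Ω} {g : Ω}
    (hP : g ∈ Subgroup.normalizer (P : Set Ω)) (hQ : g ∈ Subgroup.normalizer (Q : Set Ω)) :
    ∀ y ∈ P ⊔ Q, g * y * g⁻¹ ∈ P ⊔ Q := by
  have hle : (P ⊔ Q).map (MulAut.conj g).toMonoidHom ≤ P ⊔ Q := by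
    rw [Subgroup.map_sup]
    apply sup_le_sup
    · rintro _ ⟨x, hx, rfl⟩
      exact (Subgroup.mem_normalizer_iff.1 hP x).1 hx
    · rintro _ ⟨x, hx, rfl⟩
      exact (Subgroup.mem_normalizer_iff.1 hQ x).1 hx
  intro y hy
  exact hle ⟨y, hy, rfl⟩

theorem kRho_lift8 (F : FusionSystem S) [Finite S] (Q : Subgroup Ω) (hQS : Q ≤ S) (pt : Prop)
    {P : Subgroup Ω} (hPS : P ≤ S) (a : MulAut P) (ha : a ∈ autInducedBy (nOrC8 S Q pt) P) :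
    ∃ b : ↥(F.autGroup (P ⊔ Q) ⊓ kStab8 (P ⊔ Q) P Q pt),
      (b : MulAut ↥(P ⊔ Q)) ∈ autInducedBy S (P ⊔ Q) ∧ kRho8 F P Q pt b = a := by
  obtain ⟨g, ⟨hgS, hgnQ, hgc⟩, hg⟩ := (mem_autInducedBy_iff _ P a).1 ha
  have hWS : P ⊔ Q ≤ S := sup_le hPS hQS
  have hfinP : Finite P := finite_of_le_fs hPS
  have hfinW : Finite ↥(P ⊔ Q) := finite_of_le_fs hWS
  have hgnP : g ∈ Subgroup.normalizer (P : Set Ω) := by
    apply mem_normalizer_of_conj_mem_finite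
    intro y hy
    rw [← hg ⟨y, hy⟩]
    exact (a ⟨y, hy⟩).2
  have hgnW : g ∈ Subgroup.normalizer ((P ⊔ Q : Subgroup Ω) : Set Ω) :=
    mem_normalizer_of_conj_mem_finite (normalizer_sup8 hgnP hgnQ)
  have hb₀A : (P ⊔ Q).normalizerMonoidHom ⟨g, hgnW⟩ ∈ F.autGroup (P ⊔ Q) :=
    (mem_autGroup_iff F hWS _).2 (fsIso_conj F hWS ⟨g, hgnW⟩ hgS)
  have hb₀K : (P ⊔ Q).normalizerMonoidHom ⟨g, hgnW⟩ ∈ kStab8 (P ⊔ Q) P Q pt := by
    refine ⟨fun y => Subgroup.mem_normalizer_iff.1 hgnP y,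
      fun y => Subgroup.mem_normalizer_iff.1 hgnQ y, fun hpt y hy => ?_⟩
    apply Subtype.ext
    show g * (y : Ω) * g⁻¹ = y
    have h1 := (Subgroup.mem_centralizer_iff.1 (hgc hpt)) (y : Ω) hy
    rw [← h1, mul_inv_cancel_right]
  refine ⟨⟨_, hb₀A, hb₀K⟩, (mem_autInducedBy_iff S _ _).2 ⟨g, hgS, fun x => rfl⟩, ?_⟩
  ext x
  exact (hg x).symm

theorem kSyl_exists8 (F : FusionSystem S) [Finite S] (p : ℕ) [Fact p.Prime]
    (hS : IsPGroup p S) {W : Subgroup Ω} (hWS : W ≤ S) (P Q : Subgroup Ω) (pt : Prop)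
    (hmax : MaxCond8 F p W P Q pt) :
    ∃ Syl : Sylow p ↥(F.autGroup W ⊓ kStab8 W P Q pt),
      (Syl : Subgroup ↥(F.autGroup W ⊓ kStab8 W P Q pt)) =
        (autInducedBy S W).subgroupOf (F.autGroup W ⊓ kStab8 W P Q pt) := by
  refine ⟨⟨(autInducedBy S W).subgroupOf (F.autGroup W ⊓ kStab8 W P Q pt),
    (autInducedBy_isPGroup hS W).comap_subtype, ?_⟩, rfl⟩
  intro H' hH' hle
  apply le_antisymm _ hle
  intro x hx
  rw [Subgroup.mem_subgroupOf]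
  apply hmax (H'.map (F.autGroup W ⊓ kStab8 W P Q pt).subtype) (hH'.map _)
  · rintro _ ⟨y, -, rfl⟩
    exact y.2
  · rintro s ⟨hsS, hsK⟩
    have hsA : s ∈ F.autGroup W := autInducedBy_le_autGroup F hWS hsS
    exact ⟨⟨s, hsA, hsK⟩, hle (Subgroup.mem_subgroupOf.2 hsS), rfl⟩
  · exact ⟨x, hx, rfl⟩

/-- a good subgroup is fully automized in the `K`-normalizer system -/
theorem kgood_fullyAutomized8 (F : FusionSystem S) [Finite S] (p : ℕ) [Fact p.Prime]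
    (hS : IsPGroup p S) (Q : Subgroup Ω) (hQS : Q ≤ S) (pt : Prop)
    (E : FusionSystem (nOrC8 S Q pt)) (hE : IsKSystem8 F Q pt E)
    {P : Subgroup Ω} (hPN : P ≤ nOrC8 S Q pt) (hmax : MaxCond8 F p (P ⊔ Q) P Q pt) :
    E.IsFullyAutomized p P := by
  have hPS : P ≤ S := hPN.trans (nOrC8_le S Q pt)
  have hWS : P ⊔ Q ≤ S := sup_le hPS hQS
  obtain ⟨Syl, hSyl⟩ := kSyl_exists8 F p hS hWS P Q pt hmax
  have hfinW : Finite ↥(P ⊔ Q) := finite_of_le_fs hWS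
  have hsurj : Function.Surjective ((kRho8 F P Q pt).codRestrict (E.autGroup P)
      (kRho_mem8 F Q hQS pt E hE hPN)) := by
    rintro ⟨a, ha⟩
    obtain ⟨b, hb⟩ := kRho_surj8 F Q pt E hE hPN a ha
    exact ⟨b, Subtype.ext hb⟩
  refine ⟨hPN, Syl.mapSurjective hsurj, ?_⟩
  rw [Sylow.coe_mapSurjective, hSyl]
  ext a
  constructor
  · rintro ⟨b, hb, rfl⟩
    have hb' : (b : MulAut ↥(P ⊔ Q)) ∈ autInducedBy S (P ⊔ Q) := hb
    rw [Subgroup.mem_subgroupOf]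
    exact kRho_syl8 F Q hQS pt b hb'
  · intro ha
    rw [Subgroup.mem_subgroupOf] at ha
    obtain ⟨b, hb, hba⟩ := kRho_lift8 F Q hQS pt hPS (a : MulAut P) ha
    exact ⟨b, Subgroup.mem_subgroupOf.2 hb, Subtype.ext hba⟩

end Cfsg.Agent.Lib.Helper8
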