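import Mathlib
import Cfsg.Prelude.Def_FusionSystem
import Cfsg.Agent.Lib.Helper8.KNorm2

set_option autoImplicit false

namespace Cfsg.Agent.Lib.Helper8

open Cfsg Cfsg.FusionSystem

variable {Ω : Type*} [Group Ω] {S : Subgroup Ω}

theorem mem_extender_of_congr_mem8 {W₀ W : Subgroup Ω} (e : W₀ ≃* W) {g : Ω} (hgS : g ∈ S)
    (hgN : g ∈ Subgroup.normalizer (W₀ : Set Ω))
    (h : MulAut.congr e (W₀.normalizerMonoidHom ⟨g, hgN⟩) ∈ autInducedBy S W) :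
    g ∈ extender S W₀ (W.subtype.comp e.toMonoidHom) := by
  apply Subgroup.subset_closure
  refine ⟨hgS, hgN, ?_⟩
  obtain ⟨h', hh'S, hh'⟩ := (mem_autInducedBy_iff S W _).1 h
  refine ⟨h', hh'S, ?_⟩
  intro x hx
  have h4 := hh' (e x)
  rw [congr_apply8] at h4
  exact h4

/-- a good subgroup is receptive in the `K`-normalizer system -/
theorem kgood_receptive8 (F : FusionSystem S) [Finite S] (p : ℕ) [Fact p.Prime]
    (hS : IsPGroup p S) (hF : F.IsSaturated p) (Q : Subgroup Ω) (hQS : Q ≤ S) (pt : Prop)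
    (E : FusionSystem (nOrC8 S Q pt)) (hE : IsKSystem8 F Q pt E)
    {P : Subgroup Ω} (hPN : P ≤ nOrC8 S Q pt) (hPc : F.IsFullyCentralized (P ⊔ Q))
    (hmax : MaxCond8 F p (P ⊔ Q) P Q pt) : E.IsReceptive P := by
  have hPS : P ≤ S := hPN.trans (nOrC8_le S Q pt)
  have hWS : P ⊔ Q ≤ S := sup_le hPS hQS
  obtain ⟨hn, hcr⟩ := (fs_saturated_iff F p hS).1 hF
  have hrecW : F.IsReceptive (P ⊔ Q) := hcr _ hPc
  refine ⟨hPN, ?_⟩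
  intro P₀ φ hφ hφr
  obtain ⟨hφF, hP₀N, hφN, φ', hφ', hφ'P, hφ'Q, hφ'pt⟩ := (hE P₀ φ).1 hφ
  have hP₀S : P₀ ≤ S := hP₀N.trans (nOrC8_le S Q pt)
  have hW₀S : P₀ ⊔ Q ≤ S := sup_le hP₀S hQS
  have hP₀norm : P₀ ≤ Subgroup.normalizer (Q : Set Ω) := fun x hx => (hP₀N hx).2.1
  have hfinQ : Finite Q := finite_of_le_fs hQS
  have hfinW : Finite ↥(P ⊔ Q) := finite_of_le_fs hWS
  have hfinW₀ : Finite ↥(P₀ ⊔ Q) := finite_of_le_fs hW₀S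
  have hφ'Qmem : ∀ q : Q, φ' (Subgroup.inclusion le_sup_right q) ∈ Q := by
    intro q
    have h : φ' (Subgroup.inclusion le_sup_right q) ∈ (Q.subgroupOf (P₀ ⊔ Q)).map φ' :=
      ⟨_, Subgroup.mem_subgroupOf.2 q.2, rfl⟩
    rw [hφ'Q] at h
    exact h
  have hφP : ∀ x : P₀, φ x ∈ P := by
    intro x
    have h : φ x ∈ φ.range := ⟨x, rfl⟩
    rw [hφr] at h
    exact h
  have hrange : φ'.range = P ⊔ Q := by
    apply le_antisymm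
    · rintro _ ⟨w, rfl⟩
      obtain ⟨x, hx, q, hq, hw⟩ := exists_mul_of_mem_sup8 P₀ Q hP₀norm w.2
      have ew : w = Subgroup.inclusion le_sup_left ⟨x, hx⟩ *
          Subgroup.inclusion le_sup_right ⟨q, hq⟩ := Subtype.ext hw
      rw [ew, map_mul, hφ'P]
      exact Subgroup.mul_mem _ ((le_sup_left : P ≤ P ⊔ Q) (hφP _))
        ((le_sup_right : Q ≤ P ⊔ Q) (hφ'Qmem _))
    · apply sup_le
      · intro y hy
        have hy' : y ∈ φ.range := by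
          rw [hφr]
          exact hy
        obtain ⟨x, rfl⟩ := hy'
        exact ⟨_, hφ'P x⟩
      · intro y hy
        have hy' : y ∈ (Q.subgroupOf (P₀ ⊔ Q)).map φ' := by
          rw [hφ'Q]
          exact hy
        obtain ⟨z, -, hz⟩ := hy'
        exact ⟨z, hz⟩
  obtain ⟨e₀, he₀, he₀x⟩ : ∃ e₀ : ↥(P₀ ⊔ Q) ≃* ↥(P ⊔ Q), FsIso F e₀ ∧
      ∀ w, ((e₀ w : ↥(P ⊔ Q)) : Ω) = φ' w :=
    ⟨_, fsIso_fsEquiv F hφ' hrange, fun w => rfl⟩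
  have hP_eq : imgEq8 e₀ P₀ = P := by
    ext y
    constructor
    · rintro ⟨x, hx, rfl⟩
      show ((e₀ x : ↥(P ⊔ Q)) : Ω) ∈ P
      rw [he₀x]
      have h1 := hφ'P ⟨(x : Ω), Subgroup.mem_subgroupOf.1 hx⟩
      have e : Subgroup.inclusion le_sup_left
          (⟨(x : Ω), Subgroup.mem_subgroupOf.1 hx⟩ : P₀) = x := Subtype.ext rfl
      rw [e] at h1
      rw [h1]
      exact hφP _
    · intro hy
      have hy' : y ∈ φ.range := by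
        rw [hφr]
        exact hy
      obtain ⟨x, rfl⟩ := hy'
      exact ⟨Subgroup.inclusion le_sup_left x, Subgroup.mem_subgroupOf.2 x.2,
        (he₀x _).trans (hφ'P x)⟩
  have hQ_eq : imgEq8 e₀ Q = Q := by
    ext y
    constructor
    · rintro ⟨z, hz, rfl⟩
      show ((e₀ z : ↥(P ⊔ Q)) : Ω) ∈ Q
      rw [he₀x]
      have h : φ' z ∈ (Q.subgroupOf (P₀ ⊔ Q)).map φ' := ⟨z, hz, rfl⟩
      rw [hφ'Q] at h
      exact h
    · intro hy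
      have hy' : y ∈ (Q.subgroupOf (P₀ ⊔ Q)).map φ' := by
        rw [hφ'Q]
        exact hy
      obtain ⟨z, hz, hzy⟩ := hy'
      exact ⟨z, hz, (he₀x z).trans hzy⟩
  -- the normalizer of `P₀` in `N` acts on `P₀ ⊔ Q`
  have hXY : extender (nOrC8 S Q pt) P₀ φ ≤ normalizerIn (nOrC8 S Q pt) P₀ :=
    extender_le (nOrC8 S Q pt) P₀ φ
  have hYnorm : normalizerIn (nOrC8 S Q pt) P₀ ≤
      Subgroup.normalizer ((P₀ ⊔ Q : Subgroup Ω) : Set Ω) := by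
    intro g hg
    exact mem_normalizer_of_conj_mem_finite (normalizer_sup8 hg.2 hg.1.2.1)
  have hYS : normalizerIn (nOrC8 S Q pt) P₀ ≤ S :=
    (normalizerIn_le (nOrC8 S Q pt) P₀).trans (nOrC8_le S Q pt)
  have hΦA : ∀ g : normalizerIn (nOrC8 S Q pt) P₀,
      ((MulAut.congr e₀).toMonoidHom.comp ((P₀ ⊔ Q).normalizerMonoidHom.comp
        (Subgroup.inclusion hYnorm))) g ∈ F.autGroup (P ⊔ Q) := by
    intro g
    exact (mem_autGroup_iff F hWS _).2 (fsIso_trans F (fsIso_symm F he₀)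
      (fsIso_trans F (fsIso_conj F hW₀S ⟨(g : Ω), hYnorm g.2⟩ (hYS g.2)) he₀))
  have hΦK : ∀ g : normalizerIn (nOrC8 S Q pt) P₀,
      ((MulAut.congr e₀).toMonoidHom.comp ((P₀ ⊔ Q).normalizerMonoidHom.comp
        (Subgroup.inclusion hYnorm))) g ∈ kStab8 (P ⊔ Q) P Q pt := by
    intro g
    have h1 : (P₀ ⊔ Q).normalizerMonoidHom ⟨(g : Ω), hYnorm g.2⟩ ∈
        kStab8 (P₀ ⊔ Q) P₀ Q pt := by
      refine ⟨fun y => Subgroup.mem_normalizer_iff.1 g.2.2 y,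
        fun y => Subgroup.mem_normalizer_iff.1 g.2.1.2.1 y, fun hpt y hy => ?_⟩
      apply Subtype.ext
      show (g : Ω) * (y : Ω) * (g : Ω)⁻¹ = y
      have h2 := (Subgroup.mem_centralizer_iff.1 (g.2.1.2.2 hpt)) (y : Ω) hy
      rw [← h2, mul_inv_cancel_right]
    have h3 := (kStab_congr8 e₀ P₀ Q pt _).2 h1
    rw [hP_eq, hQ_eq] at h3
    exact h3
  obtain ⟨Φ₁, hΦ₁⟩ : ∃ Φ₁ : ↥(normalizerIn (nOrC8 S Q pt) P₀) →*
      ↥(F.autGroup (P ⊔ Q) ⊓ kStab8 (P ⊔ Q) P Q pt),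
      ∀ g, ((Φ₁ g : ↥(F.autGroup (P ⊔ Q) ⊓ kStab8 (P ⊔ Q) P Q pt)) : MulAut ↥(P ⊔ Q)) =
        MulAut.congr e₀ ((P₀ ⊔ Q).normalizerMonoidHom ⟨(g : Ω), hYnorm g.2⟩) :=
    ⟨((MulAut.congr e₀).toMonoidHom.comp ((P₀ ⊔ Q).normalizerMonoidHom.comp
        (Subgroup.inclusion hYnorm))).codRestrict _ (fun g => ⟨hΦA g, hΦK g⟩), fun g => rfl⟩
  obtain ⟨Syl, hSyl⟩ := kSyl_exists8 F p hS hWS P Q pt hmax
  have hYp : IsPGroup p ↥(normalizerIn (nOrC8 S Q pt) P₀) := hS.to_le hYS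
  have hXp : IsPGroup p ↥(((extender (nOrC8 S Q pt) P₀ φ).subgroupOf
      (normalizerIn (nOrC8 S Q pt) P₀)).map Φ₁) := (hYp.to_subgroup _).map Φ₁
  have hclaim : ∀ (g : Ω) (hg : g ∈ extender (nOrC8 S Q pt) P₀ φ),
      kRho8 F P Q pt (Φ₁ ⟨g, hXY hg⟩) ∈ autInducedBy (nOrC8 S Q pt) P := by
    intro g hg
    refine Subgroup.closure_induction (p := fun g hg => kRho8 F P Q pt (Φ₁ ⟨g, hXY hg⟩) ∈
      autInducedBy (nOrC8 S Q pt) P) ?_ ?_ ?_ ?_ hg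
    · intro g hgen
      obtain ⟨hgN, hgnorm, h, hhN, hrel⟩ := hgen
      refine (mem_autInducedBy_iff _ P _).2 ⟨h, hhN, fun y => ?_⟩
      have hy' : (y : Ω) ∈ φ.range := by
        rw [hφr]
        exact y.2
      obtain ⟨x₀, hx₀⟩ := hy'
      have e1 : Subgroup.inclusion le_sup_left y = e₀ (Subgroup.inclusion le_sup_left x₀) := by
        apply Subtype.ext
        rw [he₀x, hφ'P]
        exact hx₀.symm
      rw [kRho8_apply, hΦ₁, e1, congr_apply8, he₀x]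
      have hx : g * (x₀ : Ω) * g⁻¹ ∈ P₀ := (Subgroup.mem_normalizer_iff.1 hgnorm _).1 x₀.2
      have e2 : (P₀ ⊔ Q).normalizerMonoidHom ⟨g, hYnorm (hXY (Subgroup.subset_closure
          ⟨hgN, hgnorm, h, hhN, hrel⟩))⟩ (Subgroup.inclusion le_sup_left x₀) =
          Subgroup.inclusion le_sup_left ⟨g * (x₀ : Ω) * g⁻¹, hx⟩ := Subtype.ext rfl
      rw [e2, hφ'P, hrel x₀ hx, hx₀]
    · show kRho8 F P Q pt (Φ₁ 1) ∈ autInducedBy (nOrC8 S Q pt) P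
      rw [map_one, map_one]
      exact Subgroup.one_mem _
    · intro a b ha hb iha ihb
      show kRho8 F P Q pt (Φ₁ (⟨a, hXY ha⟩ * ⟨b, hXY hb⟩)) ∈ autInducedBy (nOrC8 S Q pt) P
      rw [map_mul, map_mul]
      exact Subgroup.mul_mem _ iha ihb
    · intro a ha iha
      show kRho8 F P Q pt (Φ₁ (⟨a, hXY ha⟩)⁻¹) ∈ autInducedBy (nOrC8 S Q pt) P
      rw [map_inv, map_inv]
      exact Subgroup.inv_mem _ iha
  have hXρ : ∀ x ∈ ((extender (nOrC8 S Q pt) P₀ φ).subgroupOf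
      (normalizerIn (nOrC8 S Q pt) P₀)).map Φ₁,
      ∃ s ∈ (Syl : Subgroup ↥(F.autGroup (P ⊔ Q) ⊓ kStab8 (P ⊔ Q) P Q pt)),
        kRho8 F P Q pt s = kRho8 F P Q pt x := by
    rintro _ ⟨g, hg, rfl⟩
    have hgX : (g : Ω) ∈ extender (nOrC8 S Q pt) P₀ φ := Subgroup.mem_subgroupOf.1 hg
    obtain ⟨s, hs, hsa⟩ := kRho_lift8 F Q hQS pt hPS _ (hclaim (g : Ω) hgX)
    refine ⟨s, ?_, hsa⟩
    rw [hSyl]
    exact Subgroup.mem_subgroupOf.2 hs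
  obtain ⟨κ, hκ1, hκX⟩ := sylow_ker_conj8 p (kRho8 F P Q pt) Syl _ hXp hXρ
  obtain ⟨hκa, hκ2, hκ3⟩ := κ.2.2
  have hκP : ∀ y : P, (((κ : MulAut ↥(P ⊔ Q)) (Subgroup.inclusion le_sup_left y) :
      ↥(P ⊔ Q)) : Ω) = y := by
    intro y
    have h1 := congrArg (fun a : MulAut P => ((a y : P) : Ω)) hκ1
    exact h1
  have he₁ : FsIso F (e₀.trans (κ : MulAut ↥(P ⊔ Q))) :=
    fsIso_trans F he₀ ((mem_autGroup_iff F hWS _).1 κ.2.1)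
  have hψ'mem : (P ⊔ Q).subtype.comp (e₀.trans (κ : MulAut ↥(P ⊔ Q))).toMonoidHom ∈
      F.Hom (P₀ ⊔ Q) := he₁
  have hψ'P : ∀ x : P₀, ((P ⊔ Q).subtype.comp (e₀.trans (κ : MulAut ↥(P ⊔ Q))).toMonoidHom)
      (Subgroup.inclusion le_sup_left x) = φ x := by
    intro x
    have e1 : e₀ (Subgroup.inclusion le_sup_left x) =
        Subgroup.inclusion le_sup_left (⟨φ x, hφP x⟩ : P) := by
      apply Subtype.ext
      rw [he₀x, hφ'P]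
      rfl
    show (((κ : MulAut ↥(P ⊔ Q)) (e₀ (Subgroup.inclusion le_sup_left x)) : ↥(P ⊔ Q)) : Ω) = φ x
    rw [e1, hκP]
  have hψ'Q : ∀ q : Q, ((P ⊔ Q).subtype.comp (e₀.trans (κ : MulAut ↥(P ⊔ Q))).toMonoidHom)
      (Subgroup.inclusion le_sup_right q) ∈ Q := by
    intro q
    show (((κ : MulAut ↥(P ⊔ Q)) (e₀ (Subgroup.inclusion le_sup_right q)) : ↥(P ⊔ Q)) : Ω) ∈ Q
    apply (hκ2 _).1
    rw [he₀x]
    exact hφ'Qmem q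
  have hψ'Qsurj : ∀ y ∈ Q, ∃ q : Q,
      ((P ⊔ Q).subtype.comp (e₀.trans (κ : MulAut ↥(P ⊔ Q))).toMonoidHom)
        (Subgroup.inclusion le_sup_right q) = y := by
    intro y hy
    have hyW : y ∈ P ⊔ Q := (le_sup_right : Q ≤ P ⊔ Q) hy
    have h1 : ((((κ : MulAut ↥(P ⊔ Q))⁻¹ ⟨y, hyW⟩) : ↥(P ⊔ Q)) : Ω) ∈ Q := by
      apply (hκ2 _).2
      rw [MulAut.apply_inv_self]
      exact hy
    have h2 : ((((κ : MulAut ↥(P ⊔ Q))⁻¹ ⟨y, hyW⟩) : ↥(P ⊔ Q)) : Ω) ∈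
        (Q.subgroupOf (P₀ ⊔ Q)).map φ' := by
      rw [hφ'Q]
      exact h1
    obtain ⟨z, hz, hzy⟩ := h2
    refine ⟨⟨(z : Ω), Subgroup.mem_subgroupOf.1 hz⟩, ?_⟩
    have e1 : e₀ (Subgroup.inclusion le_sup_right
        (⟨(z : Ω), Subgroup.mem_subgroupOf.1 hz⟩ : Q)) = (κ : MulAut ↥(P ⊔ Q))⁻¹ ⟨y, hyW⟩ := by
      apply Subtype.ext
      rw [he₀x]
      exact hzy
    show (((κ : MulAut ↥(P ⊔ Q)) (e₀ (Subgroup.inclusion le_sup_right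
      (⟨(z : Ω), Subgroup.mem_subgroupOf.1 hz⟩ : Q))) : ↥(P ⊔ Q)) : Ω) = y
    rw [e1, MulAut.apply_inv_self]
  have hψ'pt : pt → ∀ q : Q,
      ((P ⊔ Q).subtype.comp (e₀.trans (κ : MulAut ↥(P ⊔ Q))).toMonoidHom)
        (Subgroup.inclusion le_sup_right q) = q := by
    intro hpt q
    have e1 : e₀ (Subgroup.inclusion le_sup_right q) = Subgroup.inclusion le_sup_right q := by
      apply Subtype.ext
      rw [he₀x]
      exact hφ'pt hpt q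
    show (((κ : MulAut ↥(P ⊔ Q)) (e₀ (Subgroup.inclusion le_sup_right q)) : ↥(P ⊔ Q)) : Ω) = q
    rw [e1, hκ3 hpt _ q.2]
    rfl
  -- the extender
  have hXext : extender (nOrC8 S Q pt) P₀ φ ≤ extender S (P₀ ⊔ Q)
      ((P ⊔ Q).subtype.comp (e₀.trans (κ : MulAut ↥(P ⊔ Q))).toMonoidHom) := by
    show Subgroup.closure _ ≤ _
    rw [Subgroup.closure_le]
    intro g hgen
    have hgX : g ∈ extender (nOrC8 S Q pt) P₀ φ := Subgroup.subset_closure hgen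
    have hgY := hXY hgX
    apply mem_extender_of_congr_mem8 (e₀.trans (κ : MulAut ↥(P ⊔ Q))) (hYS hgY) (hYnorm hgY)
    have h1 := hκX (Φ₁ ⟨g, hgY⟩) ⟨⟨g, hgY⟩, Subgroup.mem_subgroupOf.2 hgX, rfl⟩
    rw [hSyl, Subgroup.mem_subgroupOf] at h1
    have e1 : MulAut.congr (e₀.trans (κ : MulAut ↥(P ⊔ Q)))
        ((P₀ ⊔ Q).normalizerMonoidHom ⟨g, hYnorm hgY⟩) =
        ((κ * Φ₁ ⟨g, hgY⟩ * κ⁻¹ : ↥(F.autGroup (P ⊔ Q) ⊓ kStab8 (P ⊔ Q) P Q pt)) :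
          MulAut ↥(P ⊔ Q)) := by
      show _ = (κ : MulAut ↥(P ⊔ Q)) * ((Φ₁ ⟨g, hgY⟩ :
        ↥(F.autGroup (P ⊔ Q) ⊓ kStab8 (P ⊔ Q) P Q pt)) : MulAut ↥(P ⊔ Q)) *
          (κ : MulAut ↥(P ⊔ Q))⁻¹
      rw [hΦ₁]
      ext w
      rfl
    rw [e1]
    exact h1
  have hT : extender (nOrC8 S Q pt) P₀ φ ⊔ (P₀ ⊔ Q) ≤ extender S (P₀ ⊔ Q)
      ((P ⊔ Q).subtype.comp (e₀.trans (κ : MulAut ↥(P ⊔ Q))).toMonoidHom) :=
    sup_le hXext (le_extender F hψ'mem)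
  obtain ⟨Ψ, hΨ, hΨx⟩ := fs_receptive_extend F hrecW hψ'mem (fsIso_range _)
    (le_sup_right : P₀ ⊔ Q ≤ extender (nOrC8 S Q pt) P₀ φ ⊔ (P₀ ⊔ Q)) hT
  have hXN : extender (nOrC8 S Q pt) P₀ φ ≤ nOrC8 S Q pt :=
    hXY.trans (normalizerIn_le (nOrC8 S Q pt) P₀)
  have hXQT : extender (nOrC8 S Q pt) P₀ φ ⊔ Q ≤ extender (nOrC8 S Q pt) P₀ φ ⊔ (P₀ ⊔ Q) :=
    sup_le le_sup_left ((le_sup_right : Q ≤ P₀ ⊔ Q).trans le_sup_right)
  have hΨQ : ∀ (q : Ω) (hq : q ∈ Q) (hqT : q ∈ extender (nOrC8 S Q pt) P₀ φ ⊔ (P₀ ⊔ Q)),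
      Ψ ⟨q, hqT⟩ = ((P ⊔ Q).subtype.comp (e₀.trans (κ : MulAut ↥(P ⊔ Q))).toMonoidHom)
        (Subgroup.inclusion le_sup_right (⟨q, hq⟩ : Q)) := fun q hq hqT =>
    hΨx (Subgroup.inclusion le_sup_right (⟨q, hq⟩ : Q))
  refine ⟨Ψ.comp (Subgroup.inclusion le_sup_left), ?_, ?_⟩
  · refine (hE _ _).2 ⟨fs_restrict_mem F hΨ le_sup_left, hXN, ?_,
      Ψ.comp (Subgroup.inclusion hXQT), fs_restrict_mem F hΨ hXQT, fun x => rfl, ?_, ?_⟩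
    · intro g
      have hgN := hXN g.2
      have hgT : (g : Ω) ∈ extender (nOrC8 S Q pt) P₀ φ ⊔ (P₀ ⊔ Q) :=
        (le_sup_left : extender (nOrC8 S Q pt) P₀ φ ≤ _) g.2
      refine ⟨fs_map_mem F hΨ _, ?_, ?_⟩
      · apply mem_normalizer_of_conj_mem_finite
        intro y hy
        obtain ⟨q, hq⟩ := hψ'Qsurj y hy
        have hqT : (q : Ω) ∈ extender (nOrC8 S Q pt) P₀ φ ⊔ (P₀ ⊔ Q) :=
          (le_sup_right : P₀ ⊔ Q ≤ _) ((le_sup_right : Q ≤ P₀ ⊔ Q) q.2)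
        have hgq : (g : Ω) * (q : Ω) * (g : Ω)⁻¹ ∈ Q :=
          (Subgroup.mem_normalizer_iff.1 hgN.2.1 _).1 q.2
        have hgqT : (g : Ω) * (q : Ω) * (g : Ω)⁻¹ ∈
            extender (nOrC8 S Q pt) P₀ φ ⊔ (P₀ ⊔ Q) :=
          (le_sup_right : P₀ ⊔ Q ≤ _) ((le_sup_right : Q ≤ P₀ ⊔ Q) hgq)
        have h1 : Ψ ⟨(q : Ω), hqT⟩ = y := (hΨQ q q.2 hqT).trans hq
        have h2 : Ψ ⟨(g : Ω) * (q : Ω) * (g : Ω)⁻¹, hgqT⟩ =
            Ψ ⟨(g : Ω), hgT⟩ * Ψ ⟨(q : Ω), hqT⟩ * (Ψ ⟨(g : Ω), hgT⟩)⁻¹ := by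
          rw [← map_inv, ← map_mul, ← map_mul]
          rfl
        show Ψ ⟨(g : Ω), hgT⟩ * y * (Ψ ⟨(g : Ω), hgT⟩)⁻¹ ∈ Q
        rw [← h1, ← h2, hΨQ _ hgq hgqT]
        exact hψ'Q _
      · intro hpt
        rw [Subgroup.mem_centralizer_iff]
        intro y hy
        have hyT : y ∈ extender (nOrC8 S Q pt) P₀ φ ⊔ (P₀ ⊔ Q) :=
          (le_sup_right : P₀ ⊔ Q ≤ _) ((le_sup_right : Q ≤ P₀ ⊔ Q) hy)
        have h1 : Ψ ⟨y, hyT⟩ = y := (hΨQ y hy hyT).trans (hψ'pt hpt ⟨y, hy⟩)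
        have h2 : y * (g : Ω) = (g : Ω) * y :=
          (Subgroup.mem_centralizer_iff.1 (hgN.2.2 hpt)) y hy
        have h3 : (⟨y, hyT⟩ : ↥(extender (nOrC8 S Q pt) P₀ φ ⊔ (P₀ ⊔ Q))) * ⟨(g : Ω), hgT⟩ =
            ⟨(g : Ω), hgT⟩ * ⟨y, hyT⟩ := Subtype.ext h2
        have h4 := congrArg (fun t : ↥(extender (nOrC8 S Q pt) P₀ φ ⊔ (P₀ ⊔ Q)) => Ψ t) h3
        simp only [map_mul] at h4
        rw [h1] at h4
        exact h4
    · ext y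
      constructor
      · rintro ⟨z, hz, rfl⟩
        have hzQ : (z : Ω) ∈ Q := Subgroup.mem_subgroupOf.1 hz
        show Ψ ⟨(z : Ω), hXQT z.2⟩ ∈ Q
        rw [hΨQ _ hzQ]
        exact hψ'Q _
      · intro hy
        obtain ⟨q, hq⟩ := hψ'Qsurj y hy
        refine ⟨Subgroup.inclusion le_sup_right q, Subgroup.mem_subgroupOf.2 q.2, ?_⟩
        exact (hΨQ q q.2 _).trans hq
    · intro hpt q
      exact (hΨQ q q.2 _).trans (hψ'pt hpt q)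
  · intro x hP hN
    exact (hΨx (Subgroup.inclusion le_sup_left (⟨x, hP⟩ : P₀))).trans (hψ'P ⟨x, hP⟩)

end Cfsg.Agent.Lib.Helper8
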