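import Mathlib
import Cfsg.Prelude.Def_FusionSystem
import Cfsg.Agent.Lib.Helper8.KNorm3

set_option autoImplicit false

namespace Cfsg.Agent.Lib.Helper8

open Cfsg Cfsg.FusionSystem

variable {Ω : Type*} [Group Ω] {S : Subgroup Ω}

/-- every subgroup of `N` is conjugate in the `K`-normalizer system to a good one -/
theorem kgood_exists8 (F : FusionSystem S) [Finite S] (p : ℕ) [Fact p.Prime]
    (hS : IsPGroup p S) (hF : F.IsSaturated p) (Q : Subgroup Ω) (hQS : Q ≤ S) (pt : Prop)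
    (E : FusionSystem (nOrC8 S Q pt)) (hE : IsKSystem8 F Q pt E)
    (hθ : ∀ (Q₂ : Subgroup Ω) (κ : Q₂ →* Ω), κ ∈ F.Hom Q₂ → κ.range = Q →
      ∃ θ ∈ F.Hom (Q₂ ⊔ nOrC8 S Q₂ pt), (Q₂.subgroupOf (Q₂ ⊔ nOrC8 S Q₂ pt)).map θ = Q ∧
        (pt → ∀ y : Q₂, θ (Subgroup.inclusion le_sup_left y) = κ y))
    {P : Subgroup Ω} (hPN : P ≤ nOrC8 S Q pt) :
    ∃ P' : Subgroup Ω, E.IsConj P P' ∧ P' ≤ nOrC8 S Q pt ∧ F.IsFullyCentralized (P' ⊔ Q) ∧
      MaxCond8 F p (P' ⊔ Q) P' Q pt := by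
  have hPS : P ≤ S := hPN.trans (nOrC8_le S Q pt)
  have hWS : P ⊔ Q ≤ S := sup_le hPS hQS
  have hPnorm : P ≤ Subgroup.normalizer (Q : Set Ω) := fun x hx => (hPN hx).2.1
  have hfinQ : Finite Q := finite_of_le_fs hQS
  obtain ⟨hn, hcr⟩ := (fs_saturated_iff F p hS).1 hF
  obtain ⟨R, χ, hχ, hRn, hmax⟩ := exists_good_conj8 F p hS hF hWS P Q pt
  have hRS : R ≤ S := hRn.1
  obtain ⟨hRc, -⟩ := hn R hRn
  have hχmem : R.subtype.comp χ.toMonoidHom ∈ F.Hom (P ⊔ Q) := hχ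
  obtain ⟨χQ, hχQdef⟩ : ∃ χQ : Q →* Ω, χQ = (R.subtype.comp χ.toMonoidHom).comp
    (Subgroup.inclusion (le_sup_right : Q ≤ P ⊔ Q)) := ⟨_, rfl⟩
  have hχQx : ∀ q : Q, χQ q = ((χ (Subgroup.inclusion le_sup_right q) : R) : Ω) := by
    intro q
    rw [hχQdef]
    rfl
  have hχQF : χQ ∈ F.Hom Q := by
    rw [hχQdef]
    exact fs_restrict_mem F hχmem (le_sup_right : Q ≤ P ⊔ Q)
  have hQ₂eq : imgEq8 χ Q = χQ.range := by
    rw [hχQdef]
    exact imgEq8_eq_range χ (le_sup_right : Q ≤ P ⊔ Q)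
  rw [hQ₂eq] at hmax
  obtain ⟨κ, hκ, hκinv, hκr⟩ := fs_exists_inv F hχQF
  obtain ⟨θ, hθF, hθQ, hθpt⟩ := hθ _ κ hκ hκr
  have hQ₂R : χQ.range ≤ R := by
    rintro _ ⟨q, rfl⟩
    rw [hχQx]
    exact (χ _).2
  have hQ₂S : χQ.range ≤ S := hQ₂R.trans hRS
  have hfinQ₂ : Finite χQ.range := finite_of_le_fs hQ₂S
  have hχP : ∀ x : P, ((χ (Subgroup.inclusion le_sup_left x) : R) : Ω) ∈
      nOrC8 S χQ.range pt := by
    intro x
    have hxN := hPN x.2
    refine ⟨hRS (χ _).2, ?_, ?_⟩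
    · apply mem_normalizer_of_conj_mem_finite
      rintro _ ⟨q, rfl⟩
      have hxq : (x : Ω) * (q : Ω) * (x : Ω)⁻¹ ∈ Q :=
        (Subgroup.mem_normalizer_iff.1 hxN.2.1 _).1 q.2
      refine ⟨⟨_, hxq⟩, ?_⟩
      rw [hχQx, hχQx]
      have e : Subgroup.inclusion (le_sup_right : Q ≤ P ⊔ Q)
          ⟨(x : Ω) * (q : Ω) * (x : Ω)⁻¹, hxq⟩ = Subgroup.inclusion le_sup_left x *
          Subgroup.inclusion le_sup_right q * (Subgroup.inclusion le_sup_left x)⁻¹ :=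
        Subtype.ext rfl
      rw [e, map_mul, map_mul, map_inv]
      rfl
    · intro hpt
      rw [Subgroup.mem_centralizer_iff]
      rintro _ ⟨q, rfl⟩
      have h1 : (q : Ω) * (x : Ω) = (x : Ω) * (q : Ω) :=
        (Subgroup.mem_centralizer_iff.1 (hxN.2.2 hpt)) _ q.2
      have h2 : Subgroup.inclusion (le_sup_right : Q ≤ P ⊔ Q) q *
          Subgroup.inclusion le_sup_left x =
          Subgroup.inclusion le_sup_left x * Subgroup.inclusion le_sup_right q :=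
        Subtype.ext h1
      have h3 := congrArg (fun w : ↥(P ⊔ Q) => ((χ w : R) : Ω)) h2
      simp only [map_mul, Subgroup.coe_mul] at h3
      rw [hχQx]
      exact h3
  have hRM : R ≤ χQ.range ⊔ nOrC8 S χQ.range pt := by
    intro r hr
    obtain ⟨x, hx, q, hq, hw⟩ := exists_mul_of_mem_sup8 P Q hPnorm (χ.symm ⟨r, hr⟩).2
    have ew : χ.symm ⟨r, hr⟩ = Subgroup.inclusion le_sup_left ⟨x, hx⟩ *
        Subgroup.inclusion le_sup_right ⟨q, hq⟩ := Subtype.ext hw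
    have h1 := congrArg (fun w : ↥(P ⊔ Q) => ((χ w : R) : Ω)) ew
    simp only [MulEquiv.apply_symm_apply, map_mul, Subgroup.coe_mul] at h1
    have h1' : r = ((χ (Subgroup.inclusion le_sup_left (⟨x, hx⟩ : P)) : R) : Ω) *
        ((χ (Subgroup.inclusion le_sup_right (⟨q, hq⟩ : Q)) : R) : Ω) := h1
    rw [h1']
    exact Subgroup.mul_mem _ ((le_sup_right : nOrC8 S χQ.range pt ≤ _) (hχP ⟨x, hx⟩))
      ((le_sup_left : χQ.range ≤ _) ⟨⟨q, hq⟩, hχQx _⟩)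
  have hθR := fs_restrict_mem F hθF hRM
  obtain ⟨Θ, hΘF, hΘx⟩ : ∃ Θ : ↥(P ⊔ Q) →* Ω, Θ ∈ F.Hom (P ⊔ Q) ∧
      ∀ w : ↥(P ⊔ Q), Θ w = θ (Subgroup.inclusion hRM (χ w)) :=
    ⟨_, F.comp_mem hχmem hθR (fun w => (χ w).2), fun w => rfl⟩
  have hΘQ : ∀ q : Q, Θ (Subgroup.inclusion le_sup_right q) ∈ Q := by
    intro q
    rw [hΘx]
    have h : θ (Subgroup.inclusion hRM (χ (Subgroup.inclusion le_sup_right q))) ∈
        (χQ.range.subgroupOf (χQ.range ⊔ nOrC8 S χQ.range pt)).map θ :=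
      ⟨_, Subgroup.mem_subgroupOf.2 ⟨q, hχQx q⟩, rfl⟩
    rw [hθQ] at h
    exact h
  have hΘQsurj : ∀ y ∈ Q, ∃ q : Q, Θ (Subgroup.inclusion le_sup_right q) = y := by
    intro y hy
    have hy' : y ∈ (χQ.range.subgroupOf (χQ.range ⊔ nOrC8 S χQ.range pt)).map θ := by
      rw [hθQ]
      exact hy
    obtain ⟨z, hz, hzy⟩ := hy'
    obtain ⟨q, hq⟩ := Subgroup.mem_subgroupOf.1 hz
    refine ⟨q, ?_⟩
    rw [hΘx]
    have e : Subgroup.inclusion hRM (χ (Subgroup.inclusion le_sup_right q)) = z :=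
      Subtype.ext ((hχQx q).symm.trans hq)
    rw [e]
    exact hzy
  have hΘpt : pt → ∀ q : Q, Θ (Subgroup.inclusion le_sup_right q) = q := by
    intro hpt q
    rw [hΘx]
    have e : Subgroup.inclusion hRM (χ (Subgroup.inclusion le_sup_right q)) =
        Subgroup.inclusion le_sup_left (⟨χQ q, ⟨q, rfl⟩⟩ : χQ.range) :=
      Subtype.ext (hχQx q).symm
    rw [e, hθpt hpt]
    exact hκinv q
  obtain ⟨ΘP, hΘPdef⟩ : ∃ ΘP : P →* Ω, ΘP = Θ.comp
    (Subgroup.inclusion (le_sup_left : P ≤ P ⊔ Q)) := ⟨_, rfl⟩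
  have hΘPx : ∀ x : P, ΘP x = Θ (Subgroup.inclusion le_sup_left x) := by
    intro x
    rw [hΘPdef]
    rfl
  have hΘPF : ΘP ∈ F.Hom P := by
    rw [hΘPdef]
    exact fs_restrict_mem F hΘF (le_sup_left : P ≤ P ⊔ Q)
  have hP'N : ΘP.range ≤ nOrC8 S Q pt := by
    rintro _ ⟨x, rfl⟩
    have hxN := hPN x.2
    rw [hΘPx]
    refine ⟨fs_map_mem F hΘF _, ?_, ?_⟩
    · apply mem_normalizer_of_conj_mem_finite
      intro y hy
      obtain ⟨q, rfl⟩ := hΘQsurj y hy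
      have hxq : (x : Ω) * (q : Ω) * (x : Ω)⁻¹ ∈ Q :=
        (Subgroup.mem_normalizer_iff.1 hxN.2.1 _).1 q.2
      have e : Θ (Subgroup.inclusion le_sup_left x) * Θ (Subgroup.inclusion le_sup_right q) *
          (Θ (Subgroup.inclusion le_sup_left x))⁻¹ =
          Θ (Subgroup.inclusion le_sup_right ⟨(x : Ω) * (q : Ω) * (x : Ω)⁻¹, hxq⟩) := by
        rw [← map_inv, ← map_mul, ← map_mul]
        rfl
      rw [e]
      exact hΘQ _
    · intro hpt
      rw [Subgroup.mem_centralizer_iff]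
      intro y hy
      have h1 := hΘpt hpt ⟨y, hy⟩
      have h2 : Subgroup.inclusion (le_sup_right : Q ≤ P ⊔ Q) ⟨y, hy⟩ *
          Subgroup.inclusion le_sup_left x =
          Subgroup.inclusion le_sup_left x * Subgroup.inclusion le_sup_right ⟨y, hy⟩ :=
        Subtype.ext ((Subgroup.mem_centralizer_iff.1 (hxN.2.2 hpt)) y hy)
      have h3 := congrArg (fun w : ↥(P ⊔ Q) => Θ w) h2
      simp only [map_mul] at h3
      rw [h1] at h3
      exact h3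
  have hmapQ : (Q.subgroupOf (P ⊔ Q)).map Θ = Q := by
    ext y
    constructor
    · rintro ⟨z, hz, rfl⟩
      have e : z = Subgroup.inclusion le_sup_right
          (⟨(z : Ω), Subgroup.mem_subgroupOf.1 hz⟩ : Q) := Subtype.ext rfl
      rw [e]
      exact hΘQ _
    · intro hy
      obtain ⟨q, hq⟩ := hΘQsurj y hy
      exact ⟨Subgroup.inclusion le_sup_right q, Subgroup.mem_subgroupOf.2 q.2, hq⟩
  have hconj : E.IsConj P ΘP.range :=
    ⟨ΘP, (hE P ΘP).2 ⟨hΘPF, hPN, fun x => hP'N ⟨x, rfl⟩, Θ, hΘF,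
      fun x => (hΘPx x).symm, hmapQ, hΘpt⟩, rfl⟩
  have hΘrange : Θ.range = ΘP.range ⊔ Q := by
    apply le_antisymm
    · rintro _ ⟨w, rfl⟩
      obtain ⟨x, hx, q, hq, hw⟩ := exists_mul_of_mem_sup8 P Q hPnorm w.2
      have ew : w = Subgroup.inclusion le_sup_left ⟨x, hx⟩ *
          Subgroup.inclusion le_sup_right ⟨q, hq⟩ := Subtype.ext hw
      rw [ew, map_mul]
      exact Subgroup.mul_mem _ ((le_sup_left : ΘP.range ≤ ΘP.range ⊔ Q) ⟨⟨x, hx⟩, hΘPx _⟩)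
        ((le_sup_right : Q ≤ ΘP.range ⊔ Q) (hΘQ ⟨q, hq⟩))
    · apply sup_le
      · rintro _ ⟨x, rfl⟩
        exact ⟨Subgroup.inclusion le_sup_left x, (hΘPx x).symm⟩
      · intro y hy
        obtain ⟨q, hq⟩ := hΘQsurj y hy
        exact ⟨_, hq⟩
  have hθRrange : (θ.comp (Subgroup.inclusion hRM)).range = Θ.range := by
    ext y
    constructor
    · rintro ⟨r, rfl⟩
      refine ⟨χ.symm r, ?_⟩
      rw [hΘx, χ.apply_symm_apply]
      rfl
    · rintro ⟨w, rfl⟩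
      exact ⟨χ w, (hΘx w).symm⟩
  have hΘc : F.IsFullyCentralized Θ.range := by
    refine ⟨fs_range_le F hΘF, ?_⟩
    intro Q'' hconj''
    have hconjR : F.IsConj R Θ.range := ⟨_, hθR, hθRrange⟩
    have h1 := hRc.2 Q'' (fs_isConj_trans F hconjR hconj'')
    refine h1.trans ?_
    have hcM : ∀ c : centralizerIn S R, (c : Ω) ∈ χQ.range ⊔ nOrC8 S χQ.range pt := by
      intro c
      obtain ⟨hcS, hcc⟩ := mem_centralizerIn.1 c.2
      apply (le_sup_right : nOrC8 S χQ.range pt ≤ _)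
      have hcen : (c : Ω) ∈ Subgroup.centralizer (χQ.range : Set Ω) := by
        rw [Subgroup.mem_centralizer_iff]
        intro z hz
        exact hcc z (hQ₂R hz)
      exact ⟨hcS, Subgroup.centralizer_le_normalizer _ hcen, fun _ => hcen⟩
    have hmap : ∀ c : centralizerIn S R, θ ⟨(c : Ω), hcM c⟩ ∈ centralizerIn S Θ.range := by
      intro c
      rw [mem_centralizerIn]
      refine ⟨fs_map_mem F hθF _, ?_⟩
      rintro _ ⟨w, rfl⟩
      rw [hΘx]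
      have h2 : ((χ w : R) : Ω) * (c : Ω) = (c : Ω) * ((χ w : R) : Ω) :=
        (mem_centralizerIn.1 c.2).2 _ (χ w).2
      have h3 : Subgroup.inclusion hRM (χ w) *
          (⟨(c : Ω), hcM c⟩ : ↥(χQ.range ⊔ nOrC8 S χQ.range pt)) =
          ⟨(c : Ω), hcM c⟩ * Subgroup.inclusion hRM (χ w) := Subtype.ext h2
      rw [← map_mul, ← map_mul, h3]
    have hfin : Finite (centralizerIn S Θ.range) := finite_of_le_fs (centralizerIn_le S _)
    exact Nat.card_le_card_of_injective (fun c : centralizerIn S R =>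
      (⟨θ ⟨(c : Ω), hcM c⟩, hmap c⟩ : centralizerIn S Θ.range)) (by
      intro a b hab
      have h4 : θ ⟨(a : Ω), hcM a⟩ = θ ⟨(b : Ω), hcM b⟩ :=
        congrArg (fun z : centralizerIn S Θ.range => (z : Ω)) hab
      have h5 := F.injective_of_mem hθF h4
      exact Subtype.ext
        (congrArg (fun z : ↥(χQ.range ⊔ nOrC8 S χQ.range pt) => (z : Ω)) h5))
  obtain ⟨e, he, hex⟩ : ∃ e : R ≃* ↥(θ.comp (Subgroup.inclusion hRM)).range, FsIso F e ∧
      ∀ r : R, ((e r : ↥(θ.comp (Subgroup.inclusion hRM)).range) : Ω) =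
        θ (Subgroup.inclusion hRM r) :=
    ⟨_, fsIso_fsEquiv F hθR rfl, fun r => rfl⟩
  have htr : ∀ s : MulAut R, s ∈ kStab8 R (imgEq8 χ P) χQ.range pt → ∀ g ∈ S,
      (∀ r : R, ((s r : R) : Ω) = g * (r : Ω) * g⁻¹) →
      ∃ g' ∈ S, ∀ r : R, ((e (s r) : ↥(θ.comp (Subgroup.inclusion hRM)).range) : Ω) =
        g' * ((e r : ↥(θ.comp (Subgroup.inclusion hRM)).range) : Ω) * g'⁻¹ := by
    intro s hs g hgS hg
    obtain ⟨hs1, hs2, hs3⟩ := hs
    have hgN₂ : g ∈ nOrC8 S χQ.range pt := by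
      refine ⟨hgS, ?_, ?_⟩
      · apply mem_normalizer_of_conj_mem_finite
        intro z hz
        have h1 := (hs2 ⟨z, hQ₂R hz⟩).1 hz
        rw [hg] at h1
        exact h1
      · intro hpt
        rw [Subgroup.mem_centralizer_iff]
        intro z hz
        have h1 := hs3 hpt ⟨z, hQ₂R hz⟩ hz
        have h2 : ((s ⟨z, hQ₂R hz⟩ : R) : Ω) = z := congrArg (fun t : R => (t : Ω)) h1
        rw [hg] at h2
        have h3 : g * z * g⁻¹ = z := h2
        calc z * g = (g * z * g⁻¹) * g := by rw [h3]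
          _ = g * z := by group
    have hgM : g ∈ χQ.range ⊔ nOrC8 S χQ.range pt :=
      (le_sup_right : nOrC8 S χQ.range pt ≤ _) hgN₂
    refine ⟨θ ⟨g, hgM⟩, fs_map_mem F hθF _, ?_⟩
    intro r
    rw [hex, hex]
    have e1 : Subgroup.inclusion hRM (s r) = ⟨g, hgM⟩ * Subgroup.inclusion hRM r *
        (⟨g, hgM⟩ : ↥(χQ.range ⊔ nOrC8 S χQ.range pt))⁻¹ := Subtype.ext (hg r)
    rw [e1, map_mul, map_mul, map_inv]
  have hR'S : (θ.comp (Subgroup.inclusion hRM)).range ≤ S := fs_range_le F hθR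
  have hmax' := maxCond_transport8 F p hRS hR'S e he (imgEq8 χ P) χQ.range pt htr hmax
  have hP'eq : imgEq8 e (imgEq8 χ P) = ΘP.range := by
    ext y
    constructor
    · rintro ⟨r, hr, rfl⟩
      have hr' : (r : Ω) ∈ imgEq8 χ P := Subgroup.mem_subgroupOf.1 hr
      rw [mem_imgEq8] at hr'
      show ((e r : ↥(θ.comp (Subgroup.inclusion hRM)).range) : Ω) ∈ ΘP.range
      rw [hex]
      refine ⟨⟨_, hr'⟩, ?_⟩
      rw [hΘPx, hΘx]
      have e2 : Subgroup.inclusion le_sup_left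
          (⟨((χ.symm r : ↥(P ⊔ Q)) : Ω), hr'⟩ : P) = χ.symm r := Subtype.ext rfl
      rw [e2, χ.apply_symm_apply]
    · rintro ⟨x, rfl⟩
      rw [hΘPx, hΘx]
      exact ⟨χ (Subgroup.inclusion le_sup_left x),
        Subgroup.mem_subgroupOf.2 ((apply_mem_imgEq8 χ P _).2 x.2), hex _⟩
  have hQ'eq : imgEq8 e χQ.range = Q := by
    ext y
    constructor
    · rintro ⟨r, hr, rfl⟩
      show ((e r : ↥(θ.comp (Subgroup.inclusion hRM)).range) : Ω) ∈ Q
      rw [hex]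
      have h : θ (Subgroup.inclusion hRM r) ∈
          (χQ.range.subgroupOf (χQ.range ⊔ nOrC8 S χQ.range pt)).map θ :=
        ⟨_, Subgroup.mem_subgroupOf.2 (Subgroup.mem_subgroupOf.1 hr), rfl⟩
      rw [hθQ] at h
      exact h
    · intro hy
      have hy' : y ∈ (χQ.range.subgroupOf (χQ.range ⊔ nOrC8 S χQ.range pt)).map θ := by
        rw [hθQ]
        exact hy
      obtain ⟨z, hz, hzy⟩ := hy'
      have hzQ₂ : (z : Ω) ∈ χQ.range := Subgroup.mem_subgroupOf.1 hz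
      refine ⟨⟨(z : Ω), hQ₂R hzQ₂⟩, Subgroup.mem_subgroupOf.2 hzQ₂, ?_⟩
      refine (hex _).trans ?_
      have e3 : Subgroup.inclusion hRM ⟨(z : Ω), hQ₂R hzQ₂⟩ = z := Subtype.ext rfl
      rw [e3]
      exact hzy
  refine ⟨ΘP.range, hconj, hP'N, ?_, ?_⟩
  · rw [← hΘrange]
    exact hΘc
  · exact maxCond_congr8 F p pt (hθRrange.trans hΘrange) hP'eq hQ'eq hmax'

/-- the `K`-normalizer system is saturated -/
theorem knorm_saturated8 (F : FusionSystem S) [Finite S] (p : ℕ) [Fact p.Prime]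
    (hS : IsPGroup p S) (hF : F.IsSaturated p) (Q : Subgroup Ω) (hQS : Q ≤ S) (pt : Prop)
    (E : FusionSystem (nOrC8 S Q pt)) (hE : IsKSystem8 F Q pt E)
    (hθ : ∀ (Q₂ : Subgroup Ω) (κ : Q₂ →* Ω), κ ∈ F.Hom Q₂ → κ.range = Q →
      ∃ θ ∈ F.Hom (Q₂ ⊔ nOrC8 S Q₂ pt), (Q₂.subgroupOf (Q₂ ⊔ nOrC8 S Q₂ pt)).map θ = Q ∧
        (pt → ∀ y : Q₂, θ (Subgroup.inclusion le_sup_left y) = κ y)) :
    E.IsSaturated p := by
  intro P hPN
  obtain ⟨P', hconj, hP'N, hP'c, hmax⟩ := kgood_exists8 F p hS hF Q hQS pt E hE hθ hPN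
  exact ⟨P', hconj, kgood_fullyAutomized8 F p hS Q hQS pt E hE hP'N hmax,
    kgood_receptive8 F p hS hF Q hQS pt E hE hP'N hP'c hmax⟩

theorem knorm_saturated_of_eq8 (F : FusionSystem S) [Finite S] (p : ℕ) [Fact p.Prime]
    (hS : IsPGroup p S) (hF : F.IsSaturated p) (Q : Subgroup Ω) (hQS : Q ≤ S) (pt : Prop)
    (N : Subgroup Ω) (hN : N = nOrC8 S Q pt) (E : FusionSystem N)
    (hE : ∀ (P : Subgroup Ω) (φ : P →* Ω), φ ∈ E.Hom P ↔ (φ ∈ F.Hom P ∧ P ≤ N ∧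
      (∀ x : P, φ x ∈ N) ∧
      ∃ ψ ∈ F.Hom (P ⊔ Q), (∀ x : P, ψ (Subgroup.inclusion le_sup_left x) = φ x) ∧
        (Q.subgroupOf (P ⊔ Q)).map ψ = Q ∧
        (pt → ∀ x : Q, ψ (Subgroup.inclusion le_sup_right x) = x)))
    (hθ : ∀ (Q₂ : Subgroup Ω) (κ : Q₂ →* Ω), κ ∈ F.Hom Q₂ → κ.range = Q →
      ∃ θ ∈ F.Hom (Q₂ ⊔ nOrC8 S Q₂ pt), (Q₂.subgroupOf (Q₂ ⊔ nOrC8 S Q₂ pt)).map θ = Q ∧
        (pt → ∀ y : Q₂, θ (Subgroup.inclusion le_sup_left y) = κ y)) :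
    E.IsSaturated p := by
  subst hN
  exact knorm_saturated8 F p hS hF Q hQS pt E hE hθ

/-- the centralizer system of a fully centralized subgroup is saturated -/
theorem centralizer_saturated8 (F : FusionSystem S) [Finite S] (p : ℕ) [Fact p.Prime]
    (hS : IsPGroup p S) (hF : F.IsSaturated p) (Q : Subgroup Ω)
    (hQ : F.IsFullyCentralized Q) (E : FusionSystem (centralizerIn S Q))
    (hE : F.IsCentralizerSystem Q E) : E.IsSaturated p := by
  obtain ⟨hn, hcr⟩ := (fs_saturated_iff F p hS).1 hF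
  have hrec := hcr Q hQ
  have hN : centralizerIn S Q = nOrC8 S Q True := by
    ext g
    constructor
    · rintro ⟨h1, h2⟩
      exact ⟨h1, Subgroup.centralizer_le_normalizer _ h2, fun _ => h2⟩
    · rintro ⟨h1, -, h3⟩
      exact ⟨h1, h3 trivial⟩
  apply knorm_saturated_of_eq8 F p hS hF Q hQ.1 True _ hN E
  · intro P φ
    rw [hE P]
    constructor
    · rintro ⟨h1, h2, h3, ψ, hψ, h4, h5⟩
      refine ⟨h1, h2, h3, ψ, hψ, h4, ?_, fun _ => h5⟩
      ext y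
      constructor
      · rintro ⟨z, hz, rfl⟩
        have e : z = Subgroup.inclusion le_sup_right
            (⟨(z : Ω), Subgroup.mem_subgroupOf.1 hz⟩ : Q) := Subtype.ext rfl
        rw [e, h5]
        exact Subgroup.mem_subgroupOf.1 hz
      · intro hy
        exact ⟨Subgroup.inclusion le_sup_right ⟨y, hy⟩, Subgroup.mem_subgroupOf.2 hy,
          h5 ⟨y, hy⟩⟩
    · rintro ⟨h1, h2, h3, ψ, hψ, h4, -, h5⟩
      exact ⟨h1, h2, h3, ψ, hψ, h4, h5 trivial⟩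
  · intro Q₂ κ hκ hκr
    have hle : Q₂ ⊔ nOrC8 S Q₂ True ≤ extender S Q₂ κ := by
      apply sup_le (le_extender F hκ)
      intro g hg
      exact centralizerIn_le_extender S Q₂ κ ⟨hg.1, hg.2.2 trivial⟩
    obtain ⟨θ, hθ, hθx⟩ := fs_receptive_extend F hrec hκ hκr le_sup_left hle
    refine ⟨θ, hθ, ?_, fun _ => hθx⟩
    ext y
    constructor
    · rintro ⟨z, hz, rfl⟩
      have e : z = Subgroup.inclusion le_sup_left
          (⟨(z : Ω), Subgroup.mem_subgroupOf.1 hz⟩ : Q₂) := Subtype.ext rfl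
      rw [e, hθx, ← hκr]
      exact ⟨_, rfl⟩
    · intro hy
      have hy' : y ∈ κ.range := by
        rw [hκr]
        exact hy
      obtain ⟨x, rfl⟩ := hy'
      exact ⟨Subgroup.inclusion le_sup_left x, Subgroup.mem_subgroupOf.2 x.2, hθx x⟩

/-- the normalizer system of a fully normalized subgroup is saturated -/
theorem normalizer_saturated8 (F : FusionSystem S) [Finite S] (p : ℕ) [Fact p.Prime]
    (hS : IsPGroup p S) (hF : F.IsSaturated p) (Q : Subgroup Ω)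
    (hQ : F.IsFullyNormalized Q) (E : FusionSystem (normalizerIn S Q))
    (hE : F.IsNormalizerSystem Q E) : E.IsSaturated p := by
  obtain ⟨hn, hcr⟩ := (fs_saturated_iff F p hS).1 hF
  obtain ⟨hQc, hQa⟩ := hn Q hQ
  have hrec := hcr Q hQc
  have hN : normalizerIn S Q = nOrC8 S Q False := by
    ext g
    constructor
    · rintro ⟨h1, h2⟩
      exact ⟨h1, h2, fun h => h.elim⟩
    · rintro ⟨h1, h2, -⟩
      exact ⟨h1, h2⟩
  apply knorm_saturated_of_eq8 F p hS hF Q hQ.1 False _ hN E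
  · intro P φ
    rw [hE P]
    constructor
    · rintro ⟨h1, h2, h3, ψ, hψ, h4, h5⟩
      exact ⟨h1, h2, h3, ψ, hψ, h4, h5, fun h => h.elim⟩
    · rintro ⟨h1, h2, h3, ψ, hψ, h4, h5, -⟩
      exact ⟨h1, h2, h3, ψ, hψ, h4, h5⟩
  · intro Q₂ κ hκ hκr
    have hQ₂S : Q₂ ≤ S := fs_le F hκ
    obtain ⟨φ, hφ, -, hφQ⟩ := fs_exists_normalizer_map F p hS Q Q₂ hQa hrec ⟨κ, hκ, hκr⟩
    have hle : Q₂ ⊔ nOrC8 S Q₂ False ≤ normalizerIn S Q₂ :=
      sup_le (le_normalizerIn hQ₂S) (fun g hg => ⟨hg.1, hg.2.1⟩)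
    refine ⟨φ.comp (Subgroup.inclusion hle), fs_restrict_mem F hφ hle, ?_, fun h => h.elim⟩
    ext y
    constructor
    · rintro ⟨z, hz, rfl⟩
      have h : φ (Subgroup.inclusion hle z) ∈ (Q₂.subgroupOf (normalizerIn S Q₂)).map φ :=
        ⟨_, Subgroup.mem_subgroupOf.2 (Subgroup.mem_subgroupOf.1 hz), rfl⟩
      rw [hφQ] at h
      exact h
    · intro hy
      have hy' : y ∈ (Q₂.subgroupOf (normalizerIn S Q₂)).map φ := by
        rw [hφQ]
        exact hy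
      obtain ⟨z, hz, hzy⟩ := hy'
      have hzQ₂ : (z : Ω) ∈ Q₂ := Subgroup.mem_subgroupOf.1 hz
      refine ⟨⟨(z : Ω), (le_sup_left : Q₂ ≤ Q₂ ⊔ nOrC8 S Q₂ False) hzQ₂⟩,
        Subgroup.mem_subgroupOf.2 hzQ₂, ?_⟩
      exact hzy

end Cfsg.Agent.Lib.Helper8
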