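import Mathlib
import Cfsg.Prelude.Def_FusionSystem
import Cfsg.Agent.Lib.Helper8.KNorm4

set_option autoImplicit false

namespace Cfsg.Agent.Lib.Helper8

open Cfsg Cfsg.FusionSystem

variable {Ω : Type*} [Group Ω] {S : Subgroup Ω}

/-- `R` is normal in its normalizer system -/
theorem nsys_normal8 (F : FusionSystem S) (R : Subgroup Ω) (hR : R ≤ S)
    (E : FusionSystem (normalizerIn S R)) (hE : F.IsNormalizerSystem R E) : E.IsNormal R := by
  refine ⟨le_normalizerIn hR, ?_⟩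
  intro P φ hφ
  rw [hE P] at hφ
  obtain ⟨h1, h2, h3, ψ, hψ, h4, h5⟩ := hφ
  refine ⟨ψ, ?_, h4, h5⟩
  rw [hE (P ⊔ R)]
  have hle : P ⊔ R ≤ normalizerIn S R := sup_le h2 (le_normalizerIn hR)
  have hval : ∀ x : ↥(P ⊔ R), ψ x ∈ normalizerIn S R := by
    intro x
    have hx : x ∈ (P.subgroupOf (P ⊔ R) ⊔ R.subgroupOf (P ⊔ R)) := by
      rw [codisjoint_iff.1 (Subgroup.codisjoint_subgroupOf_sup P R)]
      exact Subgroup.mem_top x
    have hle2 : P.subgroupOf (P ⊔ R) ⊔ R.subgroupOf (P ⊔ R) ≤ (normalizerIn S R).comap ψ := by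
      apply sup_le
      · intro y hy
        have hy' : (y : Ω) ∈ P := Subgroup.mem_subgroupOf.1 hy
        have e : y = Subgroup.inclusion le_sup_left ⟨(y : Ω), hy'⟩ := Subtype.ext rfl
        show ψ y ∈ normalizerIn S R
        rw [e, h4]
        exact h3 _
      · intro y hy
        show ψ y ∈ normalizerIn S R
        have h : ψ y ∈ (R.subgroupOf (P ⊔ R)).map ψ := ⟨y, hy, rfl⟩
        rw [h5] at h
        exact le_normalizerIn hR h
    exact hle2 hx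
  have hle3 : (P ⊔ R) ⊔ R ≤ P ⊔ R := sup_le le_rfl le_sup_right
  refine ⟨hψ, hle, hval, ψ.comp (Subgroup.inclusion hle3), fs_restrict_mem F hψ hle3, ?_, ?_⟩
  · intro x
    rfl
  · ext y
    constructor
    · rintro ⟨z, hz, rfl⟩
      have h : ψ (Subgroup.inclusion hle3 z) ∈ (R.subgroupOf (P ⊔ R)).map ψ :=
        ⟨_, Subgroup.mem_subgroupOf.2 (Subgroup.mem_subgroupOf.1 hz), rfl⟩
      rw [h5] at h
      exact h
    · intro hy
      have hy' : y ∈ (R.subgroupOf (P ⊔ R)).map ψ := by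
        rw [h5]
        exact hy
      obtain ⟨z, hz, rfl⟩ := hy'
      exact ⟨Subgroup.inclusion le_sup_left z,
        Subgroup.mem_subgroupOf.2 (Subgroup.mem_subgroupOf.1 hz), rfl⟩

/-- a centric subgroup is centric in its normalizer system -/
theorem nsys_centric8 (F : FusionSystem S) (R : Subgroup Ω) (hRc : F.IsCentric R)
    (E : FusionSystem (normalizerIn S R)) (hE : F.IsNormalizerSystem R E) : E.IsCentric R := by
  have hR := hRc.1
  refine ⟨le_normalizerIn hR, ?_⟩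
  rintro Q ⟨φ, hφ, rfl⟩
  rw [hE R] at hφ
  obtain ⟨h1, h2, h3, ψ, hψ, h4, h5⟩ := hφ
  have hrange : φ.range = R := by
    ext y
    constructor
    · rintro ⟨x, rfl⟩
      have h : ψ (Subgroup.inclusion le_sup_left x) ∈ (R.subgroupOf (R ⊔ R)).map ψ :=
        ⟨_, Subgroup.mem_subgroupOf.2 x.2, rfl⟩
      rw [h5, h4] at h
      exact h
    · intro hy
      have hy' : y ∈ (R.subgroupOf (R ⊔ R)).map ψ := by
        rw [h5]
        exact hy
      obtain ⟨z, hz, rfl⟩ := hy'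
      have hz' : (z : Ω) ∈ R := Subgroup.mem_subgroupOf.1 hz
      refine ⟨⟨(z : Ω), hz'⟩, ?_⟩
      rw [← h4]
      rfl
  rw [hrange]
  intro c hc
  have hc1 : c ∈ normalizerIn S R := (Subgroup.mem_inf.1 hc).1
  have hc2 : c ∈ Subgroup.centralizer (R : Set Ω) := (Subgroup.mem_inf.1 hc).2
  exact hRc.2 R (fs_isConj_refl F hR) (Subgroup.mem_inf.2 ⟨normalizerIn_le S R hc1, hc2⟩)

/-- automorphisms of `R` in `F` are maps of the normalizer system -/
theorem nsys_aut8 (F : FusionSystem S) (R : Subgroup Ω) (hR : R ≤ S)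
    (E : FusionSystem (normalizerIn S R)) (hE : F.IsNormalizerSystem R E) (β : MulAut R)
    (hβ : β ∈ F.autGroup R) : R.subtype.comp β.toMonoidHom ∈ E.Hom R := by
  have h1 : R.subtype.comp β.toMonoidHom ∈ F.Hom R := (mem_autGroup_iff F hR β).1 hβ
  rw [hE R]
  have hle : R ⊔ R ≤ R := sup_le le_rfl le_rfl
  refine ⟨h1, le_normalizerIn hR, fun x => le_normalizerIn hR (β x).2,
    (R.subtype.comp β.toMonoidHom).comp (Subgroup.inclusion hle), fs_restrict_mem F h1 hle, ?_, ?_⟩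
  · intro x
    rfl
  · ext y
    constructor
    · rintro ⟨z, hz, rfl⟩
      exact (β (Subgroup.inclusion hle z)).2
    · intro hy
      refine ⟨Subgroup.inclusion le_sup_left (β.symm ⟨y, hy⟩),
        Subgroup.mem_subgroupOf.2 (β.symm ⟨y, hy⟩).2, ?_⟩
      have e : Subgroup.inclusion hle (Subgroup.inclusion le_sup_left (β.symm ⟨y, hy⟩)) =
          β.symm ⟨y, hy⟩ := Subtype.ext rfl
      show ((β (Subgroup.inclusion hle (Subgroup.inclusion le_sup_left (β.symm ⟨y, hy⟩))) : R) : Ω)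
        = y
      rw [e, MulEquiv.apply_symm_apply]

/-- the normalizer system of a fully normalized centric subgroup is constrained -/
theorem nsys_constrained8 (F : FusionSystem S) [Finite S] (p : ℕ) [Fact p.Prime]
    (hS : IsPGroup p S) (hF : F.IsSaturated p) (R : Subgroup Ω)
    (hRn : F.IsFullyNormalized R) (hRc : F.IsCentric R)
    (E : FusionSystem (normalizerIn S R)) (hE : F.IsNormalizerSystem R E) : E.IsConstrained p :=
  ⟨normalizer_saturated8 F p hS hF R hRn E hE, R, nsys_normal8 F R hRc.1 E hE,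
    nsys_centric8 F R hRc E hE⟩

/-- in a group realizing `E` whose `p`-core is self-centralizing and lies in the image,
a subgroup normal in `E` has normal image -/
theorem model_normal8 {N : Subgroup Ω} (E : FusionSystem N) (p : ℕ) {G : Type*} [Group G]
    (ι : ↥N →* G) (hreal : E.IsRealizedBy ι)
    (hUr : pCore p G ≤ ι.range)
    (hU : Subgroup.centralizer ((pCore p G : Subgroup G) : Set G) ≤ pCore p G)
    (Q : Subgroup Ω) (hQ : E.IsNormal Q) (hQn : ∀ n ∈ N, ∀ x ∈ Q, n * x * n⁻¹ ∈ Q) :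
    ((Q.subgroupOf N).map ι).Normal := by
  obtain ⟨hinj, hiff⟩ := hreal
  have hUn : (pCore p G).Normal := Subgroup.sSup_normal _ (fun _ h => h.1)
  constructor
  intro y hy g
  obtain ⟨U₀, hU₀⟩ : ∃ U₀ : Subgroup Ω, U₀ = ((pCore p G).comap ι).map N.subtype := ⟨_, rfl⟩
  have hU₀N : U₀ ≤ N := by
    rw [hU₀]
    rintro _ ⟨n, -, rfl⟩
    exact n.2
  have hU₀mem : ∀ (x : Ω) (hx : x ∈ N), x ∈ U₀ ↔ ι ⟨x, hx⟩ ∈ pCore p G := by
    intro x hx
    rw [hU₀]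
    constructor
    · rintro ⟨n, hn, hnx⟩
      have e : n = ⟨x, hx⟩ := Subtype.ext hnx
      rw [← e]
      exact hn
    · intro h
      exact ⟨⟨x, hx⟩, h, rfl⟩
  have hex : ∀ x : U₀, ∃ n : N, ι n = g * ι ⟨(x : Ω), hU₀N x.2⟩ * g⁻¹ := by
    intro x
    have h1 : ι ⟨(x : Ω), hU₀N x.2⟩ ∈ pCore p G := (hU₀mem _ _).1 x.2
    have h2 : g * ι ⟨(x : Ω), hU₀N x.2⟩ * g⁻¹ ∈ pCore p G := hUn.conj_mem _ h1 g
    obtain ⟨n, hn⟩ := hUr h2
    exact ⟨n, hn⟩
  obtain ⟨f, hf⟩ : ∃ f : U₀ → N, ∀ x, ι (f x) = g * ι ⟨(x : Ω), hU₀N x.2⟩ * g⁻¹ :=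
    ⟨fun x => Classical.choose (hex x), fun x => Classical.choose_spec (hex x)⟩
  have hfmul : ∀ x y : U₀, f (x * y) = f x * f y := by
    intro x y
    apply hinj
    rw [map_mul, hf, hf, hf]
    have e : (⟨((x * y : U₀) : Ω), hU₀N (x * y).2⟩ : N) =
        ⟨(x : Ω), hU₀N x.2⟩ * ⟨(y : Ω), hU₀N y.2⟩ := Subtype.ext rfl
    rw [e, map_mul]
    group
  obtain ⟨φ, hφ⟩ : ∃ φ : U₀ →* Ω, ∀ x, φ x = (f x : Ω) :=
    ⟨N.subtype.comp (MonoidHom.mk' f hfmul), fun x => rfl⟩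
  have hφN : ∀ x : U₀, φ x ∈ N := by
    intro x
    rw [hφ]
    exact (f x).2
  have hφE : φ ∈ E.Hom U₀ := by
    rw [hiff U₀ hU₀N φ hφN]
    refine ⟨g, fun x => ?_⟩
    rw [← hf x]
    exact congrArg ι (Subtype.ext (hφ x))
  obtain ⟨ψ, hψ, hψ1, hψ2⟩ := hQ.2 U₀ φ hφE
  have hψN := E.le_of_mem hψ
  obtain ⟨h, hh⟩ := (hiff (U₀ ⊔ Q) hψN.1 ψ hψN.2).1 hψ
  have hh' : ∀ (x : Ω) (hx : x ∈ U₀ ⊔ Q) (hxN : x ∈ N) (hψx : ψ ⟨x, hx⟩ ∈ N),
      ι ⟨ψ ⟨x, hx⟩, hψx⟩ = h * ι ⟨x, hxN⟩ * h⁻¹ := fun x hx hxN hψx => hh ⟨x, hx⟩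
  have hf' : ∀ (x : Ω) (hx : x ∈ U₀) (hxN : x ∈ N), ι (f ⟨x, hx⟩) = g * ι ⟨x, hxN⟩ * g⁻¹ :=
    fun x hx hxN => hf ⟨x, hx⟩
  have hc : h⁻¹ * g ∈ Subgroup.centralizer ((pCore p G : Subgroup G) : Set G) := by
    rw [Subgroup.mem_centralizer_iff]
    intro u hu
    obtain ⟨n, rfl⟩ := hUr hu
    have hn : (n : Ω) ∈ U₀ := (hU₀mem _ n.2).2 hu
    have a := hh' (n : Ω) (le_sup_left (a := U₀) (b := Q) hn) n.2 (hψN.2 _)
    have b := hf' (n : Ω) hn n.2
    have c : (⟨ψ ⟨(n : Ω), le_sup_left (a := U₀) (b := Q) hn⟩, hψN.2 _⟩ : N) = f ⟨(n : Ω), hn⟩ :=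
      Subtype.ext ((hψ1 ⟨(n : Ω), hn⟩).trans (hφ _))
    have e1 : g * ι n * g⁻¹ = h * ι n * h⁻¹ := b.symm.trans ((congrArg ι c).symm.trans a)
    calc ι n * (h⁻¹ * g) = h⁻¹ * (h * ι n * h⁻¹) * g := by group
      _ = h⁻¹ * (g * ι n * g⁻¹) * g := by rw [e1]
      _ = h⁻¹ * g * ι n := by group
  have hcU := hU hc
  obtain ⟨m, hm⟩ := hUr hcU
  obtain ⟨r, hr, rfl⟩ := hy
  have hrQ : (r : Ω) ∈ Q := Subgroup.mem_subgroupOf.1 hr
  have hr'Q : ((m * r * m⁻¹ : N) : Ω) ∈ Q := hQn m m.2 r hrQ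
  have hψr : ψ ⟨((m * r * m⁻¹ : N) : Ω), le_sup_right (a := U₀) (b := Q) hr'Q⟩ ∈ Q := by
    have h0 : ψ ⟨((m * r * m⁻¹ : N) : Ω), le_sup_right (a := U₀) (b := Q) hr'Q⟩ ∈
        (Q.subgroupOf (U₀ ⊔ Q)).map ψ :=
      ⟨_, Subgroup.mem_subgroupOf.2 hr'Q, rfl⟩
    rw [hψ2] at h0
    exact h0
  have a : ι ⟨ψ ⟨((m * r * m⁻¹ : N) : Ω), le_sup_right (a := U₀) (b := Q) hr'Q⟩, hψN.2 _⟩ =
      h * ι (m * r * m⁻¹) * h⁻¹ :=
    hh' ((m * r * m⁻¹ : N) : Ω) (le_sup_right (a := U₀) (b := Q) hr'Q) (m * r * m⁻¹ : N).2 (hψN.2 _)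
  refine ⟨⟨ψ ⟨((m * r * m⁻¹ : N) : Ω), le_sup_right (a := U₀) (b := Q) hr'Q⟩, hψN.2 _⟩,
    Subgroup.mem_subgroupOf.2 hψr, ?_⟩
  have e : ι (m * r * m⁻¹) = ι m * ι r * (ι m)⁻¹ := by
    rw [map_mul, map_mul, map_inv]
  rw [a, e, hm]
  group

/-- the subgroup of `Aut_F(R)` induced by the preimage of the `p`-core -/
def coreAut8 (F : FusionSystem S) (R : Subgroup Ω) {G : Type*} [Group G] (p : ℕ)
    (ι : ↥(normalizerIn S R) →* G) : Subgroup (F.autGroup R) where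
  carrier := {α | ∃ n : ↥(normalizerIn S R), ι n ∈ pCore p G ∧
    ∀ x : R, (((α : MulAut R) x : R) : Ω) = (n : Ω) * x * (n : Ω)⁻¹}
  mul_mem' := by
    rintro α β ⟨n, hn, hα⟩ ⟨m, hm, hβ⟩
    refine ⟨n * m, ?_, fun x => ?_⟩
    · rw [map_mul]
      exact (pCore p G).mul_mem hn hm
    · have h2 : ((((α : MulAut R) ((β : MulAut R) x)) : R) : Ω) =
          ((n : Ω) * (m : Ω)) * x * ((n : Ω) * (m : Ω))⁻¹ := by
        rw [hα, hβ]
        group
      exact h2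
  one_mem' := by
    refine ⟨1, ?_, fun x => ?_⟩
    · rw [map_one]
      exact (pCore p G).one_mem
    · have h2 : (x : Ω) = (1 : Ω) * x * (1 : Ω)⁻¹ := by group
      exact h2
  inv_mem' := by
    rintro α ⟨n, hn, hα⟩
    refine ⟨n⁻¹, ?_, fun x => ?_⟩
    · rw [map_inv]
      exact (pCore p G).inv_mem hn
    · have h := hα ((α : MulAut R)⁻¹ x)
      rw [MulAut.apply_inv_self] at h
      have h2 : ((((α : MulAut R)⁻¹ x) : R) : Ω) = ((n : Ω))⁻¹ * (x : Ω) * ((n : Ω)⁻¹)⁻¹ := by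
        rw [h]
        group
      exact h2

/-- in a model of the normalizer system of a centric radical subgroup, the `p`-core lies in the
image of `R` -/
theorem model_core_le8 (F : FusionSystem S) [Finite S] (p : ℕ) [Fact p.Prime] (hS : IsPGroup p S)
    (R : Subgroup Ω) (hRc : F.IsCentric R) (hRr : F.IsRadical p R)
    (E : FusionSystem (normalizerIn S R)) (hE : F.IsNormalizerSystem R E)
    {G : Type*} [Group G] (ι : ↥(normalizerIn S R) →* G) (hreal : E.IsRealizedBy ι)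
    (hUr : pCore p G ≤ ι.range) :
    pCore p G ≤ (R.subgroupOf (normalizerIn S R)).map ι := by
  have hR := hRc.1
  obtain ⟨hinj, hiff⟩ := hreal
  have hUn : (pCore p G).Normal := Subgroup.sSup_normal _ (fun _ h => h.1)
  have hRN : R ≤ normalizerIn S R := le_normalizerIn hR
  have hAn : (coreAut8 F R p ι).Normal := by
    constructor
    rintro α ⟨n, hn, hα⟩ β
    have hβE := nsys_aut8 F R hR E hE (β : MulAut R) β.2
    obtain ⟨g, hg⟩ := (hiff R hRN _ (fun x => hRN ((β : MulAut R) x).2)).1 hβE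
    have hg' : ∀ (a b : Ω) (ha : a ∈ R) (hb : b ∈ R), (((β : MulAut R) ⟨a, ha⟩ : R) : Ω) = b →
        ι ⟨b, hRN hb⟩ = g * ι ⟨a, hRN ha⟩ * g⁻¹ := by
      intro a b ha hb hab
      subst hab
      exact hg ⟨a, ha⟩
    have h2 : g * ι n * g⁻¹ ∈ pCore p G := hUn.conj_mem _ hn g
    obtain ⟨m, hm⟩ := hUr h2
    refine ⟨m, ?_, fun x => ?_⟩
    · rw [hm]
      exact h2
    · have key : (⟨((((β : MulAut R) ((α : MulAut R) ((β : MulAut R)⁻¹ x))) : R) : Ω),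
          hRN ((β : MulAut R) ((α : MulAut R) ((β : MulAut R)⁻¹ x))).2⟩ : ↥(normalizerIn S R)) =
          m * ⟨(x : Ω), hRN x.2⟩ * m⁻¹ := by
        apply hinj
        have e0 := hg' _ _ ((α : MulAut R) ((β : MulAut R)⁻¹ x)).2
          ((β : MulAut R) ((α : MulAut R) ((β : MulAut R)⁻¹ x))).2 rfl
        have e1 : (⟨((((α : MulAut R) ((β : MulAut R)⁻¹ x)) : R) : Ω),
            hRN ((α : MulAut R) ((β : MulAut R)⁻¹ x)).2⟩ : ↥(normalizerIn S R)) =
            n * ⟨((((β : MulAut R)⁻¹ x : R)) : Ω), hRN ((β : MulAut R)⁻¹ x).2⟩ * n⁻¹ :=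
          Subtype.ext (hα _)
        have e2 := hg' _ _ ((β : MulAut R)⁻¹ x).2 x.2 (by
          show (((β : MulAut R) ((β : MulAut R)⁻¹ x) : R) : Ω) = x
          rw [MulAut.apply_inv_self])
        rw [e0, e1]
        simp only [map_mul, map_inv]
        rw [hm, e2]
        group
      exact congrArg (fun z : ↥(normalizerIn S R) => (z : Ω)) key
  have hAp : IsPGroup p (coreAut8 F R p ι) := by
    have hp1 : IsPGroup p ((autInducedBy S R).subgroupOf (F.autGroup R)) :=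
      (autInducedBy_isPGroup hS R).comap_subtype
    apply hp1.to_le
    rintro α ⟨n, hn, hα⟩
    rw [Subgroup.mem_subgroupOf]
    exact (mem_autInducedBy_iff S R _).2 ⟨n, normalizerIn_le S R n.2, hα⟩
  have hAle : coreAut8 F R p ι ≤ pCore p (F.autGroup R) := le_sSup ⟨hAn, hAp⟩
  intro u hu
  obtain ⟨n, rfl⟩ := hUr hu
  suffices h : (n : Ω) ∈ R from ⟨n, Subgroup.mem_subgroupOf.2 h, rfl⟩
  have hnS : (n : Ω) ∈ S := (Subgroup.mem_inf.1 n.2).1
  have hnN : (n : Ω) ∈ Subgroup.normalizer (R : Set Ω) := (Subgroup.mem_inf.1 n.2).2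
  have hαF : R.normalizerMonoidHom ⟨(n : Ω), hnN⟩ ∈ F.autGroup R :=
    (mem_autGroup_iff F hR _).2 (fsIso_conj F hR ⟨(n : Ω), hnN⟩ hnS)
  have hαA : (⟨R.normalizerMonoidHom ⟨(n : Ω), hnN⟩, hαF⟩ : F.autGroup R) ∈ coreAut8 F R p ι :=
    ⟨n, hu, fun x => rfl⟩
  have hαc := hAle hαA
  have hαI : R.normalizerMonoidHom ⟨(n : Ω), hnN⟩ ∈ Cfsg.Inn R := by
    rw [← hRr.2]
    exact ⟨_, hαc, rfl⟩
  obtain ⟨r, hr⟩ := hαI
  have hrx : ∀ x : R, (r : Ω) * x * (r : Ω)⁻¹ = (n : Ω) * x * (n : Ω)⁻¹ := by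
    intro x
    have h0 := congrArg (fun a : MulAut R => ((a x : R) : Ω)) hr
    exact h0
  have hc : (r : Ω)⁻¹ * (n : Ω) ∈ centralizerIn S R := by
    rw [mem_centralizerIn]
    refine ⟨S.mul_mem (S.inv_mem (hR r.2)) hnS, fun h hh => ?_⟩
    have e' : (r : Ω) * h * (r : Ω)⁻¹ = (n : Ω) * h * (n : Ω)⁻¹ := hrx ⟨h, hh⟩
    calc h * ((r : Ω)⁻¹ * (n : Ω)) = (r : Ω)⁻¹ * ((r : Ω) * h * (r : Ω)⁻¹) * (n : Ω) := by group
      _ = (r : Ω)⁻¹ * ((n : Ω) * h * (n : Ω)⁻¹) * (n : Ω) := by rw [e']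
      _ = (r : Ω)⁻¹ * (n : Ω) * h := by group
  have hcR := hRc.2 R (fs_isConj_refl F hR) hc
  have e3 : (n : Ω) = (r : Ω) * ((r : Ω)⁻¹ * (n : Ω)) := by group
  rw [e3]
  exact R.mul_mem r.2 hcR

/-- in a model of the normalizer system of a centric radical subgroup, the `p`-core is the image
of `R` -/
theorem nsys_model_core8 (F : FusionSystem S) [Finite S] (p : ℕ) [Fact p.Prime]
    (hS : IsPGroup p S) (R : Subgroup Ω) (hRc : F.IsCentric R) (hRr : F.IsRadical p R)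
    (E : FusionSystem (normalizerIn S R)) (hE : F.IsNormalizerSystem R E)
    {G : Type*} [Group G] (ι : ↥(normalizerIn S R) →* G) (hM : E.IsModel p G ι) :
    (pCore p G : Subgroup G) = (R.subgroupOf (normalizerIn S R)).map ι := by
  obtain ⟨hfin, hreal, ⟨T, hT⟩, hU⟩ := hM
  have hUn : (pCore p G).Normal := Subgroup.sSup_normal _ (fun _ h => h.1)
  have hUp : IsPGroup p (pCore p G) := Sylow.sSup_of_normal _ (fun _ h => h.2) (fun _ h => h.1)
  have hUr : pCore p G ≤ ι.range := by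
    rw [← hT]
    exact hUp.le_sylow_of_normal T
  apply le_antisymm
  · exact model_core_le8 F p hS R hRc hRr E hE ι hreal hUr
  · have hN : ((R.subgroupOf (normalizerIn S R)).map ι).Normal :=
      model_normal8 E p ι hreal hUr hU R (nsys_normal8 F R hRc.1 E hE)
        (fun n hn x hx => ((mem_normalizerIn.1 hn).2 x).1 hx)
    have hP : IsPGroup p ((R.subgroupOf (normalizerIn S R)).map ι) :=
      ((hS.to_le hRc.1).comap_subtype).map ι
    exact le_sSup ⟨hN, hP⟩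

end Cfsg.Agent.Lib.Helper8
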