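import Mathlib
import Cfsg.Prelude.Def_FusionSystem
import Cfsg.Agent.Lib.Helper8.Fusion
import Cfsg.Agent.Lib.Helper8.Fusion3
import Cfsg.Agent.Lib.Helper8.FusionAut
import Cfsg.Agent.Lib.Helper8.FusionMisc
import Cfsg.Agent.Lib.Helper8.FusionSat
import Cfsg.Agent.Lib.Helper8.Model1

set_option autoImplicit false

namespace Cfsg.Agent.Lib.Helper8

open Cfsg Cfsg.FusionSystem

/-- a `p`-subgroup `K ≤ A` normalized by `A` lies in the image of `O_p(A)` -/
theorem le_pcoreMap8 {G : Type*} [Group G] (p : ℕ) (A K : Subgroup G) (hKA : K ≤ A)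
    (hn : ∀ a ∈ A, ∀ k ∈ K, a * k * a⁻¹ ∈ K) (hK : IsPGroup p K) :
    K ≤ (pCore p A).map A.subtype := by
  have h1 : (K.subgroupOf A).Normal := by
    refine ⟨fun n hn' g => ?_⟩
    exact Subgroup.mem_subgroupOf.2 (hn g g.2 n (Subgroup.mem_subgroupOf.1 hn'))
  have h2 : IsPGroup p (K.subgroupOf A) := hK.comap_of_injective A.subtype A.subtype_injective
  intro k hk
  exact ⟨⟨k, hKA hk⟩, le_pCore8 h1 h2 (Subgroup.mem_subgroupOf.2 hk), rfl⟩

theorem pcoreMap_isPGroup8 {G : Type*} [Group G] (p : ℕ) (A : Subgroup G) :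
    IsPGroup p ((pCore p A).map A.subtype) :=
  (pCore_isPGroup8 p A).map A.subtype

theorem pcoreMap_le8 {G : Type*} [Group G] (p : ℕ) (A : Subgroup G) :
    (pCore p A).map A.subtype ≤ A := by
  rintro _ ⟨x, -, rfl⟩
  exact x.2

theorem pcoreMap_conj8 {G : Type*} [Group G] (p : ℕ) (A : Subgroup G) (a : G) (ha : a ∈ A)
    (k : G) (hk : k ∈ (pCore p A).map A.subtype) : a * k * a⁻¹ ∈ (pCore p A).map A.subtype := by
  obtain ⟨x, hx, rfl⟩ := hk
  exact ⟨⟨a, ha⟩ * x * ⟨a, ha⟩⁻¹, (pCore_normal8 p A).conj_mem x hx ⟨a, ha⟩, rfl⟩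

theorem pcoreMap_transport8 {G G' : Type*} [Group G] [Group G'] (p : ℕ) (f : G ≃* G')
    (A : Subgroup G) (A' : Subgroup G')
    (hA : ∀ α, α ∈ A ↔ f α ∈ A') (χ : G) (hχ : f χ ∈ (pCore p A').map A'.subtype) :
    χ ∈ (pCore p A).map A.subtype := by
  have hK : ((pCore p A').map A'.subtype).comap f.toMonoidHom ≤ (pCore p A).map A.subtype := by
    apply le_pcoreMap8
    · intro α hα
      exact (hA α).2 (pcoreMap_le8 p A' (Subgroup.mem_comap.1 hα))
    · intro a ha k hk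
      have h := pcoreMap_conj8 p A' (f a) ((hA a).1 ha) (f k) (Subgroup.mem_comap.1 hk)
      rw [← map_inv, ← map_mul, ← map_mul] at h
      exact Subgroup.mem_comap.2 h
    · exact (pcoreMap_isPGroup8 p A').comap_of_injective f.toMonoidHom f.injective
  exact hK (Subgroup.mem_comap.2 hχ)

theorem pcoreMap_inf8 {G : Type*} [Group G] (p : ℕ) (A B : Subgroup G) (hAB : A ≤ B) :
    (pCore p B).map B.subtype ⊓ A ≤ (pCore p A).map A.subtype := by
  apply le_pcoreMap8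
  · exact inf_le_right
  · intro a ha k hk
    exact Subgroup.mem_inf.2 ⟨pcoreMap_conj8 p B a (hAB ha) k (Subgroup.mem_inf.1 hk).1,
      A.mul_mem (A.mul_mem ha (Subgroup.mem_inf.1 hk).2) (A.inv_mem ha)⟩
  · exact (pcoreMap_isPGroup8 p B).to_le inf_le_left

theorem quad_pow8 {Q : Type*} [Group Q] (χ : MulAut Q)
    (hq : ∀ a : Q, (χ a⁻¹) * a * (χ a⁻¹) * (χ (χ a)) = 1) (n : ℕ) (a : Q) :
    (χ ^ n) a = a * (a⁻¹ * χ a) ^ n := by
  have h1 : ∀ a : Q, χ (χ a) = χ a * a⁻¹ * χ a := by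
    intro a
    have h := hq a
    rw [map_inv] at h
    have h2 : χ (χ a) = ((χ a)⁻¹ * a * (χ a)⁻¹)⁻¹ := eq_inv_of_mul_eq_one_right h
    rw [h2]
    group
  have h2 : ∀ a : Q, χ (a⁻¹ * χ a) = a⁻¹ * χ a := by
    intro a
    rw [map_mul, map_inv, h1]
    group
  induction n with
  | zero => simp
  | succ n ih =>
    rw [pow_succ' χ, MulAut.mul_apply, ih, map_mul, map_pow, h2, pow_succ' (a⁻¹ * χ a),
      ← mul_assoc a, mul_inv_cancel_left]

theorem quad_pow_card8 {Q : Type*} [Group Q] (χ : MulAut Q)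
    (hq : ∀ a : Q, (χ a⁻¹) * a * (χ a⁻¹) * (χ (χ a)) = 1) : χ ^ Nat.card Q = 1 := by
  ext a
  have h := quad_pow8 χ hq (Nat.card Q) a
  rw [pow_card_eq_one', mul_one] at h
  exact h

theorem mulAut_comm_of_cyclic8 {Q : Type*} [Group Q] [IsCyclic Q] (a k : MulAut Q) :
    a * k = k * a := by
  obtain ⟨m, hm⟩ := MonoidHom.map_cyclic a.toMonoidHom
  obtain ⟨n, hn⟩ := MonoidHom.map_cyclic k.toMonoidHom
  have hm' : ∀ g : Q, a g = g ^ m := hm
  have hn' : ∀ g : Q, k g = g ^ n := hn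
  ext g
  show a (k g) = k (a g)
  rw [hm' (k g), hn' g, hn' (a g), hm' g, ← zpow_mul, ← zpow_mul, mul_comm]

theorem zpowers_isPGroup8 {G : Type*} [Group G] (p k : ℕ) (x : G) (hx : x ^ (p ^ k) = 1) :
    IsPGroup p (Subgroup.zpowers x) := by
  rintro ⟨g, hg⟩
  obtain ⟨z, rfl⟩ := Subgroup.mem_zpowers_iff.1 hg
  refine ⟨k, Subtype.ext ?_⟩
  show (x ^ z) ^ (p ^ k) = 1
  rw [← zpow_natCast, ← zpow_mul, mul_comm, zpow_mul, zpow_natCast, hx, one_zpow]

variable {Ω : Type*} [Group Ω] {S : Subgroup Ω}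

theorem quad_cyclic8 (F : FusionSystem S) [Finite S] (p : ℕ) [Fact p.Prime] (hS : IsPGroup p S)
    (Q : Subgroup Ω) (hQ : Q ≤ S) (hc : IsCyclic Q) (χ : MulAut Q) (hχ : χ ∈ F.autGroup Q)
    (hq : ∀ a : Q, (χ a⁻¹) * a * (χ a⁻¹) * (χ (χ a)) = 1) :
    χ ∈ (pCore p (F.autGroup Q)).map (F.autGroup Q).subtype := by
  haveI : Finite Q := finite_of_le_fs hQ
  obtain ⟨k, hk⟩ := (hS.to_le hQ).exists_card_eq
  have h1 : χ ^ (p ^ k) = 1 := by
    rw [← hk]
    exact quad_pow_card8 χ hq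
  have h2 : Subgroup.zpowers χ ≤ (pCore p (F.autGroup Q)).map (F.autGroup Q).subtype := by
    apply le_pcoreMap8
    · exact (Subgroup.zpowers_le.2 hχ)
    · intro a _ x hx
      have e : a * x * a⁻¹ = x := by
        rw [mulAut_comm_of_cyclic8 a x, mul_inv_cancel_right]
      rw [e]
      exact hx
    · exact zpowers_isPGroup8 p k χ h1
  exact h2 (Subgroup.mem_zpowers χ)

theorem nsys_autGroup_le8 (F : FusionSystem S) (R : Subgroup Ω)
    (N : FusionSystem (normalizerIn S R)) (hN : F.IsNormalizerSystem R N) (Q : Subgroup Ω)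
    (hQ : Q ≤ normalizerIn S R) : N.autGroup Q ≤ F.autGroup Q := by
  intro α hα
  have h1 : Q.subtype.comp α.toMonoidHom ∈ N.Hom Q := (mem_autGroup_iff N hQ α).1 hα
  rw [hN Q] at h1
  exact (mem_autGroup_iff F (hQ.trans (normalizerIn_le S R)) α).2 h1.1

theorem pstab_of_nsys8 (F : FusionSystem S) [Finite S] (Q : Subgroup Ω) (hQ : Q ≤ S)
    (N : FusionSystem (normalizerIn S Q)) (hN : F.IsNormalizerSystem Q N) :
    N.IsFullyNormalized Q ∧ N.autGroup Q = F.autGroup Q := by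
  have hQN : Q ≤ normalizerIn S Q := le_normalizerIn hQ
  haveI : Finite (normalizerIn S Q) := finite_of_le_fs (normalizerIn_le S Q)
  have e : normalizerIn (normalizerIn S Q) Q = normalizerIn S Q :=
    le_antisymm (normalizerIn_le _ _) (le_inf le_rfl inf_le_right)
  refine ⟨⟨hQN, fun Q' _ => ?_⟩, le_antisymm (nsys_autGroup_le8 F Q N hN Q hQN) ?_⟩
  · rw [e]
    exact Subgroup.card_le_of_le (normalizerIn_le _ _)
  · intro α hα
    exact (mem_autGroup_iff N hQN α).2 (nsys_aut8 F Q hQ N hN α hα)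

theorem pstab_conj8 (F : FusionSystem S) [Finite S] (p : ℕ)
    (hL : ∀ Q : Subgroup Ω, F.IsFullyNormalized Q → ∀ χ : MulAut ↥Q, χ ∈ F.autGroup Q →
      (∀ a : ↥Q, (χ a⁻¹) * a * (χ a⁻¹) * (χ (χ a)) = 1) →
      χ ∈ ((Cfsg.pCore p ↥(F.autGroup Q)).map (F.autGroup Q).subtype : Subgroup (MulAut ↥Q)))
    (Q : Subgroup Ω) (hQ : Q ≤ S) (χ : MulAut Q) (hχ : χ ∈ F.autGroup Q)
    (hq : ∀ a : Q, (χ a⁻¹) * a * (χ a⁻¹) * (χ (χ a)) = 1) :
    χ ∈ (pCore p (F.autGroup Q)).map (F.autGroup Q).subtype := by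
  obtain ⟨Q', hc, hQ'⟩ := exists_fullyNormalized_conj F hQ
  obtain ⟨φ, hφ, hr⟩ := hc
  obtain ⟨e, he⟩ : ∃ e : Q ≃* Q', FsIso F e := ⟨_, fsIso_fsEquiv F hφ hr⟩
  have hes : FsIso F e.symm := fsIso_symm F he
  have hQ'S : Q' ≤ S := hQ'.1
  have hcg : ∀ α : MulAut Q, (MulAut.congr e) α = e.symm.trans (α.trans e) := fun α => rfl
  have hA : ∀ α : MulAut Q, α ∈ F.autGroup Q ↔ (MulAut.congr e) α ∈ F.autGroup Q' := by
    intro α
    rw [mem_autGroup_iff F hQ, mem_autGroup_iff F hQ'S, hcg]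
    constructor
    · intro h
      exact fsIso_trans F hes (fsIso_trans F h he)
    · intro h
      have h2 := fsIso_trans F he (fsIso_trans F h hes)
      have e2 : e.trans ((e.symm.trans (α.trans e)).trans e.symm) = α := by
        refine MulEquiv.ext (fun x => ?_)
        show e.symm (e (α (e.symm (e x)))) = α x
        rw [e.symm_apply_apply, e.symm_apply_apply]
      rw [e2] at h2
      exact h2
  have hq' : ∀ a : Q', ((MulAut.congr e) χ a⁻¹) * a * ((MulAut.congr e) χ a⁻¹) *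
      ((MulAut.congr e) χ ((MulAut.congr e) χ a)) = 1 := by
    intro a
    have h := congrArg e (hq (e.symm a))
    rw [map_mul, map_mul, map_mul, map_one, e.apply_symm_apply] at h
    have e1 : (MulAut.congr e) χ a⁻¹ = e (χ (e.symm a)⁻¹) := by
      show e (χ (e.symm a⁻¹)) = _
      rw [map_inv]
    have e2 : (MulAut.congr e) χ ((MulAut.congr e) χ a) = e (χ (χ (e.symm a))) := by
      show e (χ (e.symm (e (χ (e.symm a))))) = _
      rw [e.symm_apply_apply]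
    rw [e1, e2]
    exact h
  have h3 := hL Q' hQ' ((MulAut.congr e) χ) ((hA χ).1 hχ) hq'
  exact pcoreMap_transport8 p (MulAut.congr e) (F.autGroup Q) (F.autGroup Q') hA χ h3

theorem pstab_main8 (F : FusionSystem S) [Finite S] (p : ℕ) [Fact p.Prime] (hS : IsPGroup p S) :
    (∀ Q : Subgroup Ω, F.IsFullyNormalized Q → ∀ χ : MulAut ↥Q, χ ∈ F.autGroup Q →
      (∀ a : ↥Q, (χ a⁻¹) * a * (χ a⁻¹) * (χ (χ a)) = 1) →
      χ ∈ ((Cfsg.pCore p ↥(F.autGroup Q)).map (F.autGroup Q).subtype : Subgroup (MulAut ↥Q))) ↔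
    ∀ R : Subgroup Ω, F.IsFullyNormalized R → ¬ IsCyclic ↥R →
      ∀ N : Cfsg.FusionSystem (Cfsg.FusionSystem.normalizerIn S R), F.IsNormalizerSystem R N →
      (∀ Q : Subgroup Ω, N.IsFullyNormalized Q → ∀ χ : MulAut ↥Q, χ ∈ N.autGroup Q →
        (∀ a : ↥Q, (χ a⁻¹) * a * (χ a⁻¹) * (χ (χ a)) = 1) →
        χ ∈ ((Cfsg.pCore p ↥(N.autGroup Q)).map (N.autGroup Q).subtype :
          Subgroup (MulAut ↥Q))) := by
  constructor
  · intro hL R _ _ N hN Q hQ χ hχ hq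
    have hQN : Q ≤ normalizerIn S R := hQ.1
    have hQS : Q ≤ S := hQN.trans (normalizerIn_le S R)
    have hle := nsys_autGroup_le8 F R N hN Q hQN
    have h1 := pstab_conj8 F p hL Q hQS χ (hle hχ) hq
    exact pcoreMap_inf8 p (N.autGroup Q) (F.autGroup Q) hle (Subgroup.mem_inf.2 ⟨h1, hχ⟩)
  · intro hR Q hQ χ hχ hq
    by_cases hc : IsCyclic Q
    · exact quad_cyclic8 F p hS Q hQ.1 hc χ hχ hq
    · obtain ⟨hfn, hau⟩ := pstab_of_nsys8 F Q hQ.1 (normalizerSystem F Q hQ.1)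
        (isNormalizerSystem_normalizerSystem F Q hQ.1)
      have hχ' : χ ∈ (normalizerSystem F Q hQ.1).autGroup Q := by
        rw [hau]
        exact hχ
      have h1 := hR Q hQ hc (normalizerSystem F Q hQ.1)
        (isNormalizerSystem_normalizerSystem F Q hQ.1) Q hfn χ hχ' hq
      have key : ∀ A B : Subgroup (MulAut Q), A = B →
          χ ∈ (pCore p A).map A.subtype → χ ∈ (pCore p B).map B.subtype := by
        rintro A _ rfl h
        exact h
      exact key _ _ hau h1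

end Cfsg.Agent.Lib.Helper8
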