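import Mathlib
import Cfsg.Agent.Lib.Helper8.P3a
import Cfsg.Agent.Lib.Helper8.PStab1

set_option autoImplicit false

namespace Cfsg.Agent.Lib.Helper8

theorem powfix_of_fix8 {G : Type*} [Group G] (β : MulAut G) (x : G) (h : β x = x) (n : ℕ) :
    (β ^ n) x = x := by
  induction n with
  | zero => rfl
  | succ n ih => rw [pow_succ', MulAut.mul_apply, ih, h]

theorem zpow_pow_comm8 {G : Type*} [Group G] (w : G) (a : ℤ) (n : ℕ) :
    (w ^ a) ^ n = (w ^ n) ^ a := by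
  rw [← zpow_natCast (w ^ a) n, ← zpow_mul, ← zpow_natCast w n, ← zpow_mul, mul_comm]

section ab2
variable {H : Type*} [CommGroup H]

/-- `Ω_j(H)` -/
def Om8 (p j : ℕ) : Subgroup H := (powMonoidHom (p ^ j) : H →* H).ker

/-- `℧^j(H)` -/
def Mh8 (p j : ℕ) : Subgroup H := (powMonoidHom (p ^ j) : H →* H).range

theorem mem_Om8 (p j : ℕ) (x : H) : x ∈ Om8 (H := H) p j ↔ x ^ (p ^ j) = 1 := by
  unfold Om8; rw [MonoidHom.mem_ker]; rfl

theorem mem_Mh8 (p j : ℕ) (x : H) : x ∈ Mh8 (H := H) p j ↔ ∃ y : H, y ^ (p ^ j) = x := by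
  unfold Mh8; rw [MonoidHom.mem_range]; rfl

theorem Om_char8 (p j : ℕ) (α : MulAut H) :
    ∀ y ∈ Om8 (H := H) p j, α y ∈ Om8 (H := H) p j := by
  intro y hy
  rw [mem_Om8] at hy ⊢
  rw [← map_pow, hy, map_one]

theorem Mh_char8 (p j : ℕ) (α : MulAut H) :
    ∀ y ∈ Mh8 (H := H) p j, α y ∈ Mh8 (H := H) p j := by
  intro y hy
  rw [mem_Mh8] at hy ⊢
  obtain ⟨w, rfl⟩ := hy
  exact ⟨α w, (map_pow α w _).symm⟩

theorem card_Om_Mh8 (p j : ℕ) :
    Nat.card (Om8 (H := H) p j) * Nat.card (Mh8 (H := H) p j) = Nat.card H := by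
  unfold Om8 Mh8
  rw [← Subgroup.index_ker]
  exact Subgroup.card_mul_index _

theorem fixOmega_pow8 (p : ℕ) (β : MulAut H) (hβ : ∀ y : H, y ^ p = 1 → β y = y) (j : ℕ) :
    ∀ x : H, x ^ (p ^ (j + 1)) = 1 → (β ^ (p ^ j)) x = x := by
  induction j with
  | zero =>
    intro x hx
    simpa using hβ x (by simpa using hx)
  | succ j ih =>
    intro x hx
    have hxp : (x ^ p) ^ (p ^ (j + 1)) = 1 := by
      rw [← pow_mul, ← pow_succ']; exact hx
    have h1 := ih (x ^ p) hxp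
    have hu : (x⁻¹ * (β ^ (p ^ j)) x) ^ p = 1 := by
      rw [mul_pow, inv_pow, ← map_pow, h1, inv_mul_cancel]
    have h2 : (β ^ (p ^ j)) (x⁻¹ * (β ^ (p ^ j)) x) = x⁻¹ * (β ^ (p ^ j)) x :=
      powfix_of_fix8 β _ (hβ _ hu) _
    have h3 := pow_fix8 (β ^ (p ^ j)) x h2 p
    rw [hu, mul_one, ← pow_mul, ← pow_succ] at h3
    exact h3

theorem stabU8 [Finite H] (p : ℕ) [hp : Fact p.Prime] (N : ℕ) (hN : Nat.card H = p ^ N)
    (A : Subgroup H) (hAchar : ∀ α : MulAut H, ∀ y ∈ A, α y ∈ A) (hA1 : ∀ z ∈ A, z ^ p = 1) :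
    ∃ U : Subgroup (MulAut H), U.Normal ∧ IsPGroup p U ∧
      ∀ α : MulAut H, (∀ z ∈ A, α z = z) → (∀ y : H, y ^ p = 1 → y⁻¹ * α y ∈ A) → α ∈ U := by
  obtain ⟨U, hU⟩ : ∃ U : Subgroup (MulAut H), ∀ α : MulAut H, α ∈ U ↔
      ((∀ z ∈ A, α z = z) ∧ (∀ y : H, y ^ p = 1 → y⁻¹ * α y ∈ A)) := by
    refine ⟨{ carrier := {α | (∀ z ∈ A, α z = z) ∧ (∀ y : H, y ^ p = 1 → y⁻¹ * α y ∈ A)}
              one_mem' := ?_
              mul_mem' := ?_
              inv_mem' := ?_ }, fun α => Iff.rfl⟩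
    · intro α β hα hβ
      obtain ⟨ha1, ha2⟩ := hα
      obtain ⟨hb1, hb2⟩ := hβ
      show (∀ z ∈ A, (α * β) z = z) ∧ (∀ y : H, y ^ p = 1 → y⁻¹ * (α * β) y ∈ A)
      refine ⟨fun z hz => ?_, fun y hy => ?_⟩
      · rw [MulAut.mul_apply, hb1 z hz, ha1 z hz]
      · have e : y⁻¹ * (α * β) y = (y⁻¹ * α y) * α (y⁻¹ * β y) := by
          rw [MulAut.mul_apply, map_mul, map_inv]; group
        rw [e]
        exact A.mul_mem (ha2 y hy) (hAchar α _ (hb2 y hy))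
    · show (∀ z ∈ A, (1 : MulAut H) z = z) ∧ (∀ y : H, y ^ p = 1 → y⁻¹ * (1 : MulAut H) y ∈ A)
      refine ⟨fun z _ => rfl, fun y _ => ?_⟩
      have : y⁻¹ * (1 : MulAut H) y = 1 := by rw [MulAut.one_apply, inv_mul_cancel]
      rw [this]; exact A.one_mem
    · intro α hα
      obtain ⟨ha1, ha2⟩ := hα
      show (∀ z ∈ A, α⁻¹ z = z) ∧ (∀ y : H, y ^ p = 1 → y⁻¹ * α⁻¹ y ∈ A)
      refine ⟨fun z hz => ?_, fun y hy => ?_⟩
      · calc α⁻¹ z = α⁻¹ (α z) := by rw [ha1 z hz]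
          _ = z := MulAut.inv_apply_self _ _ _
      · have hw : (α⁻¹ y) ^ p = 1 := by rw [← map_pow, hy, map_one]
        have h1 := ha2 _ hw
        rw [MulAut.apply_inv_self] at h1
        have e : y⁻¹ * α⁻¹ y = ((α⁻¹ y)⁻¹ * y)⁻¹ := by group
        rw [e]; exact A.inv_mem h1
  refine ⟨U, ?_, ?_, ?_⟩
  · refine ⟨fun α hα γ => ?_⟩
    obtain ⟨ha1, ha2⟩ := (hU α).mp hα
    rw [hU]
    refine ⟨fun z hz => ?_, fun y hy => ?_⟩
    · rw [MulAut.mul_apply, MulAut.mul_apply, ha1 _ (hAchar γ⁻¹ z hz), MulAut.apply_inv_self]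
    · have e : y⁻¹ * (γ * α * γ⁻¹) y = γ ((γ⁻¹ y)⁻¹ * α (γ⁻¹ y)) := by
        rw [MulAut.mul_apply, MulAut.mul_apply, map_mul, map_inv, MulAut.apply_inv_self]
      rw [e]
      have hw : (γ⁻¹ y) ^ p = 1 := by rw [← map_pow, hy, map_one]
      exact hAchar γ _ (ha2 _ hw)
  · intro g
    refine ⟨N + 1, Subtype.ext ?_⟩
    obtain ⟨ha1, ha2⟩ := (hU g.1).mp g.2
    have hfix : ∀ y : H, y ^ p = 1 → ((g : MulAut H) ^ p) y = y := by
      intro y hy
      have hc : y⁻¹ * (g : MulAut H) y ∈ A := ha2 y hy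
      rw [pow_fix8 (g : MulAut H) y (ha1 _ hc) p, hA1 _ hc, mul_one]
    have hall : ∀ x : H, (((g : MulAut H) ^ p) ^ (p ^ N)) x = x := by
      intro x
      apply fixOmega_pow8 p _ hfix N
      have : x ^ (p ^ N) = 1 := by rw [← hN]; exact pow_card_eq_one'
      rw [pow_succ, pow_mul, this, one_pow]
    have e : ((g ^ p ^ (N + 1) : U) : MulAut H) = ((g : MulAut H) ^ p) ^ (p ^ N) := by
      rw [Subgroup.coe_pow, ← pow_mul]
      congr 1
      ring
    rw [e]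
    exact MulEquiv.ext hall
  · intro α h1 h2
    rw [hU]
    exact ⟨h1, h2⟩

theorem frattini_le_Mh8 [Finite H] (p : ℕ) [hp : Fact p.Prime] :
    frattini H ≤ Mh8 (H := H) p 1 := by
  intro q hq
  by_contra hqM
  haveI hne : Nonempty {M : Subgroup H // Mh8 (H := H) p 1 ≤ M ∧ q ∉ M} :=
    ⟨⟨_, le_refl _, hqM⟩⟩
  obtain ⟨⟨M, hM1, hM2⟩, hmax⟩ := Finite.exists_max
    (fun M : {M : Subgroup H // Mh8 (H := H) p 1 ≤ M ∧ q ∉ M} => Nat.card (M : Subgroup H))
  have hkey : ∀ K : Subgroup H, M ≤ K → q ∉ K → K = M := by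
    intro K hMK hqK
    have h1 : Nat.card K ≤ Nat.card M := hmax ⟨K, hM1.trans hMK, hqK⟩
    exact (Subgroup.eq_of_le_of_card_ge hMK h1).symm
  have hco : IsCoatom M := by
    refine ⟨fun h => hM2 (by rw [h]; exact Subgroup.mem_top _), fun K hMK => ?_⟩
    have hqK : q ∈ K := by
      by_contra h
      exact hMK.ne (hkey K hMK.le h).symm
    rw [Subgroup.eq_top_iff']
    intro y
    by_cases hy : y ∈ M
    · exact hMK.le hy
    · have hq2 : q ∈ M ⊔ Subgroup.zpowers y := by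
        by_contra h
        have h2 := hkey _ le_sup_left h
        apply hy
        rw [← h2]
        exact (le_sup_right : Subgroup.zpowers y ≤ M ⊔ Subgroup.zpowers y)
          (Subgroup.mem_zpowers y)
      obtain ⟨m, hm, z, hz, hmz⟩ := Subgroup.mem_sup.mp hq2
      obtain ⟨j, rfl⟩ := Subgroup.mem_zpowers_iff.mp hz
      have hpj : ¬ (p : ℤ) ∣ j := by
        rintro ⟨c, rfl⟩
        apply hM2
        rw [← hmz]
        refine M.mul_mem hm (hM1 ?_)
        rw [mem_Mh8]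
        refine ⟨y ^ c, ?_⟩
        rw [pow_one, mul_comm, zpow_mul, zpow_natCast]
      have hcop : IsCoprime (p : ℤ) j :=
        (Prime.coprime_iff_not_dvd (Nat.prime_iff_prime_int.mp hp.out)).mpr hpj
      obtain ⟨a, b, hab⟩ := hcop
      have hyj : y ^ j ∈ K := by
        have : y ^ j = m⁻¹ * q := by rw [← hmz, inv_mul_cancel_left]
        rw [this]; exact K.mul_mem (K.inv_mem (hMK.le hm)) hqK
      have hyp : y ^ (p : ℤ) ∈ K := by
        apply hMK.le; apply hM1; rw [mem_Mh8]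
        exact ⟨y, by rw [pow_one, zpow_natCast]⟩
      have e : y = (y ^ (p : ℤ)) ^ a * (y ^ j) ^ b := by
        rw [← zpow_mul, ← zpow_mul, ← zpow_add, mul_comm (p : ℤ) a, mul_comm j b, hab, zpow_one]
      rw [e]
      exact K.mul_mem (K.zpow_mem hyp a) (K.zpow_mem hyj b)
  exact hM2 (frattini_le_coatom hco hq)

theorem card_Om1_le8 [Finite H] (p : ℕ) [hp : Fact p.Prime]
    (hrk : (frattini H).index ≤ p ^ 2) : Nat.card (Om8 (H := H) p 1) ≤ p ^ 2 := by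
  have h1 := card_Om_Mh8 (H := H) p 1
  have h2 := Subgroup.card_mul_index (Mh8 (H := H) p 1)
  have h3 : Nat.card (Om8 (H := H) p 1) = (Mh8 (H := H) p 1).index := by
    have hpos : 0 < Nat.card (Mh8 (H := H) p 1) := Nat.card_pos
    have h4 : Nat.card (Mh8 (H := H) p 1) * Nat.card (Om8 (H := H) p 1) =
        Nat.card (Mh8 (H := H) p 1) * (Mh8 (H := H) p 1).index := by rw [h2, mul_comm, h1]
    exact Nat.eq_of_mul_eq_mul_left hpos h4
  rw [h3]
  have h4 : (Mh8 (H := H) p 1).index ∣ (frattini H).index :=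
    Subgroup.index_dvd_of_le (frattini_le_Mh8 p)
  exact (Nat.le_of_dvd (Nat.pos_of_ne_zero Subgroup.index_ne_zero_of_finite) h4).trans hrk

theorem T4_8 (β : MulAut H) (d : H → H) (hd : ∀ x : H, β x = x * d x) (v : H)
    (h4 : d (d (d (d v))) = 1) (n : ℕ) :
    (β ^ n) v = v * (d v) ^ n * (d (d v)) ^ (n.choose 2) * (d (d (d v))) ^ (n.choose 3) := by
  induction n with
  | zero => simp
  | succ n ih =>
    have c2 : (n + 1).choose 2 = n + n.choose 2 := by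
      have := Nat.choose_succ_succ' n 1
      rw [Nat.choose_one_right] at this
      exact this
    have c3 : (n + 1).choose 3 = n.choose 2 + n.choose 3 := Nat.choose_succ_succ' n 2
    rw [pow_succ', MulAut.mul_apply, ih, map_mul, map_mul, map_mul, map_pow, map_pow, map_pow,
      hd v, hd (d v), hd (d (d v)), hd (d (d (d v))), h4, mul_one, c2, c3,
      mul_pow, mul_pow, pow_succ, pow_add, pow_add]
    simp only [mul_assoc, mul_comm, mul_left_comm]

theorem exists_fixed_order_p8 [Finite H] (p : ℕ) [hp : Fact p.Prime] (hdvd : p ∣ Nat.card H)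
    (β : MulAut H) (hβ : β ^ p = 1) : ∃ y : H, orderOf y = p ∧ β y = y := by
  obtain ⟨F, hF⟩ : ∃ F : Subgroup H, ∀ x : H, x ∈ F ↔ β x = x :=
    ⟨MonoidHom.eqLocus β.toMonoidHom (MonoidHom.id H), fun x => Iff.rfl⟩
  have hP : IsPGroup p (Subgroup.zpowers β) :=
    zpowers_isPGroup8 p 1 β (by rw [pow_one]; exact hβ)
  have h1 := hP.card_modEq_card_fixedPoints H
  have hset : MulAction.fixedPoints (Subgroup.zpowers β) H = (F : Set H) := by
    ext x
    rw [MulAction.mem_fixedPoints, SetLike.mem_coe, hF]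
    constructor
    · intro h
      exact h ⟨β, Subgroup.mem_zpowers β⟩
    · rintro h ⟨g, hg⟩
      obtain ⟨j, rfl⟩ := Subgroup.mem_zpowers_iff.mp hg
      have hs : β ∈ MulAction.stabilizer (MulAut H) x := MulAction.mem_stabilizer_iff.mpr h
      exact MulAction.mem_stabilizer_iff.mp (Subgroup.zpow_mem _ hs j)
  rw [hset] at h1
  have h2 : p ∣ Nat.card F := by
    have h3 : Nat.card H % p = Nat.card F % p := h1
    have h4 : Nat.card H % p = 0 := Nat.mod_eq_zero_of_dvd hdvd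
    exact Nat.dvd_of_mod_eq_zero (by rw [← h3, h4])
  obtain ⟨y, hy⟩ := exists_prime_orderOf_dvd_card' p h2
  exact ⟨(y : H), by rw [Subgroup.orderOf_coe]; exact hy, (hF _).mp y.2⟩

theorem dd_Om1_8 [Finite H] (p : ℕ) [hp : Fact p.Prime]
    (hOm : Nat.card (Om8 (H := H) p 1) = p ^ 2)
    (β : MulAut H) (hβ : β ^ p = 1) :
    ∀ y : H, y ^ p = 1 → β (y⁻¹ * β y) = y⁻¹ * β y := by
  have hdvd : p ∣ Nat.card H := by
    have h1 : Nat.card (Om8 (H := H) p 1) ∣ Nat.card H := Subgroup.card_subgroup_dvd_card _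
    rw [hOm] at h1
    exact (dvd_pow_self p two_ne_zero).trans h1
  obtain ⟨y₀, hy₀, hfix⟩ := exists_fixed_order_p8 p hdvd β hβ
  have hy₀p : y₀ ^ p = 1 := by rw [← hy₀]; exact pow_orderOf_eq_one y₀
  have hfixZ : ∀ u ∈ Subgroup.zpowers y₀, β u = u := by
    intro u hu
    obtain ⟨j, rfl⟩ := Subgroup.mem_zpowers_iff.mp hu
    rw [map_zpow, hfix]
  have hstep := stab_step8 p (Subgroup.zpowers y₀) (Om8 (H := H) p 1)
    (Subgroup.zpowers_le.mpr ((mem_Om8 p 1 y₀).mpr (by rw [pow_one]; exact hy₀p)))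
    (fun c _ n hn => by rw [mul_inv_cancel_comm]; exact hn)
    (by rw [hOm, Nat.card_zpowers, hy₀]; ring)
    β (Om_char8 p 1 β) (fun u hu => by rw [hfixZ u hu]; exact hu) 1 (by rw [pow_one]; exact hβ)
  intro y hy
  exact hfixZ _ (hstep y ((mem_Om8 p 1 y).mpr (by rw [pow_one]; exact hy)))

theorem fix_Om1_of_homocyclic8 [Finite H] (p : ℕ) [hp : Fact p.Prime] (hp5 : 5 ≤ p)
    (hOm : Nat.card (Om8 (H := H) p 1) = p ^ 2) (k' : ℕ) (hk' : 1 ≤ k')
    (hMO : Mh8 (H := H) p k' = Om8 p 1)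
    (β : MulAut H) (hβ : β ^ p = 1) : ∀ y : H, y ^ p = 1 → β y = y := by
  have hp1 : p.Prime := hp.out
  obtain ⟨d, hd⟩ : ∃ d : H → H, ∀ x, d x = x⁻¹ * β x := ⟨fun x => x⁻¹ * β x, fun x => rfl⟩
  have hβd : ∀ x : H, β x = x * d x := fun x => by rw [hd, mul_inv_cancel_left]
  have hdpow : ∀ (x : H) (n : ℕ), d (x ^ n) = (d x) ^ n := fun x n => by
    rw [hd, hd, mul_pow, inv_pow, map_pow]
  have hd1 : d 1 = 1 := by rw [hd, map_one, inv_one, one_mul]
  have hdd : ∀ y : H, y ^ p = 1 → d (d y) = 1 := by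
    intro y hy
    have h := dd_Om1_8 p hOm β hβ y hy
    rw [hd (d y), hd y, h, inv_mul_cancel]
  have hdO : ∀ y : H, y ^ p = 1 → (d y) ^ p = 1 := fun y hy => by rw [← hdpow, hy, hd1]
  intro y hy
  obtain ⟨w, hw⟩ : ∃ w : H, w ^ (p ^ k') = y :=
    (mem_Mh8 p k' y).mp (by rw [hMO, mem_Om8, pow_one]; exact hy)
  obtain ⟨k'', rfl⟩ : ∃ k'', k' = k'' + 1 := ⟨k' - 1, by omega⟩
  obtain ⟨v, hv⟩ : ∃ v : H, v = w ^ (p ^ k'') := ⟨_, rfl⟩
  have hvp : v ^ p = y := by rw [hv, ← pow_mul, ← pow_succ]; exact hw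
  have h2 : (d (d v)) ^ p = 1 := by rw [← hdpow, ← hdpow, hvp]; exact hdd y hy
  have h4 : d (d (d (d v))) = 1 := hdd _ h2
  have h3 : (d (d (d v))) ^ p = 1 := hdO _ h2
  have hT := T4_8 β d hβd v h4 p
  rw [hβ, MulAut.one_apply] at hT
  obtain ⟨c2, hc2⟩ := hp1.dvd_choose_self (k := 2) (by norm_num) (by omega)
  obtain ⟨c3, hc3⟩ := hp1.dvd_choose_self (k := 3) (by norm_num) (by omega)
  rw [hc2, hc3, pow_mul, pow_mul, h2, h3, one_pow, one_pow, mul_one, mul_one] at hT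
  have h5 : (d v) ^ p = 1 := by
    have h6 : v * (d v) ^ p = v * 1 := by rw [mul_one]; exact hT.symm
    exact mul_left_cancel h6
  rw [hβd, ← hvp, hdpow, h5, mul_one]

theorem homocyclic_iso8 [Finite H] (p : ℕ) [hp : Fact p.Prime]
    (hOm : Nat.card (Om8 (H := H) p 1) = p ^ 2) (k' : ℕ)
    (hexp : ∀ x : H, x ^ (p ^ (k' + 1)) = 1) (hMO : Mh8 (H := H) p k' = Om8 p 1) :
    Nonempty (H ≃* Multiplicative (ZMod (p ^ (k' + 1)) × ZMod (p ^ (k' + 1)))) := by
  have hp1 : p.Prime := hp.out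
  have hpp : p < p ^ 2 := by nlinarith [hp1.one_lt]
  haveI hnt : Nontrivial (Om8 (H := H) p 1) := by
    rw [← Finite.one_lt_card_iff_nontrivial, hOm]
    nlinarith [hp1.one_lt]
  obtain ⟨⟨z₁, hz₁m⟩, hz₁ne⟩ := exists_ne (1 : Om8 (H := H) p 1)
  have hz₁p : z₁ ^ p = 1 := by
    have := (mem_Om8 p 1 z₁).mp hz₁m
    rwa [pow_one] at this
  have hz₁1 : z₁ ≠ 1 := fun h => hz₁ne (Subtype.ext h)
  have ho₁ : orderOf z₁ = p := orderOf_eq_prime hz₁p hz₁1
  have hZ₁le : Subgroup.zpowers z₁ ≤ Om8 (H := H) p 1 := Subgroup.zpowers_le.mpr hz₁m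
  have hcZ₁ : Nat.card (Subgroup.zpowers z₁) = p := by rw [Nat.card_zpowers, ho₁]
  obtain ⟨z₂, hz₂m, hz₂n⟩ : ∃ z₂ ∈ Om8 (H := H) p 1, z₂ ∉ Subgroup.zpowers z₁ := by
    by_contra hcon
    push_neg at hcon
    have hle : Om8 (H := H) p 1 ≤ Subgroup.zpowers z₁ := fun x hx => hcon x hx
    have h := Subgroup.card_le_of_le hle
    rw [hOm, hcZ₁] at h
    omega
  have hz₂p : z₂ ^ p = 1 := by
    have := (mem_Om8 p 1 z₂).mp hz₂m
    rwa [pow_one] at this
  have hind : ∀ a b : ℕ, z₁ ^ a * z₂ ^ b = 1 → p ∣ a ∧ p ∣ b := by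
    intro a b hab
    have hb : p ∣ b := by
      by_contra hpb
      have hcop : IsCoprime (p : ℤ) (b : ℤ) :=
        (Prime.coprime_iff_not_dvd (Nat.prime_iff_prime_int.mp hp1)).mpr
          (fun h => hpb (Int.natCast_dvd_natCast.mp h))
      obtain ⟨u, v, huv⟩ := hcop
      apply hz₂n
      have e1 : z₂ ^ b = (z₁ ^ a)⁻¹ := eq_inv_of_mul_eq_one_right hab
      have e2 : z₂ = (z₂ ^ b) ^ v := by
        have h : z₂ ^ (u * (p : ℤ) + v * (b : ℤ)) = z₂ := by rw [huv, zpow_one]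
        rw [zpow_add, zpow_mul', zpow_natCast, hz₂p, one_zpow, one_mul, mul_comm v, zpow_mul,
          zpow_natCast] at h
        exact h.symm
      rw [e2, e1]
      exact Subgroup.zpow_mem _
        (Subgroup.inv_mem _ (Subgroup.pow_mem _ (Subgroup.mem_zpowers z₁) a)) v
    refine ⟨?_, hb⟩
    obtain ⟨c, rfl⟩ := hb
    rw [pow_mul, hz₂p, one_pow, mul_one] at hab
    rw [← ho₁]
    exact orderOf_dvd_of_pow_eq_one hab
  obtain ⟨w₁, hw₁⟩ : ∃ w : H, w ^ (p ^ k') = z₁ :=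
    (mem_Mh8 p k' z₁).mp (by rw [hMO]; exact hz₁m)
  obtain ⟨w₂, hw₂⟩ : ∃ w : H, w ^ (p ^ k') = z₂ :=
    (mem_Mh8 p k' z₂).mp (by rw [hMO]; exact hz₂m)
  have hindw : ∀ j : ℕ, j ≤ k' + 1 → ∀ a b : ℕ, w₁ ^ a * w₂ ^ b = 1 →
      p ^ j ∣ a ∧ p ^ j ∣ b := by
    intro j
    induction j with
    | zero => intro _ a b _; simp
    | succ j ih =>
      intro hj a b hab
      obtain ⟨⟨a', rfl⟩, ⟨b', rfl⟩⟩ := ih (by omega) a b hab
      have hjk : j ≤ k' := by omega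
      have e : p ^ j * p ^ (k' - j) = p ^ k' := by rw [← pow_add]; congr 1; omega
      have e1 : (w₁ ^ (p ^ j * a')) ^ (p ^ (k' - j)) = z₁ ^ a' := by
        rw [← hw₁, ← pow_mul, ← pow_mul]; congr 1; rw [mul_right_comm, e]
      have e2 : (w₂ ^ (p ^ j * b')) ^ (p ^ (k' - j)) = z₂ ^ b' := by
        rw [← hw₂, ← pow_mul, ← pow_mul]; congr 1; rw [mul_right_comm, e]
      have h2 : z₁ ^ a' * z₂ ^ b' = 1 := by rw [← e1, ← e2, ← mul_pow, hab, one_pow]
      obtain ⟨⟨a'', rfl⟩, ⟨b'', rfl⟩⟩ := hind a' b' h2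
      exact ⟨⟨a'', by rw [pow_succ, mul_assoc]⟩, ⟨b'', by rw [pow_succ, mul_assoc]⟩⟩
  haveI : NeZero (p ^ (k' + 1)) := ⟨pow_ne_zero _ hp1.ne_zero⟩
  have hw₁n : w₁ ^ (p ^ (k' + 1)) = 1 := hexp w₁
  have hw₂n : w₂ ^ (p ^ (k' + 1)) = 1 := hexp w₂
  obtain ⟨f, hf⟩ : ∃ f : Multiplicative (ZMod (p ^ (k' + 1)) × ZMod (p ^ (k' + 1))) →* H,
      ∀ x, f x = w₁ ^ (Multiplicative.toAdd x).1.val * w₂ ^ (Multiplicative.toAdd x).2.val := by
    refine ⟨MonoidHom.mk' (fun x => w₁ ^ (Multiplicative.toAdd x).1.val *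
      w₂ ^ (Multiplicative.toAdd x).2.val) ?_, fun x => rfl⟩
    intro x y
    show w₁ ^ (Multiplicative.toAdd (x * y)).1.val * w₂ ^ (Multiplicative.toAdd (x * y)).2.val =
      (w₁ ^ (Multiplicative.toAdd x).1.val * w₂ ^ (Multiplicative.toAdd x).2.val) *
      (w₁ ^ (Multiplicative.toAdd y).1.val * w₂ ^ (Multiplicative.toAdd y).2.val)
    rw [toAdd_mul, Prod.fst_add, Prod.snd_add, ZMod.val_add, ZMod.val_add,
      ← pow_eq_pow_mod _ hw₁n, ← pow_eq_pow_mod _ hw₂n, pow_add w₁, pow_add w₂, mul_mul_mul_comm]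
  have hinj : Function.Injective f := by
    rw [injective_iff_map_eq_one]
    intro x hx
    rw [hf] at hx
    obtain ⟨h1, h2⟩ := hindw (k' + 1) le_rfl _ _ hx
    have e1 : (Multiplicative.toAdd x).1.val = 0 := Nat.eq_zero_of_dvd_of_lt h1 (ZMod.val_lt _)
    have e2 : (Multiplicative.toAdd x).2.val = 0 := Nat.eq_zero_of_dvd_of_lt h2 (ZMod.val_lt _)
    have e3 : Multiplicative.toAdd x = 0 :=
      Prod.ext ((ZMod.val_eq_zero _).mp e1) ((ZMod.val_eq_zero _).mp e2)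
    exact toAdd_eq_zero.mp e3
  have hT : ∀ y : H, y ^ p = 1 → ∃ a b : ℤ, y = z₁ ^ a * z₂ ^ b := by
    have hTle : Subgroup.zpowers z₁ ⊔ Subgroup.zpowers z₂ ≤ Om8 (H := H) p 1 :=
      sup_le hZ₁le (Subgroup.zpowers_le.mpr hz₂m)
    have hTeq : Subgroup.zpowers z₁ ⊔ Subgroup.zpowers z₂ = Om8 (H := H) p 1 := by
      apply Subgroup.eq_of_le_of_card_ge hTle
      have hdvd : Nat.card ↥(Subgroup.zpowers z₁ ⊔ Subgroup.zpowers z₂) ∣ p ^ 2 := by
        rw [← hOm]; exact Subgroup.card_dvd_of_le hTle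
      obtain ⟨m, hm, hcm⟩ := (Nat.dvd_prime_pow hp1).mp hdvd
      rw [hOm, hcm]
      rcases Nat.lt_or_ge m 2 with h | h
      · exfalso
        have hc : Nat.card ↥(Subgroup.zpowers z₁ ⊔ Subgroup.zpowers z₂) ≤ p := by
          rw [hcm]
          calc p ^ m ≤ p ^ 1 := Nat.pow_le_pow_right hp1.pos (by omega)
            _ = p := pow_one p
        have heq := Subgroup.eq_of_le_of_card_ge
          (le_sup_left : Subgroup.zpowers z₁ ≤ Subgroup.zpowers z₁ ⊔ Subgroup.zpowers z₂)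
          (by rw [hcZ₁]; exact hc)
        apply hz₂n
        rw [heq]
        exact (le_sup_right : Subgroup.zpowers z₂ ≤ Subgroup.zpowers z₁ ⊔ Subgroup.zpowers z₂)
          (Subgroup.mem_zpowers z₂)
      · exact Nat.pow_le_pow_right hp1.pos h
    intro y hy
    have hyT : y ∈ Subgroup.zpowers z₁ ⊔ Subgroup.zpowers z₂ := by
      rw [hTeq, mem_Om8, pow_one]; exact hy
    obtain ⟨u, hu, v, hv, huv⟩ := Subgroup.mem_sup.mp hyT
    obtain ⟨a, rfl⟩ := Subgroup.mem_zpowers_iff.mp hu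
    obtain ⟨b, rfl⟩ := Subgroup.mem_zpowers_iff.mp hv
    exact ⟨a, b, huv.symm⟩
  have hw₁R : w₁ ∈ f.range := by
    refine ⟨Multiplicative.ofAdd (1, 0), ?_⟩
    rw [hf]
    show w₁ ^ (1 : ZMod (p ^ (k' + 1))).val * w₂ ^ (0 : ZMod (p ^ (k' + 1))).val = w₁
    rw [ZMod.val_one_eq_one_mod, ← pow_eq_pow_mod _ hw₁n, ZMod.val_zero, pow_one, pow_zero,
      mul_one]
  have hw₂R : w₂ ∈ f.range := by
    refine ⟨Multiplicative.ofAdd (0, 1), ?_⟩
    rw [hf]
    show w₁ ^ (0 : ZMod (p ^ (k' + 1))).val * w₂ ^ (1 : ZMod (p ^ (k' + 1))).val = w₂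
    rw [ZMod.val_one_eq_one_mod, ← pow_eq_pow_mod _ hw₂n, ZMod.val_zero, pow_one, pow_zero,
      one_mul]
  have hR : ∀ j : ℕ, j ≤ k' + 1 → ∀ x : H, x ^ (p ^ j) = 1 → x ∈ f.range := by
    intro j
    induction j with
    | zero =>
      intro _ x hx
      rw [pow_zero, pow_one] at hx
      rw [hx]; exact f.range.one_mem
    | succ j ih =>
      intro hj x hx
      have hjk : j ≤ k' := by omega
      have hy : (x ^ (p ^ j)) ^ p = 1 := by rw [← pow_mul, ← pow_succ]; exact hx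
      obtain ⟨a, b, hab⟩ := hT _ hy
      obtain ⟨g, hgdef⟩ : ∃ g : H, g = (w₁ ^ a * w₂ ^ b) ^ (p ^ (k' - j)) := ⟨_, rfl⟩
      have hgR : g ∈ f.range := by
        rw [hgdef]
        exact Subgroup.pow_mem _ (Subgroup.mul_mem _ (Subgroup.zpow_mem _ hw₁R a)
          (Subgroup.zpow_mem _ hw₂R b)) _
      have hg : g ^ (p ^ j) = x ^ (p ^ j) := by
        rw [hab, hgdef, ← pow_mul, ← pow_add, show k' - j + j = k' by omega, mul_pow,
          zpow_pow_comm8, zpow_pow_comm8, hw₁, hw₂]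
      have hxg : (x * g⁻¹) ^ (p ^ j) = 1 := by
        rw [mul_pow, inv_pow, hg, mul_inv_cancel]
      have h3 := ih (by omega) _ hxg
      have h4 := Subgroup.mul_mem _ h3 hgR
      rwa [inv_mul_cancel_right] at h4
  have hsurj : Function.Surjective f := by
    intro x
    exact MonoidHom.mem_range.mp (hR (k' + 1) le_rfl x (hexp x))
  exact ⟨(MulEquiv.ofBijective f ⟨hinj, hsurj⟩).symm⟩

theorem abel_rank2_cases8 [Finite H] (p : ℕ) [hp : Fact p.Prime] (N : ℕ)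
    (hN : Nat.card H = p ^ N) (hrk : (frattini H).index ≤ p ^ 2) :
    (∃ K : Subgroup (MulAut H), K.Normal ∧ IsPGroup p K ∧ ∀ β : MulAut H, β ^ p = 1 → β ∈ K) ∨
    ((∀ x : H, x ^ p = 1) ∧ Nat.card H = p ^ 2) ∨
    (p ≤ 3 ∧ ∃ k : ℕ, Nonempty (H ≃* Multiplicative (ZMod (p ^ k) × ZMod (p ^ k)))) := by
  have hp1 : p.Prime := hp.out
  have hOmle := card_Om1_le8 p hrk
  have hOmdvd : Nat.card (Om8 (H := H) p 1) ∣ p ^ N := by
    rw [← hN]; exact Subgroup.card_subgroup_dvd_card _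
  obtain ⟨m, hmN, hcm⟩ := (Nat.dvd_prime_pow hp1).mp hOmdvd
  have hm2 : m ≤ 2 := by
    by_contra h
    have h1 : p ^ 2 < p ^ m := Nat.pow_lt_pow_right hp1.one_lt (by omega)
    rw [hcm] at hOmle
    omega
  have hbotchar : ∀ α : MulAut H, ∀ y ∈ (⊥ : Subgroup H), α y ∈ (⊥ : Subgroup H) := by
    intro α y hy; rw [Subgroup.mem_bot] at hy ⊢; rw [hy, map_one]
  have hbot1 : ∀ z ∈ (⊥ : Subgroup H), z ^ p = 1 := by
    intro z hz; rw [Subgroup.mem_bot] at hz; rw [hz, one_pow]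
  have hOmchar : ∀ α : MulAut H, ∀ y ∈ Om8 (H := H) p 1, α y ∈ Om8 (H := H) p 1 :=
    Om_char8 p 1
  interval_cases m
  · left
    obtain ⟨U, hUn, hUp, hU⟩ := stabU8 p N hN ⊥ hbotchar hbot1
    refine ⟨U, hUn, hUp, fun β _ => hU β (fun z hz => ?_) (fun y hy => ?_)⟩
    · rw [Subgroup.mem_bot] at hz; rw [hz, map_one]
    · have hy1 : y = 1 := by
        have hyO : y ∈ Om8 (H := H) p 1 := (mem_Om8 p 1 y).mpr (by rw [pow_one]; exact hy)
        have hb : Om8 (H := H) p 1 = ⊥ :=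
          (Subgroup.eq_bot_iff_card _).mpr (by rw [hcm, pow_zero])
        rw [hb, Subgroup.mem_bot] at hyO
        exact hyO
      rw [hy1, map_one, inv_one, one_mul]; exact Subgroup.one_mem _
  · left
    obtain ⟨U, hUn, hUp, hU⟩ := stabU8 p N hN ⊥ hbotchar hbot1
    refine ⟨U, hUn, hUp, fun β hβ => hU β (fun z hz => ?_) (fun y hy => ?_)⟩
    · rw [Subgroup.mem_bot] at hz; rw [hz, map_one]
    · exact stab_step8 p ⊥ (Om8 (H := H) p 1) bot_le (fun c _ n hn => by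
          rw [Subgroup.mem_bot] at hn ⊢; rw [hn]; group)
        (by rw [Subgroup.card_bot, mul_one, hcm, pow_one])
        β (hOmchar β) (hbotchar β) 1 (by rw [pow_one]; exact hβ) y
        ((mem_Om8 p 1 y).mpr (by rw [pow_one]; exact hy))
  · have hOm : Nat.card (Om8 (H := H) p 1) = p ^ 2 := hcm
    classical
    have hex : ∃ k : ℕ, ∀ x : H, x ^ (p ^ k) = 1 :=
      ⟨N, fun x => by rw [← hN]; exact pow_card_eq_one'⟩
    obtain ⟨k, hk, hkmin⟩ : ∃ k : ℕ, (∀ x : H, x ^ (p ^ k) = 1) ∧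
        ∀ j < k, ¬ ∀ x : H, x ^ (p ^ j) = 1 :=
      ⟨Nat.find hex, Nat.find_spec hex, fun j hj => Nat.find_min hex hj⟩
    rcases Nat.eq_zero_or_pos k with hk0 | hkpos
    · exfalso
      subst hk0
      have h1 : ∀ x : H, x = 1 := fun x => by simpa using hk x
      have hc1 : Nat.card (Om8 (H := H) p 1) = 1 :=
        (Subgroup.eq_bot_iff_card _).mp ((Subgroup.eq_bot_iff_forall _).mpr fun x _ => h1 x)
      rw [hOm] at hc1
      nlinarith [hp1.one_lt]
    obtain ⟨k', rfl⟩ : ∃ k', k = k' + 1 := ⟨k - 1, by omega⟩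
    rcases Nat.eq_zero_or_pos k' with hk'0 | hk'pos
    · right; left
      subst hk'0
      have hall : ∀ x : H, x ^ p = 1 := fun x => by simpa using hk x
      refine ⟨hall, ?_⟩
      have htop : Om8 (H := H) p 1 = ⊤ := by
        rw [Subgroup.eq_top_iff']; intro x; rw [mem_Om8, pow_one]; exact hall x
      rw [← hOm, htop, Subgroup.card_top]
    · have hAle : Mh8 (H := H) p k' ≤ Om8 p 1 := by
        intro x hx
        obtain ⟨w, rfl⟩ := (mem_Mh8 p k' x).mp hx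
        rw [mem_Om8, pow_one, ← pow_mul, ← pow_succ]
        exact hk w
      have hAne : Mh8 (H := H) p k' ≠ ⊥ := by
        intro h
        apply hkmin k' (Nat.lt_succ_self k')
        intro x
        have h1 : x ^ (p ^ k') ∈ Mh8 (H := H) p k' := (mem_Mh8 p k' _).mpr ⟨x, rfl⟩
        rw [h, Subgroup.mem_bot] at h1
        exact h1
      have hAchar : ∀ α : MulAut H, ∀ y ∈ Mh8 (H := H) p k', α y ∈ Mh8 (H := H) p k' :=
        Mh_char8 p k'
      have hA1 : ∀ z ∈ Mh8 (H := H) p k', z ^ p = 1 := fun z hz => by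
        have h1 := hAle hz
        rwa [mem_Om8, pow_one] at h1
      have hAdvd : Nat.card (Mh8 (H := H) p k') ∣ p ^ 2 := by
        rw [← hOm]; exact Subgroup.card_dvd_of_le hAle
      obtain ⟨a, ha2, hca⟩ := (Nat.dvd_prime_pow hp1).mp hAdvd
      interval_cases a
      · exact absurd ((Subgroup.eq_bot_iff_card _).mpr (by rw [hca, pow_zero])) hAne
      · left
        obtain ⟨U, hUn, hUp, hU⟩ := stabU8 p N hN (Mh8 (H := H) p k') hAchar hA1
        refine ⟨U, hUn, hUp, fun β hβ => hU β (fun z hz => ?_) (fun y hy => ?_)⟩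
        · have h := stab_step8 p ⊥ (Mh8 (H := H) p k') bot_le (fun c _ n hn => by
              rw [Subgroup.mem_bot] at hn ⊢; rw [hn]; group)
            (by rw [Subgroup.card_bot, mul_one, hca, pow_one])
            β (hAchar β) (hbotchar β) 1 (by rw [pow_one]; exact hβ) z hz
          rw [Subgroup.mem_bot] at h
          exact (inv_mul_eq_one.mp h).symm
        · exact stab_step8 p (Mh8 (H := H) p k') (Om8 (H := H) p 1) hAle (fun c _ n hn => by
              rw [mul_inv_cancel_comm]; exact hn) (by rw [hca, hOm, pow_one]; ring)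
            β (hOmchar β) (hAchar β) 1 (by rw [pow_one]; exact hβ) y
            ((mem_Om8 p 1 y).mpr (by rw [pow_one]; exact hy))
      · have hMO : Mh8 (H := H) p k' = Om8 p 1 :=
          Subgroup.eq_of_le_of_card_ge hAle (by rw [hca, hOm])
        by_cases hp3 : p ≤ 3
        · right; right
          exact ⟨hp3, k' + 1, homocyclic_iso8 p hOm k' hk hMO⟩
        · left
          have hp5 : 5 ≤ p := by
            have h4 : p ≠ 4 := by
              intro h; rw [h] at hp1; exact absurd hp1 (by decide)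
            omega
          obtain ⟨U, hUn, hUp, hU⟩ := stabU8 p N hN ⊥ hbotchar hbot1
          refine ⟨U, hUn, hUp, fun β hβ => hU β (fun z hz => ?_) (fun y hy => ?_)⟩
          · rw [Subgroup.mem_bot] at hz; rw [hz, map_one]
          · rw [fix_Om1_of_homocyclic8 p hp5 hOm k' hk'pos hMO β hβ y hy, inv_mul_cancel]
            exact Subgroup.one_mem _

end ab2

theorem abel_rank2_cases8' {H : Type*} [Group H] [Finite H] (hc : ∀ a b : H, a * b = b * a)
    (p : ℕ) [hp : Fact p.Prime] (N : ℕ) (hN : Nat.card H = p ^ N)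
    (hrk : (frattini H).index ≤ p ^ 2) :
    (∃ K : Subgroup (MulAut H), K.Normal ∧ IsPGroup p K ∧ ∀ β : MulAut H, β ^ p = 1 → β ∈ K) ∨
    ((∀ x : H, x ^ p = 1) ∧ Nat.card H = p ^ 2) ∨
    (p ≤ 3 ∧ ∃ k : ℕ, Nonempty (H ≃* Multiplicative (ZMod (p ^ k) × ZMod (p ^ k)))) := by
  letI : CommGroup H := { ‹Group H› with mul_comm := hc }
  exact abel_rank2_cases8 p N hN hrk

end Cfsg.Agent.Lib.Helper8
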