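import Mathlib
import Cfsg.Prelude.Def_FusionSystem
import Cfsg.Agent.Lib.Helper8.FusionMisc
import Cfsg.Agent.Lib.Helper8.FusionAut
import Cfsg.Agent.Lib.Helper8.Ab2a

set_option autoImplicit false

namespace Cfsg.Agent.Lib.Helper8

open Cfsg Cfsg.FusionSystem

/-- an abelian essential subgroup cannot have a normal `p`-subgroup of its automorphism
group containing all automorphisms of order dividing `p` -/
theorem essential_abelian_not8 {Ω : Type*} [Group Ω] {S : Subgroup Ω} [Finite S] (p : ℕ)
    [Fact p.Prime] (F : FusionSystem S) (H : Subgroup Ω) (hH : F.IsEssential p H)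
    (hab : ∀ a b : H, a * b = b * a)
    (U : Subgroup (MulAut H)) (hUn : U.Normal) (hUp : IsPGroup p U)
    (hU : ∀ β : MulAut H, β ^ p = 1 → β ∈ U) : False := by
  obtain ⟨hcen, -, hnorm, E, hE⟩ := hH
  have hHS : H ≤ S := hcen.1
  haveI : Finite (F.autGroup H) := finite_autGroup F hHS
  haveI := hnorm
  have hcore := pCore_eq_bot_of_stronglyPEmbedded p E hE
  have hdvd := hE.1
  obtain ⟨xb, hxb⟩ := exists_prime_orderOf_dvd_card' p hdvd
  obtain ⟨a, ha⟩ := QuotientGroup.mk_surjective xb
  have hap : a ^ p = 1 := by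
    have h1 : (QuotientGroup.mk (a ^ p) : F.autGroup H ⧸ (Inn H).subgroupOf (F.autGroup H)) = 1 := by
      rw [QuotientGroup.mk_pow, ha, ← hxb, pow_orderOf_eq_one]
    rw [QuotientGroup.eq_one_iff, Subgroup.mem_subgroupOf] at h1
    obtain ⟨h, hh⟩ := MonoidHom.mem_range.mp h1
    have hconj : MulAut.conj h = (1 : MulAut H) := by
      apply MulEquiv.ext
      intro x
      rw [MulAut.conj_apply, hab h x, mul_inv_cancel_right]
      rfl
    apply Subtype.ext
    rw [← hh, hconj]
    rfl
  have hbU : (a : MulAut H) ∈ U := by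
    apply hU
    have := congrArg Subtype.val hap
    rw [Subgroup.coe_pow] at this
    exact this
  have hNn : (U.subgroupOf (F.autGroup H)).Normal := hUn.subgroupOf _
  have hNp : IsPGroup p (U.subgroupOf (F.autGroup H)) :=
    hUp.comap_of_injective (F.autGroup H).subtype Subtype.val_injective
  have hmapn : ((U.subgroupOf (F.autGroup H)).map
      (QuotientGroup.mk' ((Inn H).subgroupOf (F.autGroup H)))).Normal :=
    hNn.map _ (QuotientGroup.mk'_surjective _)
  have hmapp : IsPGroup p ((U.subgroupOf (F.autGroup H)).map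
      (QuotientGroup.mk' ((Inn H).subgroupOf (F.autGroup H)))) := hNp.map _
  have hle := le_pCore8 hmapn hmapp
  rw [hcore] at hle
  have hmem : QuotientGroup.mk' ((Inn H).subgroupOf (F.autGroup H)) a ∈
      (U.subgroupOf (F.autGroup H)).map (QuotientGroup.mk' ((Inn H).subgroupOf (F.autGroup H))) :=
    Subgroup.mem_map_of_mem _ (Subgroup.mem_subgroupOf.mpr hbU)
  have h1 := hle hmem
  rw [Subgroup.mem_bot, QuotientGroup.mk'_apply, ha] at h1
  rw [h1, orderOf_one] at hxb
  exact (Fact.out : p.Prime).one_lt.ne hxb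

end Cfsg.Agent.Lib.Helper8
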