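import Mathlib
import Cfsg.Prelude.Def_FusionSystem
import Cfsg.Prelude.Def_TwoFusion
import Cfsg.Agent.Lib.Helper8.KNorm4
import Cfsg.Agent.Lib.Helper8.PInv1

set_option autoImplicit false

namespace Cfsg.Agent.Lib.Helper8

open Cfsg Cfsg.FusionSystem

variable {Ω : Type*} [Group Ω] {S : Subgroup Ω}

/-- values of a homomorphism on a join -/
theorem sup_map_mem8 {P Q : Subgroup Ω} (f : ↥(P ⊔ Q) →* Ω) (K : Subgroup Ω)
    (hP : ∀ x : P, f (Subgroup.inclusion le_sup_left x) ∈ K)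
    (hQ : ∀ x : Q, f (Subgroup.inclusion le_sup_right x) ∈ K) (z : ↥(P ⊔ Q)) : f z ∈ K := by
  have hz : z ∈ (P.subgroupOf (P ⊔ Q) ⊔ Q.subgroupOf (P ⊔ Q)) := by
    rw [codisjoint_iff.1 (Subgroup.codisjoint_subgroupOf_sup P Q)]
    exact Subgroup.mem_top z
  have hle : P.subgroupOf (P ⊔ Q) ⊔ Q.subgroupOf (P ⊔ Q) ≤ K.comap f := by
    apply sup_le
    · intro y hy
      have hy' : (y : Ω) ∈ P := Subgroup.mem_subgroupOf.1 hy
      exact hP ⟨(y : Ω), hy'⟩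
    · intro y hy
      have hy' : (y : Ω) ∈ Q := Subgroup.mem_subgroupOf.1 hy
      exact hQ ⟨(y : Ω), hy'⟩
  exact hle hz

/-- the full subsystem on a strongly closed factor is saturated -/
theorem factor_saturated8 (F : FusionSystem S) [Finite S] (p : ℕ) [Fact p.Prime]
    (hS : IsPGroup p S) (hF : F.IsSaturated p) (S₁ : Subgroup Ω) (h₁ : F.StronglyClosed S₁)
    (hdec : ∀ s ∈ S, ∃ s₁ ∈ S₁, ∃ c ∈ centralizerIn S S₁, s = s₁ * c)
    (R : FusionSystem S₁) (hR : ∀ P : Subgroup Ω, P ≤ S₁ → R.Hom P = F.Hom P) :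
    R.IsSaturated p := by
  obtain ⟨hn, hcr⟩ := (fs_saturated_iff F p hS).1 hF
  intro P hP
  obtain ⟨Q, hconj, hQn⟩ := exists_fullyNormalized_conj F (hP.trans h₁.1)
  obtain ⟨hQc, hQa⟩ := hn Q hQn
  have hQr := hcr Q hQc
  obtain ⟨φ, hφ, hφr⟩ := hconj
  have hQS₁ : Q ≤ S₁ := by
    rw [← hφr]
    rintro _ ⟨x, rfl⟩
    exact h₁.2 P hP φ hφ x
  have hφR : φ ∈ R.Hom P := by
    rw [hR P hP]
    exact hφ
  refine ⟨Q, ⟨φ, hφR, hφr⟩, ⟨hQS₁, ?_⟩, ⟨hQS₁, ?_⟩⟩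
  · have hA : R.autGroup Q = F.autGroup Q := by
      unfold FusionSystem.autGroup
      rw [hR Q hQS₁]
    have hI : autInducedBy S₁ Q = autInducedBy S Q := by
      apply le_antisymm
      · unfold autInducedBy
        apply Subgroup.closure_mono
        rintro α ⟨g, hg, h⟩
        exact ⟨g, h₁.1 hg, h⟩
      · unfold autInducedBy
        rw [Subgroup.closure_le]
        rintro α ⟨g, hg, h⟩
        apply Subgroup.subset_closure
        obtain ⟨s₁, hs₁, c, hc, rfl⟩ := hdec g hg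
        refine ⟨s₁, hs₁, fun x => ?_⟩
        rw [h x]
        have hcx : (x : Ω) * c = c * x := (mem_centralizerIn.1 hc).2 x (hQS₁ x.2)
        calc s₁ * c * (x : Ω) * (s₁ * c)⁻¹ = s₁ * (c * (x : Ω)) * c⁻¹ * s₁⁻¹ := by group
          _ = s₁ * ((x : Ω) * c) * c⁻¹ * s₁⁻¹ := by rw [hcx]
          _ = s₁ * (x : Ω) * s₁⁻¹ := by group
    rw [hA, hI]
    exact hQa.2
  · intro P' φ' hφ' hrange
    have hP' : P' ≤ S₁ := (R.le_of_mem hφ').1
    have hφ'F : φ' ∈ F.Hom P' := by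
      rw [← hR P' hP']
      exact hφ'
    obtain ⟨ψ, hψ, hag⟩ := hQr.2 P' φ' hφ'F hrange
    have hle : extender S₁ P' φ' ≤ extender S P' φ' := by
      unfold extender
      apply Subgroup.closure_mono
      rintro g ⟨h1, h2, h, hh, h3⟩
      exact ⟨h₁.1 h1, h2, h, h₁.1 hh, h3⟩
    have hle1 : extender S₁ P' φ' ≤ S₁ := by
      unfold extender
      rw [Subgroup.closure_le]
      rintro g ⟨h1, -⟩
      exact h1
    refine ⟨ψ.comp (Subgroup.inclusion hle), ?_, ?_⟩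
    · rw [hR _ hle1]
      exact fs_restrict_mem F hψ hle
    · intro x hxP hxN
      exact hag x hxP (hle hxN)

/-- the centralizer system as a fusion system -/
def cSys8 (F : FusionSystem S) (Q : Subgroup Ω) (hQ : Q ≤ S) :
    FusionSystem (centralizerIn S Q) where
  Hom P := F.centralizerHom Q P
  le_of_mem := fun h => ⟨h.2.1, h.2.2.1⟩
  injective_of_mem := fun h => F.injective_of_mem h.1
  conj_mem := by
    intro P g hP hg
    have hPS : P ≤ S := hP.trans (centralizerIn_le S Q)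
    have hgS : g ∈ S := centralizerIn_le S Q hg
    refine ⟨F.conj_mem hPS hgS, hP, fun x => ?_, conjHom (P ⊔ Q) g,
      F.conj_mem (sup_le hPS hQ) hgS, fun x => rfl, fun x => ?_⟩
    · rw [conjHom_apply]
      exact (centralizerIn S Q).mul_mem ((centralizerIn S Q).mul_mem hg (hP x.2))
        ((centralizerIn S Q).inv_mem hg)
    · have h : (x : Ω) * g = g * x := (mem_centralizerIn.1 hg).2 x x.2
      have e : g * (x : Ω) * g⁻¹ = x := by
        rw [← h]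
        group
      exact e
  comp_mem := by
    intro P P' φ ψ hφ hψ h
    obtain ⟨hφF, hφP, hφC, φ', hφ', hφ1, hφ2⟩ := hφ
    obtain ⟨hψF, hψP, hψC, ψ', hψ', hψ1, hψ2⟩ := hψ
    have hv : ∀ z : ↥(P ⊔ Q), φ' z ∈ P' ⊔ Q := by
      apply sup_map_mem8
      · intro x
        rw [hφ1]
        exact (le_sup_left : P' ≤ P' ⊔ Q) (h x)
      · intro x
        rw [hφ2]
        exact (le_sup_right : Q ≤ P' ⊔ Q) x.2
    refine ⟨F.comp_mem hφF hψF h, hφP, fun x => hψC _, ψ'.comp (φ'.codRestrict (P' ⊔ Q) hv),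
      F.comp_mem hφ' hψ' hv, fun x => ?_, fun x => ?_⟩
    · have e : (φ'.codRestrict (P' ⊔ Q) hv) (Subgroup.inclusion le_sup_left x) =
          Subgroup.inclusion le_sup_left (φ.codRestrict P' h x) := Subtype.ext (hφ1 x)
      exact (congrArg ψ' e).trans (hψ1 _)
    · have e : (φ'.codRestrict (P' ⊔ Q) hv) (Subgroup.inclusion le_sup_right x) =
          Subgroup.inclusion le_sup_right x := Subtype.ext (hφ2 x)
      exact (congrArg ψ' e).trans (hψ2 _)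
  inv_mem := by
    intro P φ hφ
    obtain ⟨hφF, hφP, hφC, φ', hφ', hφ1, hφ2⟩ := hφ
    obtain ⟨ι, hι, hιinv⟩ := F.inv_mem hφ'
    have hι' : ∀ (y : Ω) (hy : y ∈ φ'.range) (z : ↥(P ⊔ Q)), φ' z = y → ι ⟨y, hy⟩ = (z : Ω) := by
      intro y hy z hz
      subst hz
      exact hιinv z
    have hle : φ.range ⊔ Q ≤ φ'.range := by
      apply sup_le
      · rintro _ ⟨x, rfl⟩
        exact ⟨Subgroup.inclusion le_sup_left x, hφ1 x⟩
      · intro q hq
        exact ⟨Subgroup.inclusion le_sup_right ⟨q, hq⟩, hφ2 ⟨q, hq⟩⟩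
    have hψ' : ι.comp (Subgroup.inclusion hle) ∈ F.Hom (φ.range ⊔ Q) := fs_restrict_mem F hι hle
    have hle1 : φ.range ≤ φ.range ⊔ Q := le_sup_left
    have hψ : (ι.comp (Subgroup.inclusion hle)).comp (Subgroup.inclusion hle1) ∈ F.Hom φ.range :=
      fs_restrict_mem F hψ' hle1
    have hval : ∀ x : P, ι ⟨φ x, hle (hle1 ⟨x, rfl⟩)⟩ = (x : Ω) := by
      intro x
      exact hι' (φ x) _ (Subgroup.inclusion le_sup_left x) (hφ1 x)
    refine ⟨(ι.comp (Subgroup.inclusion hle)).comp (Subgroup.inclusion hle1),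
      ⟨hψ, ?_, ?_, ι.comp (Subgroup.inclusion hle), hψ', fun y => rfl, fun q => ?_⟩,
      fun x => hval x⟩
    · rintro _ ⟨x, rfl⟩
      exact hφC x
    · rintro ⟨_, x, rfl⟩
      have e : ((ι.comp (Subgroup.inclusion hle)).comp (Subgroup.inclusion hle1))
          ⟨φ x, ⟨x, rfl⟩⟩ = (x : Ω) := hval x
      rw [e]
      exact hφP x.2
    · exact hι' (q : Ω) _ (Subgroup.inclusion le_sup_right q) (hφ2 q)

theorem cSys_isCentralizerSystem8 (F : FusionSystem S) (Q : Subgroup Ω) (hQ : Q ≤ S) :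
    F.IsCentralizerSystem Q (cSys8 F Q hQ) := fun _ => rfl

/-- a map of the system is onto a strongly closed subgroup of its source -/
theorem sc_surj8 (F : FusionSystem S) [Finite S] {B A : Subgroup Ω} (hB : F.StronglyClosed B)
    (hBA : B ≤ A) {χ : A →* Ω} (hχ : χ ∈ F.Hom A) (b : Ω) (hb : b ∈ B) :
    ∃ (b' : Ω) (hb' : b' ∈ B), χ ⟨b', hBA hb'⟩ = b := by
  have h1 : χ.comp (Subgroup.inclusion hBA) ∈ F.Hom B := fs_restrict_mem F hχ hBA
  have hle : (χ.comp (Subgroup.inclusion hBA)).range ≤ B := by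
    rintro _ ⟨x, rfl⟩
    exact hB.2 B le_rfl _ h1 x
  have heq := fs_range_eq_of_le F h1 hle
  have hb2 : b ∈ (χ.comp (Subgroup.inclusion hBA)).range := by
    rw [heq]
    exact hb
  obtain ⟨x, hx⟩ := hb2
  exact ⟨x, x.2, hx⟩

/-- extension to `Q ⊔ S₂` when the target is receptive -/
theorem ext_rec8 (F : FusionSystem S) {S₂ Q : Subgroup Ω} (hS₂ : S₂ ≤ S)
    (hcent : ∀ a ∈ Q, ∀ b ∈ S₂, a * b = b * a) {ψ : Q →* Ω} (hψ : ψ ∈ F.Hom Q)
    (hrec : F.IsReceptive ψ.range) :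
    ∃ σ ∈ F.Hom (Q ⊔ S₂), ∀ x : Q, σ (Subgroup.inclusion le_sup_left x) = ψ x := by
  have hT : Q ⊔ S₂ ≤ extender S Q ψ := by
    apply sup_le (le_extender F hψ)
    intro b hb
    apply centralizerIn_le_extender S Q ψ
    rw [mem_centralizerIn]
    exact ⟨hS₂ hb, fun a ha => hcent a ha b hb⟩
  exact fs_receptive_extend F hrec hψ rfl le_sup_left hT

/-- every map on a subgroup of `S₁` extends to `Q ⊔ S₂` -/
theorem ext_factor8 (F : FusionSystem S) [Finite S] (p : ℕ) [Fact p.Prime] (hS : IsPGroup p S)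
    (hF : F.IsSaturated p) (S₁ S₂ : Subgroup Ω) (h₁ : F.StronglyClosed S₁)
    (h₂ : F.StronglyClosed S₂) (hcomm : ∀ a ∈ S₁, ∀ b ∈ S₂, a * b = b * a)
    {Q : Subgroup Ω} (hQ : Q ≤ S₁) {ψ : Q →* Ω} (hψ : ψ ∈ F.Hom Q) :
    ∃ σ ∈ F.Hom (Q ⊔ S₂), ∀ x : Q, σ (Subgroup.inclusion le_sup_left x) = ψ x := by
  obtain ⟨hn, hcr⟩ := (fs_saturated_iff F p hS).1 hF
  have hQ'S₁ : ψ.range ≤ S₁ := by
    rintro _ ⟨x, rfl⟩
    exact h₁.2 Q hQ ψ hψ x
  obtain ⟨Qs, ⟨ρ, hρ, hρr⟩, hQsn⟩ := exists_fullyNormalized_conj F (hQ'S₁.trans h₁.1)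
  have hrecQs : F.IsReceptive Qs := hcr Qs (hn Qs hQsn).1
  have hrecρ : F.IsReceptive ρ.range := by
    rw [hρr]
    exact hrecQs
  obtain ⟨ρ', hρ', hρ1⟩ := ext_rec8 F h₂.1 (fun a ha b hb => hcomm a (hQ'S₁ ha) b hb) hρ hrecρ
  have hval : ∀ x : Q, ψ x ∈ ψ.range := fun x => ⟨x, rfl⟩
  have hcomp : ρ.comp (ψ.codRestrict ψ.range hval) ∈ F.Hom Q := F.comp_mem hψ hρ hval
  have hcr' : (ρ.comp (ψ.codRestrict ψ.range hval)).range = Qs := by
    rw [← hρr]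
    ext y
    constructor
    · rintro ⟨x, rfl⟩
      exact ⟨_, rfl⟩
    · rintro ⟨⟨_, x, rfl⟩, rfl⟩
      exact ⟨x, rfl⟩
  have hrecc : F.IsReceptive (ρ.comp (ψ.codRestrict ψ.range hval)).range := by
    rw [hcr']
    exact hrecQs
  obtain ⟨τ, hτ, hτ1⟩ := ext_rec8 F h₂.1 (fun a ha b hb => hcomm a (hQ ha) b hb) hcomp hrecc
  have hτ1' : ∀ x : Q, τ (Subgroup.inclusion le_sup_left x) = ρ ⟨ψ x, hval x⟩ := fun x => hτ1 x
  have hτv : ∀ z : ↥(Q ⊔ S₂), τ z ∈ ρ'.range := by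
    apply sup_map_mem8
    · intro x
      rw [hτ1']
      exact ⟨Subgroup.inclusion le_sup_left ⟨ψ x, hval x⟩, hρ1 _⟩
    · intro x
      have hτy : τ (Subgroup.inclusion le_sup_right x) ∈ S₂ :=
        fs_sc_map_mem F h₂ hτ (Subgroup.inclusion le_sup_right x) x.2
      obtain ⟨b', hb', hb'e⟩ := sc_surj8 F h₂ (le_sup_right : S₂ ≤ ψ.range ⊔ S₂) hρ' _ hτy
      exact ⟨_, hb'e⟩
  obtain ⟨ι, hι, hιinv⟩ := F.inv_mem hρ'
  have hι' : ∀ (y : Ω) (hy : y ∈ ρ'.range) (z : ↥(ψ.range ⊔ S₂)), ρ' z = y →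
      ι ⟨y, hy⟩ = (z : Ω) := by
    intro y hy z hz
    subst hz
    exact hιinv z
  refine ⟨ι.comp (τ.codRestrict ρ'.range hτv), F.comp_mem hτ hι hτv, fun x => ?_⟩
  have e1 : ρ' (Subgroup.inclusion le_sup_left ⟨ψ x, hval x⟩) =
      τ (Subgroup.inclusion le_sup_left x) := by
    rw [hρ1, hτ1']
  exact hι' _ (hτv _) (Subgroup.inclusion le_sup_left ⟨ψ x, hval x⟩) e1

end Cfsg.Agent.Lib.Helper8
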