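import Mathlib
import Cfsg.Prelude.Def_FusionSystem
import Cfsg.Agent.Lib.Helper8.Prod1

set_option autoImplicit false

namespace Cfsg.Agent.Lib.Helper8

open Cfsg Cfsg.FusionSystem

variable {Ω : Type*} [Group Ω] {S : Subgroup Ω}

/-- a strongly closed subgroup is normalized by `S` -/
theorem sc_conj_mem8 (F : FusionSystem S) {T : Subgroup Ω} (hT : F.StronglyClosed T) {s t : Ω}
    (hs : s ∈ S) (ht : t ∈ T) : s * t * s⁻¹ ∈ T :=
  hT.2 T le_rfl (conjHom T s) (F.conj_mem hT.1 hs) ⟨t, ht⟩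

/-- automorphisms stabilizing the chain `1 ≤ P ∩ T ≤ P` -/
def chainStab8 (F : FusionSystem S) (T P : Subgroup Ω) : Subgroup (F.autGroup P) where
  carrier := {α | (∀ y : P, (y : Ω) ∈ T → (α : MulAut P) y = y) ∧
    ∀ y : P, (y : Ω)⁻¹ * (((α : MulAut P) y : P) : Ω) ∈ T}
  mul_mem' := by
    rintro α β ⟨hα1, hα2⟩ ⟨hβ1, hβ2⟩
    refine ⟨fun y hy => ?_, fun y => ?_⟩
    · have e : ((α * β : F.autGroup P) : MulAut P) y = (α : MulAut P) ((β : MulAut P) y) := rfl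
      rw [e, hβ1 y hy, hα1 y hy]
    · have e0 : ((((α * β : F.autGroup P) : MulAut P) y : P) : Ω) =
          (((α : MulAut P) ((β : MulAut P) y) : P) : Ω) := rfl
      have e : (y : Ω)⁻¹ * ((((α * β : F.autGroup P) : MulAut P) y : P) : Ω) =
          ((y : Ω)⁻¹ * (((β : MulAut P) y : P) : Ω)) *
            ((((β : MulAut P) y : P) : Ω)⁻¹ * (((α : MulAut P) ((β : MulAut P) y) : P) : Ω)) := by
        rw [e0]
        group
      rw [e]
      exact T.mul_mem (hβ2 y) (hα2 _)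
  one_mem' := by
    refine ⟨fun y _ => rfl, fun y => ?_⟩
    have e0 : ((((1 : F.autGroup P) : MulAut P) y : P) : Ω) = (y : Ω) := rfl
    have e : (y : Ω)⁻¹ * ((((1 : F.autGroup P) : MulAut P) y : P) : Ω) = 1 := by
      rw [e0]
      group
    rw [e]
    exact T.one_mem
  inv_mem' := by
    rintro α ⟨hα1, hα2⟩
    refine ⟨fun y hy => ?_, fun y => ?_⟩
    · have e : ((α⁻¹ : F.autGroup P) : MulAut P) y = (α : MulAut P)⁻¹ y := rfl
      rw [e]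
      have h := hα1 y hy
      have h2 : (α : MulAut P)⁻¹ ((α : MulAut P) y) = y := by
        rw [MulAut.inv_apply_self]
      rw [h] at h2
      exact h2
    · have h := hα2 ((α : MulAut P)⁻¹ y)
      rw [MulAut.apply_inv_self] at h
      have e0 : ((((α⁻¹ : F.autGroup P) : MulAut P) y : P) : Ω) =
          (((α : MulAut P)⁻¹ y : P) : Ω) := rfl
      have e : (y : Ω)⁻¹ * ((((α⁻¹ : F.autGroup P) : MulAut P) y : P) : Ω) =
          ((((α : MulAut P)⁻¹ y : P) : Ω)⁻¹ * (y : Ω))⁻¹ := by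
        rw [e0]
        group
      rw [e]
      exact T.inv_mem h

theorem chainStab_pow8 (F : FusionSystem S) (T P : Subgroup Ω) (α : F.autGroup P)
    (hα : α ∈ chainStab8 F T P) :
    ∀ (n : ℕ) (y : P), ((((α : MulAut P) ^ n) y : P) : Ω) =
      (y : Ω) * ((y : Ω)⁻¹ * (((α : MulAut P) y : P) : Ω)) ^ n := by
  obtain ⟨h1, h2⟩ := hα
  intro n
  induction n with
  | zero =>
    intro y
    rw [pow_zero, pow_zero, mul_one]
    rfl
  | succ n ih =>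
    intro y
    have e : (((α : MulAut P) ^ (n + 1)) y) = ((α : MulAut P) ^ n) ((α : MulAut P) y) := by
      rw [pow_succ, MulAut.mul_apply]
    rw [e, ih]
    have ht : ((y⁻¹ * (α : MulAut P) y : P) : Ω) ∈ T := h2 y
    have hfix : (α : MulAut P) (y⁻¹ * (α : MulAut P) y) = y⁻¹ * (α : MulAut P) y := h1 _ ht
    have e3 : (α : MulAut P) ((α : MulAut P) y) =
        (α : MulAut P) y * (y⁻¹ * (α : MulAut P) y) := by
      have e4 : (α : MulAut P) y = y * (y⁻¹ * (α : MulAut P) y) := by group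
      have e5 : (α : MulAut P) ((α : MulAut P) y) =
          (α : MulAut P) (y * (y⁻¹ * (α : MulAut P) y)) := congrArg (α : MulAut P) e4
      rw [e5, map_mul, hfix]
    have e2 : (((α : MulAut P) ((α : MulAut P) y) : P) : Ω) =
        (((α : MulAut P) y : P) : Ω) * ((y : Ω)⁻¹ * (((α : MulAut P) y : P) : Ω)) :=
      congrArg (fun z : P => (z : Ω)) e3
    have e6 : ((((α : MulAut P) y : P) : Ω))⁻¹ * ((((α : MulAut P) y : P) : Ω) *
        ((y : Ω)⁻¹ * (((α : MulAut P) y : P) : Ω))) =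
        (y : Ω)⁻¹ * (((α : MulAut P) y : P) : Ω) := by group
    have e7 : (y : Ω) * ((y : Ω)⁻¹ * (((α : MulAut P) y : P) : Ω)) =
        (((α : MulAut P) y : P) : Ω) := by group
    rw [e2, e6, pow_succ', ← mul_assoc, e7]

theorem chainStab_isPGroup8 (F : FusionSystem S) [Finite S] (p : ℕ) [Fact p.Prime]
    (hS : IsPGroup p S) (T P : Subgroup Ω) (hP : P ≤ S) : IsPGroup p (chainStab8 F T P) := by
  haveI : Finite P := finite_of_le_fs hP
  obtain ⟨k, hk⟩ := (hS.to_le hP).exists_card_eq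
  intro α
  refine ⟨k, ?_⟩
  have key : ((α : F.autGroup P) : MulAut P) ^ (p ^ k) = 1 := by
    apply MulEquiv.ext
    intro y
    apply Subtype.ext
    rw [chainStab_pow8 F T P (α : F.autGroup P) α.2 (p ^ k) y]
    have ht : (y⁻¹ * ((α : F.autGroup P) : MulAut P) y : P) ^ (p ^ k) = 1 := by
      rw [← hk]
      exact pow_card_eq_one'
    have ht2 : ((y : Ω)⁻¹ * ((((α : F.autGroup P) : MulAut P) y : P) : Ω)) ^ (p ^ k) = 1 :=
      congrArg (fun z : P => (z : Ω)) ht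
    rw [ht2, mul_one]
    rfl
  apply Subtype.ext
  apply Subtype.ext
  exact key

theorem chainStab_normal8 (F : FusionSystem S) (T P : Subgroup Ω) (hT : F.StronglyClosed T)
    (hP : P ≤ S) : (chainStab8 F T P).Normal := by
  constructor
  rintro α ⟨h1, h2⟩ β
  have hβmem : ∀ (γ : MulAut P), γ ∈ F.autGroup P → ∀ y : P, (y : Ω) ∈ T →
      ((γ y : P) : Ω) ∈ T := by
    intro γ hγ y hy
    have hγF : P.subtype.comp γ.toMonoidHom ∈ F.Hom P := (mem_autGroup_iff F hP γ).1 hγ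
    exact fs_sc_map_mem F hT hγF y hy
  have e : ∀ y : P, ((β * α * β⁻¹ : F.autGroup P) : MulAut P) y =
      (β : MulAut P) ((α : MulAut P) ((β : MulAut P)⁻¹ y)) := fun y => rfl
  refine ⟨fun y hy => ?_, fun y => ?_⟩
  · rw [e]
    have hz : ((((β : MulAut P)⁻¹ y : P)) : Ω) ∈ T :=
      hβmem _ ((F.autGroup P).inv_mem β.2) y hy
    rw [h1 _ hz, MulAut.apply_inv_self]
  · rw [e]
    have hz := h2 ((β : MulAut P)⁻¹ y)
    have e3 : (β : MulAut P) (((β : MulAut P)⁻¹ y)⁻¹ * (α : MulAut P) ((β : MulAut P)⁻¹ y)) =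
        y⁻¹ * (β : MulAut P) ((α : MulAut P) ((β : MulAut P)⁻¹ y)) := by
      rw [map_mul, map_inv, MulAut.apply_inv_self]
    have e2 : (y : Ω)⁻¹ * (((β : MulAut P) ((α : MulAut P) ((β : MulAut P)⁻¹ y)) : P) : Ω) =
        (((β : MulAut P) (((β : MulAut P)⁻¹ y)⁻¹ * (α : MulAut P) ((β : MulAut P)⁻¹ y)) : P) : Ω) :=
      (congrArg (fun z : P => (z : Ω)) e3).symm
    rw [e2]
    exact hβmem _ β.2 _ hz

theorem chainStab_le_pCore8 (F : FusionSystem S) [Finite S] (p : ℕ) [Fact p.Prime]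
    (hS : IsPGroup p S) (T P : Subgroup Ω) (hT : F.StronglyClosed T) (hP : P ≤ S) :
    chainStab8 F T P ≤ pCore p (F.autGroup P) :=
  le_sSup ⟨chainStab_normal8 F T P hT hP, chainStab_isPGroup8 F p hS T P hP⟩

/-- a centric subgroup whose intersection with a strongly closed subgroup `T` is not centric in a
subsystem over `T` is not radical -/
theorem centrad_main8 (F : FusionSystem S) [Finite S] (p : ℕ) [Fact p.Prime] (hS : IsPGroup p S)
    (hF : F.IsSaturated p) {T : Subgroup Ω} (E : FusionSystem T) (hEF : E.IsSubsystemOf F)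
    (hT : F.StronglyClosed T) (P : Subgroup Ω) (hP : F.IsCentric P)
    (hPT : ¬ E.IsCentric (P ⊓ T)) :
    (∃ φ ∈ F.Hom P, ∃ x ∈ S ⊓ Subgroup.normalizer (φ.range : Set Ω), x ∉ φ.range ∧
      ∃ α ∈ ((pCore p ↥(F.autGroup φ.range)).map (F.autGroup φ.range).subtype :
        Subgroup (MulAut ↥φ.range)),
        ∀ y : ↥φ.range, ((α y : ↥φ.range) : Ω) = x * (y : Ω) * x⁻¹) ∧ ¬ F.IsRadical p P := by
  have hTS := hT.1
  have hPS := hP.1
  obtain ⟨hn, hcr⟩ := (fs_saturated_iff F p hS).1 hF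
  have hP₀T : P ⊓ T ≤ T := inf_le_right
  have hP₀S : P ⊓ T ≤ S := inf_le_left.trans hPS
  have h1 : ∃ Q₀, E.IsConj (P ⊓ T) Q₀ ∧ ¬ centralizerIn T Q₀ ≤ Q₀ := by
    by_contra hcon
    apply hPT
    refine ⟨hP₀T, fun Q hQ => ?_⟩
    by_contra hle
    exact hcon ⟨Q, hQ, hle⟩
  obtain ⟨Q₀, ⟨ρ, hρ, hρr⟩, hQ₀⟩ := h1
  have hconj0 : F.IsConj (P ⊓ T) Q₀ := ⟨ρ, hEF _ hρ, hρr⟩
  obtain ⟨c₀, hc₀C, hc₀Q⟩ : ∃ c₀, c₀ ∈ centralizerIn T Q₀ ∧ c₀ ∉ Q₀ := by
    by_contra hcon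
    push_neg at hcon
    exact hQ₀ (fun c hc => hcon c hc)
  obtain ⟨Q₁, hconj1, hQ₁n⟩ := exists_fullyNormalized_conj F hP₀S
  obtain ⟨hQ₁c, hQ₁a⟩ := hn Q₁ hQ₁n
  have hQ₁r := hcr Q₁ hQ₁c
  have hconj01 : F.IsConj Q₀ Q₁ := fs_isConj_trans F (fs_isConj_symm F hconj0) hconj1
  have hQ₀S : Q₀ ≤ S := (fs_isConj_le F hconj0).2
  have hQ₁S : Q₁ ≤ S := (fs_isConj_le F hconj1).2
  obtain ⟨χ₀, hχ₀, -, hχ₀Q⟩ := fs_exists_normalizer_map F p hS Q₁ Q₀ hQ₁a hQ₁r hconj01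
  have hc₀T : c₀ ∈ T := (Subgroup.mem_inf.1 hc₀C).1
  have hc₀cent : c₀ ∈ Subgroup.centralizer (Q₀ : Set Ω) := (Subgroup.mem_inf.1 hc₀C).2
  have hc₀N : c₀ ∈ normalizerIn S Q₀ :=
    Subgroup.mem_inf.2 ⟨hTS hc₀T, Subgroup.centralizer_le_normalizer _ hc₀cent⟩
  obtain ⟨c₁, hc₁⟩ : ∃ c₁, c₁ = χ₀ ⟨c₀, hc₀N⟩ := ⟨_, rfl⟩
  have hc₁T : c₁ ∈ T := by
    rw [hc₁]
    exact fs_sc_map_mem F hT hχ₀ _ hc₀T
  have hQ₁mem : ∀ q ∈ Q₁, ∃ (q₀ : Ω) (hq₀ : q₀ ∈ Q₀),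
      χ₀ ⟨q₀, le_normalizerIn hQ₀S hq₀⟩ = q := by
    intro q hq
    have hq' : q ∈ (Q₀.subgroupOf (normalizerIn S Q₀)).map χ₀ := by
      rw [hχ₀Q]
      exact hq
    obtain ⟨z, hz, rfl⟩ := hq'
    exact ⟨(z : Ω), Subgroup.mem_subgroupOf.1 hz, rfl⟩
  have hc₁cent : ∀ q ∈ Q₁, q * c₁ = c₁ * q := by
    intro q hq
    obtain ⟨q₀, hq₀, rfl⟩ := hQ₁mem q hq
    have e : (⟨q₀, le_normalizerIn hQ₀S hq₀⟩ : ↥(normalizerIn S Q₀)) * ⟨c₀, hc₀N⟩ =
        ⟨c₀, hc₀N⟩ * ⟨q₀, le_normalizerIn hQ₀S hq₀⟩ :=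
      Subtype.ext (Subgroup.mem_centralizer_iff.1 hc₀cent q₀ hq₀)
    have e' := congrArg χ₀ e
    rw [map_mul, map_mul] at e'
    rw [hc₁]
    exact e'
  have hc₁Q : c₁ ∉ Q₁ := by
    intro h
    obtain ⟨q₀, hq₀, hq₀e⟩ := hQ₁mem c₁ h
    rw [hc₁] at hq₀e
    have h2 := F.injective_of_mem hχ₀ hq₀e
    apply hc₀Q
    have e : q₀ = c₀ := congrArg Subtype.val h2
    rw [← e]
    exact hq₀
  obtain ⟨χ, hχ, -, hχQ⟩ := fs_exists_normalizer_map F p hS Q₁ (P ⊓ T) hQ₁a hQ₁r hconj1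
  have hPN : P ≤ normalizerIn S (P ⊓ T) := by
    intro y hy
    refine Subgroup.mem_inf.2 ⟨hPS hy, ?_⟩
    haveI : Finite ↥(P ⊓ T) := finite_of_le_fs hP₀S
    apply mem_normalizer_of_conj_mem_finite
    intro z hz
    exact Subgroup.mem_inf.2 ⟨P.mul_mem (P.mul_mem hy (Subgroup.mem_inf.1 hz).1) (P.inv_mem hy),
      sc_conj_mem8 F hT (hPS hy) (Subgroup.mem_inf.1 hz).2⟩
  obtain ⟨φ, hφ, hφapp⟩ : ∃ φ ∈ F.Hom P, ∀ y : P, φ y = χ (Subgroup.inclusion hPN y) :=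
    ⟨_, fs_restrict_mem F hχ hPN, fun y => rfl⟩
  have hφT : ∀ y : P, (y : Ω) ∈ T → φ y ∈ T := fun y hy => fs_sc_map_mem F hT hφ y hy
  obtain ⟨ι, hι, hιinv⟩ := F.inv_mem hφ
  have hφT' : ∀ y : P, φ y ∈ T → (y : Ω) ∈ T := by
    intro y hy
    have h := fs_sc_map_mem F hT hι ⟨φ y, ⟨y, rfl⟩⟩ hy
    rw [hιinv y] at h
    exact h
  have hinf : φ.range ⊓ T = Q₁ := by
    ext z
    constructor
    · intro hz
      obtain ⟨y, rfl⟩ := (Subgroup.mem_inf.1 hz).1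
      have hyT := hφT' y (Subgroup.mem_inf.1 hz).2
      have h : φ y ∈ ((P ⊓ T).subgroupOf (normalizerIn S (P ⊓ T))).map χ :=
        ⟨Subgroup.inclusion hPN y, Subgroup.mem_subgroupOf.2 (Subgroup.mem_inf.2 ⟨y.2, hyT⟩),
          (hφapp y).symm⟩
      rw [hχQ] at h
      exact h
    · intro hz
      have hz' : z ∈ ((P ⊓ T).subgroupOf (normalizerIn S (P ⊓ T))).map χ := by
        rw [hχQ]
        exact hz
      obtain ⟨n, hn', rfl⟩ := hz'
      have hnPT : (n : Ω) ∈ P ⊓ T := Subgroup.mem_subgroupOf.1 hn'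
      have hnP := (Subgroup.mem_inf.1 hnPT).1
      have hnT := (Subgroup.mem_inf.1 hnPT).2
      exact Subgroup.mem_inf.2 ⟨⟨⟨(n : Ω), hnP⟩, hφapp ⟨(n : Ω), hnP⟩⟩,
        fs_sc_map_mem F hT hχ n hnT⟩
  have hc₁P : c₁ ∉ φ.range := by
    intro h
    apply hc₁Q
    rw [← hinf]
    exact Subgroup.mem_inf.2 ⟨h, hc₁T⟩
  obtain ⟨C, hC⟩ : ∃ C : Subgroup Ω, C = centralizerIn T Q₁ := ⟨_, rfl⟩
  have hCmem : ∀ c, c ∈ C ↔ c ∈ T ∧ ∀ q ∈ Q₁, q * c = c * q := by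
    intro c
    rw [hC, mem_centralizerIn]
  have hc₁C : c₁ ∈ C := (hCmem c₁).2 ⟨hc₁T, hc₁cent⟩
  have hCT : C ≤ T := fun c hc => ((hCmem c).1 hc).1
  have hPsS : φ.range ≤ S := fs_range_le F hφ
  have hconjQ₁ : ∀ y ∈ φ.range, ∀ q ∈ Q₁, y⁻¹ * q * y ∈ Q₁ := by
    intro y hy q hq
    rw [← hinf] at hq ⊢
    refine Subgroup.mem_inf.2 ⟨(φ.range).mul_mem ((φ.range).mul_mem ((φ.range).inv_mem hy)
      (Subgroup.mem_inf.1 hq).1) hy, ?_⟩
    have h := sc_conj_mem8 F hT (S.inv_mem (hPsS hy)) (Subgroup.mem_inf.1 hq).2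
    rw [inv_inv] at h
    exact h
  have hconjC : ∀ y ∈ φ.range, ∀ c ∈ C, y * c * y⁻¹ ∈ C := by
    intro y hy c hc
    obtain ⟨hcT, hcc⟩ := (hCmem c).1 hc
    refine (hCmem _).2 ⟨sc_conj_mem8 F hT (hPsS hy) hcT, fun q hq => ?_⟩
    have h3 := hcc _ (hconjQ₁ y hy q hq)
    calc q * (y * c * y⁻¹) = y * (y⁻¹ * q * y * c) * y⁻¹ := by group
      _ = y * (c * (y⁻¹ * q * y)) * y⁻¹ := by rw [h3]
      _ = y * c * y⁻¹ * q := by group
  haveI hfinC : Finite C := finite_of_le_fs (hCT.trans hTS)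
  have hPsN : φ.range ≤ Subgroup.normalizer (C : Set Ω) := by
    intro y hy
    apply mem_normalizer_of_conj_mem_finite
    intro c hc
    exact hconjC y hy c hc
  obtain ⟨M, hM⟩ : ∃ M : Subgroup Ω, M = φ.range ⊔ C := ⟨_, rfl⟩
  have hMS : M ≤ S := by
    rw [hM]
    exact sup_le hPsS (hCT.trans hTS)
  haveI hfinM : Finite M := finite_of_le_fs hMS
  have hPsM : φ.range ≤ M := by
    rw [hM]
    exact le_sup_left
  have hc₁M : c₁ ∈ M := by
    rw [hM]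
    exact (le_sup_right : C ≤ φ.range ⊔ C) hc₁C
  have hne : φ.range ≠ M := by
    intro h
    apply hc₁P
    rw [h]
    exact hc₁M
  have hlt := normalizerIn_card_lt (hS.to_le hMS) hPsM hne
  obtain ⟨x, hxN, hxP⟩ : ∃ x, x ∈ normalizerIn M φ.range ∧ x ∉ φ.range := by
    by_contra hcon
    push_neg at hcon
    have hle : normalizerIn M φ.range ≤ φ.range := fun x hx => hcon x hx
    haveI : Finite ↥φ.range := finite_of_le_fs hPsS
    exact absurd (Subgroup.card_le_of_le hle) (not_le.2 hlt)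
  have hxM : x ∈ φ.range ⊔ C := by
    rw [← hM]
    exact (Subgroup.mem_inf.1 hxN).1
  have hxNorm : x ∈ Subgroup.normalizer (φ.range : Set Ω) := (Subgroup.mem_inf.1 hxN).2
  obtain ⟨y, hy, c, hc, hxyc⟩ := exists_mul_of_mem_sup8 φ.range C hPsN hxM
  have hcN : c ∈ Subgroup.normalizer (φ.range : Set Ω) := by
    have e : c = y⁻¹ * x := by
      rw [hxyc]
      group
    rw [e]
    exact (Subgroup.normalizer (φ.range : Set Ω)).mul_mem
      ((Subgroup.normalizer (φ.range : Set Ω)).inv_mem (Subgroup.le_normalizer hy)) hxNorm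
  have hcP : c ∉ φ.range := by
    intro h
    apply hxP
    rw [hxyc]
    exact (φ.range).mul_mem hy h
  have hcT : c ∈ T := hCT hc
  have hcS : c ∈ S := hTS hcT
  have hccent : ∀ q ∈ Q₁, q * c = c * q := ((hCmem c).1 hc).2
  have hαF : (φ.range).normalizerMonoidHom ⟨c, hcN⟩ ∈ F.autGroup φ.range :=
    (mem_autGroup_iff F hPsS _).2 (fsIso_conj F hPsS ⟨c, hcN⟩ hcS)
  have hαst : (⟨(φ.range).normalizerMonoidHom ⟨c, hcN⟩, hαF⟩ : F.autGroup φ.range) ∈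
      chainStab8 F T φ.range := by
    refine ⟨fun z hz => ?_, fun z => ?_⟩
    · apply Subtype.ext
      have hzQ : (z : Ω) ∈ Q₁ := by
        rw [← hinf]
        exact Subgroup.mem_inf.2 ⟨z.2, hz⟩
      have h := hccent _ hzQ
      have e : c * (z : Ω) * c⁻¹ = z := by
        rw [← h]
        group
      exact e
    · have h1 : (z : Ω)⁻¹ * c * ((z : Ω)⁻¹)⁻¹ ∈ T :=
        sc_conj_mem8 F hT (S.inv_mem (hPsS z.2)) hcT
      have e : (z : Ω)⁻¹ * (c * (z : Ω) * c⁻¹) = ((z : Ω)⁻¹ * c * ((z : Ω)⁻¹)⁻¹) * c⁻¹ := by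
        group
      have h2 : (z : Ω)⁻¹ * (c * (z : Ω) * c⁻¹) ∈ T := by
        rw [e]
        exact T.mul_mem h1 (T.inv_mem hcT)
      exact h2
  have hαcore := chainStab_le_pCore8 F p hS T φ.range hT hPsS hαst
  refine ⟨⟨φ, hφ, c, Subgroup.mem_inf.2 ⟨hcS, hcN⟩, hcP,
    (φ.range).normalizerMonoidHom ⟨c, hcN⟩, ⟨_, hαcore, rfl⟩, fun z => rfl⟩, ?_⟩
  intro hrad
  obtain ⟨e, heF, he⟩ : ∃ e : P ≃* φ.range, FsIso F e ∧ ∀ y : P, ((e y : φ.range) : Ω) = φ y :=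
    ⟨fsEquiv φ (F.injective_of_mem hφ) rfl, fsIso_fsEquiv F hφ rfl, fun y => rfl⟩
  obtain ⟨α, hαF', hα1, hα2, hαapp⟩ : ∃ α : MulAut φ.range, α ∈ F.autGroup φ.range ∧
      (∀ z : φ.range, (z : Ω) ∈ T → α z = z) ∧
      (∀ z : φ.range, (z : Ω)⁻¹ * ((α z : φ.range) : Ω) ∈ T) ∧
      ∀ z : φ.range, ((α z : φ.range) : Ω) = c * z * c⁻¹ :=
    ⟨_, hαF, hαst.1, hαst.2, fun z => rfl⟩
  obtain ⟨γ, hγF, hγapp⟩ : ∃ γ : MulAut P, γ ∈ F.autGroup P ∧
      ∀ y, γ y = e.symm (α (e y)) :=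
    ⟨e.trans (α.trans e.symm), (mem_autGroup_iff F hPS _).2 (fsIso_trans F heF
      (fsIso_trans F ((mem_autGroup_iff F hPsS α).1 hαF') (fsIso_symm F heF))), fun y => rfl⟩
  have hγst : (⟨γ, hγF⟩ : F.autGroup P) ∈ chainStab8 F T P := by
    refine ⟨fun y hy => ?_, fun y => ?_⟩
    · have h3 : α (e y) = e y := hα1 (e y) (by
        rw [he]
        exact hφT y hy)
      have h4 : γ y = y := by
        rw [hγapp, h3, MulEquiv.symm_apply_apply]
      exact h4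
    · have e1 : e (y⁻¹ * γ y) = (e y)⁻¹ * α (e y) := by
        rw [map_mul, map_inv, hγapp, MulEquiv.apply_symm_apply]
      have e2 : φ (y⁻¹ * γ y) = ((e y : φ.range) : Ω)⁻¹ * ((α (e y) : φ.range) : Ω) :=
        (he _).symm.trans (congrArg (fun z : φ.range => (z : Ω)) e1)
      have h3 : φ (y⁻¹ * γ y) ∈ T := by
        rw [e2]
        exact hα2 (e y)
      exact hφT' _ h3
  have hγcore := chainStab_le_pCore8 F p hS T P hT hPS hγst
  have hγI : γ ∈ Cfsg.Inn P := by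
    rw [← hrad.2]
    exact ⟨_, hγcore, rfl⟩
  obtain ⟨r, hr⟩ := hγI
  have hrγ : ∀ y : P, γ y = r * y * r⁻¹ := fun y => (congrArg (fun a : MulAut P => a y) hr).symm
  have hcr' : ∀ z : φ.range, c * (z : Ω) * c⁻¹ =
      ((e r : φ.range) : Ω) * z * ((e r : φ.range) : Ω)⁻¹ := by
    intro z
    have h6 : e.symm (α z) = r * e.symm z * r⁻¹ := by
      have h7 : γ (e.symm z) = e.symm (α z) := by
        rw [hγapp, MulEquiv.apply_symm_apply]
      rw [← h7]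
      exact hrγ _
    have h8 := congrArg e h6
    rw [MulEquiv.apply_symm_apply, map_mul, map_mul, map_inv, MulEquiv.apply_symm_apply] at h8
    exact (hαapp z).symm.trans (congrArg (fun w : φ.range => (w : Ω)) h8)
  have hcent : ((e r : φ.range) : Ω)⁻¹ * c ∈ centralizerIn S φ.range := by
    rw [mem_centralizerIn]
    refine ⟨S.mul_mem (S.inv_mem (hPsS (e r).2)) hcS, fun z hz => ?_⟩
    have h9 : c * z * c⁻¹ = ((e r : φ.range) : Ω) * z * ((e r : φ.range) : Ω)⁻¹ := hcr' ⟨z, hz⟩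
    calc z * (((e r : φ.range) : Ω)⁻¹ * c)
        = ((e r : φ.range) : Ω)⁻¹ * (((e r : φ.range) : Ω) * z * ((e r : φ.range) : Ω)⁻¹) * c := by
          group
      _ = ((e r : φ.range) : Ω)⁻¹ * (c * z * c⁻¹) * c := by rw [h9]
      _ = ((e r : φ.range) : Ω)⁻¹ * c * z := by group
  have hPsc : F.IsCentric φ.range := fs_centric_conj F hP ⟨φ, hφ, rfl⟩
  have hin := hPsc.2 φ.range (fs_isConj_refl F hPsS) hcent
  apply hcP
  have e9 : c = ((e r : φ.range) : Ω) * (((e r : φ.range) : Ω)⁻¹ * c) := by group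
  rw [e9]
  exact (φ.range).mul_mem (e r).2 hin

end Cfsg.Agent.Lib.Helper8
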