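import Mathlib
import Cfsg.Prelude.Def_Characters
import Cfsg.Prelude.Def_Blocks
import Cfsg.Agent.Lib.Lead.CharMisc
import Cfsg.Agent.Lib.Lead.CharRing
import Cfsg.Agent.Lib.Lead.CharQuot
import Cfsg.Agent.Lib.Lead.CharCenter
import Cfsg.Agent.Lib.Helper8.CharQuotient

set_option autoImplicit false

namespace Cfsg.Agent.Lib.Helper8

open Cfsg.Agent.Lib.Lead

open scoped ComplexConjugate

variable {G : Type*} [Group G]

/-- a Sylow `p`-subgroup lies in every normal subgroup of index prime to `p` -/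
theorem sylow_le_of_normal_index [Finite G] (p : ℕ) [Fact p.Prime] (P : Sylow p G)
    (N : Subgroup G) [N.Normal] (hN : ¬ p ∣ N.index) : (P : Subgroup G) ≤ N := by
  intro x hx
  obtain ⟨k, hk⟩ := (IsPGroup.iff_orderOf.1 P.isPGroup') ⟨x, hx⟩
  have hk' : orderOf x = p ^ k := by
    rw [← hk]
    exact (Subgroup.orderOf_mk x hx).symm
  have h1 : orderOf (QuotientGroup.mk' N x) ∣ p ^ k := by
    rw [← hk']
    exact orderOf_map_dvd _ x
  have h2 : orderOf (QuotientGroup.mk' N x) ∣ N.index := by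
    rw [Subgroup.index_eq_card]
    exact orderOf_dvd_natCard _
  have hcop : Nat.Coprime (p ^ k) N.index :=
    Nat.Coprime.pow_left k ((Nat.Prime.coprime_iff_not_dvd (Fact.out)).2 hN)
  have h3 : orderOf (QuotientGroup.mk' N x) = 1 :=
    Nat.eq_one_of_dvd_coprimes hcop h1 h2
  rw [orderOf_eq_one_iff] at h3
  exact (QuotientGroup.eq_one_iff x).1 h3

/-- the codegree in terms of the kernel -/
theorem codegree_eq [Finite G] (χ : Cfsg.IrrCharacter G) (N : Subgroup G)
    (hcard : Nat.card {g : G // (χ : G → ℂ) g = (χ : G → ℂ) 1} = Nat.card N) :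
    (Nat.card G / (Nat.card {g : G // (χ : G → ℂ) g = (χ : G → ℂ) 1} *
      Cfsg.charDegree (χ : G → ℂ))) * Cfsg.charDegree (χ : G → ℂ) = N.index := by
  have h1 := codegree_mul χ
  rw [hcard] at h1 ⊢
  have hpos : 0 < Nat.card N := Nat.card_pos
  generalize Nat.card G / (Nat.card N * Cfsg.charDegree (χ : G → ℂ)) = c at h1 ⊢
  have h3 := Subgroup.card_mul_index N
  apply Nat.eq_of_mul_eq_mul_left hpos
  rw [h3, ← h1]
  ring

theorem prime_dvd_card_iff_dvd_codegree [Finite G] (p : ℕ) (hp : p.Prime) :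
    p ∣ Nat.card G ↔ ∃ χ : Cfsg.IrrCharacter G,
      p ∣ (Nat.card G / (Nat.card {g : G // (χ : G → ℂ) g = (χ : G → ℂ) 1} *
        Cfsg.charDegree (χ : G → ℂ))) := by
  classical
  have : Fintype G := Fintype.ofFinite G
  have : Fintype (Cfsg.IrrCharacter G) := Fintype.ofFinite (Cfsg.IrrCharacter G)
  have hpF : Fact p.Prime := ⟨hp⟩
  constructor
  · intro hpG
    by_contra hno
    have hno' : ∀ χ : Cfsg.IrrCharacter G,
        ¬ p ∣ (Nat.card G / (Nat.card {g : G // (χ : G → ℂ) g = (χ : G → ℂ) 1} *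
          Cfsg.charDegree (χ : G → ℂ))) := fun χ hχ => hno ⟨χ, hχ⟩
    let P : Sylow p G := default
    have hKn : (Subgroup.normalClosure ((P : Subgroup G) : Set G)).Normal :=
      Subgroup.normalClosure_normal
    have hPK : (P : Subgroup G) ≤ Subgroup.normalClosure ((P : Subgroup G) : Set G) :=
      Subgroup.le_normalClosure
    have hKidx : ¬ p ∣ (Subgroup.normalClosure ((P : Subgroup G) : Set G)).index := by
      intro h
      exact P.not_dvd_index (dvd_trans h (Subgroup.index_dvd_of_le hPK))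
    have hclaim1 : ∀ χ : Cfsg.IrrCharacter G, ¬ p ∣ Cfsg.charDegree (χ : G → ℂ) →
        ∀ x ∈ Subgroup.normalClosure ((P : Subgroup G) : Set G),
          (χ : G → ℂ) x = (χ : G → ℂ) 1 := by
      intro χ hd x hx
      obtain ⟨N, hN, hmem, hcard, hdvd⟩ := irr_ker_data χ
      have h1 := codegree_eq χ N hcard
      have hidx : ¬ p ∣ N.index := by
        rw [← h1]
        intro h
        rcases (Nat.Prime.dvd_mul hp).1 h with h2 | h2
        · exact hno' χ h2
        · exact hd h2
      have hPN : (P : Subgroup G) ≤ N := sylow_le_of_normal_index p P N hidx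
      have hKN : Subgroup.normalClosure ((P : Subgroup G) : Set G) ≤ N :=
        Subgroup.normalClosure_le_normal hPN
      exact (hmem x).1 (hKN hx)
    have hclaim2 : ∀ χ : Cfsg.IrrCharacter G,
        (∀ x ∈ Subgroup.normalClosure ((P : Subgroup G) : Set G),
          (χ : G → ℂ) x = (χ : G → ℂ) 1) → ¬ p ∣ Cfsg.charDegree (χ : G → ℂ) := by
      intro χ hχ hd
      obtain ⟨N, hN, hmem, hcard, hdvd⟩ := irr_ker_data χ
      have hKN : Subgroup.normalClosure ((P : Subgroup G) : Set G) ≤ N :=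
        fun x hx => (hmem x).2 (hχ x hx)
      exact hKidx (dvd_trans hd (dvd_trans hdvd (Subgroup.index_dvd_of_le hKN)))
    have hsum := sum_sq_degrees_nat (K := G) (fun χ => Cfsg.charDegree (χ : G → ℂ))
      (fun χ => (irr_charDegree χ).1)
    rw [← Finset.sum_filter_add_sum_filter_not Finset.univ
      (fun χ : Cfsg.IrrCharacter G => ∀ x ∈ Subgroup.normalClosure ((P : Subgroup G) : Set G),
        (χ : G → ℂ) x = (χ : G → ℂ) 1)] at hsum
    rw [sum_sq_deg_over_normal] at hsum
    have h2 : p ∣ ∑ χ ∈ Finset.univ.filter (fun χ : Cfsg.IrrCharacter G =>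
        ¬ ∀ x ∈ Subgroup.normalClosure ((P : Subgroup G) : Set G),
          (χ : G → ℂ) x = (χ : G → ℂ) 1), Cfsg.charDegree (χ : G → ℂ) ^ 2 := by
      apply Finset.dvd_sum
      intro χ hχ
      rw [Finset.mem_filter] at hχ
      have h3 : p ∣ Cfsg.charDegree (χ : G → ℂ) := by
        by_contra h4
        exact hχ.2 (hclaim1 χ h4)
      exact dvd_pow h3 (by norm_num)
    rw [← hsum] at hpG
    exact hKidx ((Nat.dvd_add_left h2).1 hpG)
  · rintro ⟨χ, hχ⟩
    rw [← codegree_mul χ]
    exact Dvd.dvd.mul_right hχ _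

end Cfsg.Agent.Lib.Helper8
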