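import Mathlib
import Cfsg.Prelude.Def_Characters
import Cfsg.Prelude.Def_Blocks
import Cfsg.Agent.Lib.Lead.CharMisc
import Cfsg.Agent.Lib.Lead.CharRing
import Cfsg.Agent.Lib.Lead.CharQuot
import Cfsg.Agent.Lib.Lead.CharCenter
import Cfsg.Agent.Lib.Lead.CharBurnside
import Cfsg.Agent.Lib.Helper8.CharQuotient
import Cfsg.Agent.Lib.Helper8.CharCodegree

set_option autoImplicit false

namespace Cfsg.Agent.Lib.Helper8

open Cfsg.Agent.Lib.Lead

open scoped ComplexConjugate

/-- an irreducible character that is constant equal to its degree is the principal character -/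
theorem irr_eq_one_of_const {G : Type*} [Group G] [Finite G] (χ : Cfsg.IrrCharacter G)
    (h : ∀ g : G, (χ : G → ℂ) g = (χ : G → ℂ) 1) : (χ : G → ℂ) = fun _ => 1 := by
  classical
  have : Fintype G := Fintype.ofFinite G
  have hne : (Nat.card G : ℂ) ≠ 0 := by exact_mod_cast Nat.card_pos.ne'
  obtain ⟨n, hn0, hn⟩ := irr_one χ.2
  have h1 := classInner_irr χ.2 (isIrrCharacter_one G)
  by_contra hcon
  rw [if_neg hcon] at h1
  unfold Cfsg.classInner at h1
  have h2 : ∑ g : G, (χ : G → ℂ) g * (starRingEnd ℂ) 1 = (Nat.card G : ℂ) * (n : ℂ) := by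
    rw [Finset.sum_congr rfl (fun g _ => by rw [h g, hn, map_one, mul_one]),
      Finset.sum_const, Finset.card_univ, nsmul_eq_mul, Nat.card_eq_fintype_card]
  rw [h2, ← mul_assoc, inv_mul_cancel₀ hne, one_mul] at h1
  exact hn0 (by exact_mod_cast h1)

/-- in a group of order divisible by `q` some non-principal irreducible character has degree
prime to `q` -/
theorem exists_nonprincipal_coprime_degree {G : Type*} [Group G] [Finite G] (q : ℕ)
    (hq : q.Prime) (hqG : q ∣ Nat.card G) :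
    ∃ χ : Cfsg.IrrCharacter G, (χ : G → ℂ) ≠ (fun _ => 1) ∧
      ¬ q ∣ Cfsg.charDegree (χ : G → ℂ) := by
  classical
  have : Fintype G := Fintype.ofFinite G
  have : Fintype (Cfsg.IrrCharacter G) := Fintype.ofFinite (Cfsg.IrrCharacter G)
  by_contra hcon
  have hall : ∀ χ : Cfsg.IrrCharacter G, (χ : G → ℂ) ≠ (fun _ => 1) →
      q ∣ Cfsg.charDegree (χ : G → ℂ) := by
    intro χ hχ
    by_contra h
    exact hcon ⟨χ, hχ, h⟩
  let χ₀ : Cfsg.IrrCharacter G := ⟨fun _ => 1, isIrrCharacter_one G⟩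
  have hsum := sum_sq_degrees_nat (K := G) (fun χ => Cfsg.charDegree (χ : G → ℂ))
    (fun χ => (irr_charDegree χ).1)
  rw [← Finset.add_sum_erase _ _ (Finset.mem_univ χ₀)] at hsum
  have h0 : Cfsg.charDegree (χ₀ : G → ℂ) = 1 := by
    apply charDegree_eq_of
    show (1 : ℂ) = ((1 : ℕ) : ℂ)
    norm_num
  have h2 : q ∣ ∑ χ ∈ Finset.univ.erase χ₀, Cfsg.charDegree (χ : G → ℂ) ^ 2 := by
    apply Finset.dvd_sum
    intro χ hχ
    have hne : χ ≠ χ₀ := Finset.ne_of_mem_erase hχ
    have hne' : (χ : G → ℂ) ≠ (fun _ => 1) := fun h => hne (Subtype.ext h)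
    exact dvd_pow (hall χ hne') (by norm_num)
  rw [h0, one_pow] at hsum
  rw [← hsum] at hqG
  have h3 : q ∣ 1 := (Nat.dvd_add_left h2).1 hqG
  exact hq.one_lt.ne' (Nat.dvd_one.1 h3)

theorem card_dvd_of_codegree_subset {S : Type*} [Group S] [Finite S] (hS : IsSimpleGroup S)
    {G : Type*} [Group G] [Finite G]
    (hsub : ∀ χ : Cfsg.IrrCharacter S, ∃ ψ : Cfsg.IrrCharacter G,
      (Nat.card S / (Nat.card {g : S // (χ : S → ℂ) g = (χ : S → ℂ) 1} *
        Cfsg.charDegree (χ : S → ℂ))) =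
      (Nat.card G / (Nat.card {g : G // (ψ : G → ℂ) g = (ψ : G → ℂ) 1} *
        Cfsg.charDegree (ψ : G → ℂ)))) : Nat.card S ∣ Nat.card G := by
  have hS0 : Nat.card S ≠ 0 := Nat.card_pos.ne'
  have hG0 : Nat.card G ≠ 0 := Nat.card_pos.ne'
  rw [← Nat.factorization_prime_le_iff_dvd hS0 hG0]
  intro q hq
  rw [← hq.pow_dvd_iff_le_factorization hG0]
  by_cases hqS : q ∣ Nat.card S
  · obtain ⟨χ, hχ1, hχq⟩ := exists_nonprincipal_coprime_degree q hq hqS
    obtain ⟨N, hN, hmem, hcard, hdvd⟩ := irr_ker_data χ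
    have hNbot : N = ⊥ := by
      rcases hS.eq_bot_or_eq_top_of_normal N hN with h | h
      · exact h
      · exfalso
        apply hχ1
        apply irr_eq_one_of_const χ
        intro g
        apply (hmem g).1
        rw [h]
        exact Subgroup.mem_top g
    have h1 := codegree_eq χ N hcard
    rw [hNbot, Subgroup.index_bot] at h1
    obtain ⟨ψ, hψ⟩ := hsub χ
    have h2 : q ^ (Nat.card S).factorization q ∣
        (Nat.card S / (Nat.card {g : S // (χ : S → ℂ) g = (χ : S → ℂ) 1} *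
          Cfsg.charDegree (χ : S → ℂ))) * Cfsg.charDegree (χ : S → ℂ) := by
      rw [h1]
      exact Nat.ordProj_dvd _ _
    have hcop : Nat.Coprime (q ^ (Nat.card S).factorization q) (Cfsg.charDegree (χ : S → ℂ)) :=
      Nat.Coprime.pow_left _ ((Nat.Prime.coprime_iff_not_dvd hq).2 hχq)
    have h3 := Nat.Coprime.dvd_of_dvd_mul_right hcop h2
    rw [hψ] at h3
    refine dvd_trans h3 ?_
    exact Dvd.intro _ (codegree_mul ψ)
  · rw [Nat.factorization_eq_zero_of_not_dvd hqS, pow_zero]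
    exact one_dvd _

end Cfsg.Agent.Lib.Helper8
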