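import Mathlib
import Cfsg.Prelude.Def_Characters
import Cfsg.Agent.Lib.Lead.CharMisc
import Cfsg.Agent.Lib.Lead.CharRing
import Cfsg.Agent.Lib.Lead.CharInd3
import Cfsg.Agent.Lib.Lead.CharCenter
import Cfsg.Agent.Lib.Lead.CharTaketa
import Cfsg.Agent.Lib.Helper8.CharQuotient

set_option autoImplicit false

namespace Cfsg.Agent.Lib.Helper8

open Cfsg.Agent.Lib.Lead

open scoped ComplexConjugate

/-- S4798: the codegree `#G / χ(1)` is a `p`-power iff `χ` is induced from a Sylow `p`-subgroup -/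
theorem codegree_ppow_iff {G : Type*} [Group G] [Fintype G] (p : ℕ) [hp : Fact p.Prime]
    (χ : Cfsg.IrrCharacter G) :
    (∃ k : ℕ, Nat.card G = p ^ k * Cfsg.charDegree (χ : G → ℂ)) ↔
      ∃ (P : Sylow p G) (θ : ↥(P : Subgroup G) → ℂ), Cfsg.IsCharacter ↥(P : Subgroup G) θ ∧
        (χ : G → ℂ) = Cfsg.indFun (P : Subgroup G) θ := by
  classical
  have : Fintype (Cfsg.IrrCharacter G) := Fintype.ofFinite _
  obtain ⟨hd1, hd0⟩ := irr_charDegree χ
  have hddvd : Cfsg.charDegree (χ : G → ℂ) ∣ Nat.card G := by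
    obtain ⟨N, -, -, -, hd⟩ := irr_ker_data χ
    exact hd.trans (Subgroup.index_dvd_card N)
  constructor
  · rintro ⟨k, hk⟩
    let P : Sylow p G := default
    have : Fintype (P : Subgroup G) := Fintype.ofFinite _
    have : Fintype (Cfsg.IrrCharacter (P : Subgroup G)) := Fintype.ofFinite _
    obtain ⟨a, ha⟩ := IsPGroup.iff_card.1 P.isPGroup'
    have hidx := Subgroup.index_mul_card (P : Subgroup G)
    rw [ha] at hidx
    have hpi : ¬ p ∣ (P : Subgroup G).index := P.not_dvd_index
    have hi0 : (P : Subgroup G).index ≠ 0 := Subgroup.index_ne_zero_of_finite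
    have hka : k ≤ a := by
      have h1 : p ^ k ∣ (P : Subgroup G).index * p ^ a := by
        rw [hidx, hk]
        exact dvd_mul_right _ _
      have h2 : p ^ k ∣ p ^ a :=
        (Nat.Coprime.pow_left k ((Nat.Prime.coprime_iff_not_dvd hp.out).2 hpi)).dvd_of_dvd_mul_left
          h1
      exact (Nat.pow_dvd_pow_iff_le_right hp.out.one_lt).1 h2
    obtain ⟨b, rfl⟩ : ∃ b, a = k + b := ⟨a - k, by omega⟩
    have hd : Cfsg.charDegree (χ : G → ℂ) = (P : Subgroup G).index * p ^ b := by
      have h1 : p ^ k * Cfsg.charDegree (χ : G → ℂ) =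
          p ^ k * ((P : Subgroup G).index * p ^ b) := by
        rw [← hk, ← hidx, pow_add]
        ring
      exact Nat.eq_of_mul_eq_mul_left (pow_pos hp.out.pos k) h1
    obtain ⟨n, hexp, hn⟩ := isCharacter_expansion
      (isCharacter_restrict (P : Subgroup G) (isCharacter_of_isIrrCharacter χ.2))
    have hdeg : ∀ θ : Cfsg.IrrCharacter (P : Subgroup G),
        ∃ j, Cfsg.charDegree (θ : ↥(P : Subgroup G) → ℂ) = p ^ j := by
      intro θ
      obtain ⟨N, -, -, -, hdN⟩ := irr_ker_data θ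
      have h1 := hdN.trans (Subgroup.index_dvd_card N)
      rw [ha] at h1
      obtain ⟨j, -, hj⟩ := (Nat.dvd_prime_pow hp.out).1 h1
      exact ⟨j, hj⟩
    choose j hj using hdeg
    have hsumdeg : Cfsg.charDegree (χ : G → ℂ) =
        ∑ θ : Cfsg.IrrCharacter (P : Subgroup G), n θ * p ^ j θ := by
      have h1 := congrFun hexp 1
      rw [Finset.sum_apply] at h1
      have h2 : ((Cfsg.charDegree (χ : G → ℂ) : ℕ) : ℂ) =
          ((∑ θ : Cfsg.IrrCharacter (P : Subgroup G), n θ * p ^ j θ : ℕ) : ℂ) := by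
        rw [← hd1]
        have h3 : (χ : G → ℂ) 1 = (χ : G → ℂ) ((1 : ↥(P : Subgroup G)) : G) := rfl
        rw [h3, h1]
        push_cast
        apply Finset.sum_congr rfl
        intro θ _
        show (n θ : ℂ) * (θ : ↥(P : Subgroup G) → ℂ) 1 = _
        rw [(irr_charDegree θ).1, hj θ]
        push_cast
        rfl
      exact_mod_cast h2
    have hex : ∃ θ : Cfsg.IrrCharacter (P : Subgroup G), n θ ≠ 0 ∧ j θ ≤ b := by
      by_contra hcon
      have h1 : p ^ (b + 1) ∣ Cfsg.charDegree (χ : G → ℂ) := by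
        rw [hsumdeg]
        apply Finset.dvd_sum
        intro θ _
        by_cases h0 : n θ = 0
        · rw [h0, zero_mul]
          exact dvd_zero _
        · have h2 : b + 1 ≤ j θ := by
            by_contra h3
            exact hcon ⟨θ, h0, by omega⟩
          exact dvd_mul_of_dvd_right (pow_dvd_pow p h2) _
      rw [hd, pow_succ, mul_comm ((P : Subgroup G).index)] at h1
      exact hpi ((Nat.mul_dvd_mul_iff_left (pow_pos hp.out.pos b)).1 h1)
    obtain ⟨θ, hnθ, hjθ⟩ := hex
    have hψ : Cfsg.IsCharacter G (Cfsg.indFun (P : Subgroup G) (θ : ↥(P : Subgroup G) → ℂ)) :=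
      isCharacter_indFun (P : Subgroup G) _ (isCharacter_of_isIrrCharacter θ.2)
    have hψ1 : Cfsg.indFun (P : Subgroup G) (θ : ↥(P : Subgroup G) → ℂ) 1 =
        (((P : Subgroup G).index * p ^ j θ : ℕ) : ℂ) := by
      rw [indFun_one, (irr_charDegree θ).1, hj θ]
      exact (Nat.cast_mul _ _).symm
    have hinner : Cfsg.classInner (Cfsg.indFun (P : Subgroup G) (θ : ↥(P : Subgroup G) → ℂ))
        (χ : G → ℂ) ≠ 0 := by
      rw [frobenius_reciprocity (P : Subgroup G) _ _ (isClassFunction_of_irr χ.2),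
        ← classInner_conj_symm, hn θ, Complex.conj_natCast]
      exact_mod_cast hnθ
    have hle := degree_le_of_constituent hψ χ.2 hinner _ _ hd1 hψ1
    have hjb : j θ = b := by
      rw [hd] at hle
      have h1 : p ^ b ≤ p ^ j θ := Nat.le_of_mul_le_mul_left hle (Nat.pos_of_ne_zero hi0)
      have h2 : b ≤ j θ := (Nat.pow_le_pow_iff_right hp.out.one_lt).1 h1
      omega
    obtain ⟨m, hmexp, hm⟩ := isCharacter_expansion hψ
    have hmχ : m χ ≠ 0 := by
      intro h0
      apply hinner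
      rw [hm χ, h0, Nat.cast_zero]
    have hmz : ∀ η : Cfsg.IrrCharacter G, η ≠ χ → m η = 0 := by
      intro η hne
      by_contra h0
      have hc : Cfsg.classInner (Cfsg.indFun (P : Subgroup G) (θ : ↥(P : Subgroup G) → ℂ))
          (η : G → ℂ) ≠ 0 := by
        rw [hm η]
        exact_mod_cast h0
      have h1 := degree_add_le_of_constituents hψ χ.2 η.2 (fun h => hne (Subtype.ext h.symm))
        hinner hc _ _ _ hd1 (irr_charDegree η).1 hψ1
      rw [hjb, ← hd] at h1
      have h2 := (irr_charDegree η).2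
      omega
    have hψχ : Cfsg.indFun (P : Subgroup G) (θ : ↥(P : Subgroup G) → ℂ) =
        (m χ : ℂ) • (χ : G → ℂ) := by
      conv_lhs => rw [hmexp]
      exact Finset.sum_eq_single χ
        (fun η _ hne => by rw [hmz η hne, Nat.cast_zero, zero_smul])
        (fun h => absurd (Finset.mem_univ χ) h)
    have hm1 : m χ = 1 := by
      have h1 := congrFun hψχ 1
      rw [hψ1, Pi.smul_apply, smul_eq_mul, hd1, hjb, ← hd] at h1
      have h2 : Cfsg.charDegree (χ : G → ℂ) = m χ * Cfsg.charDegree (χ : G → ℂ) := by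
        exact_mod_cast h1
      have h3 : 1 * Cfsg.charDegree (χ : G → ℂ) = m χ * Cfsg.charDegree (χ : G → ℂ) := by
        rw [one_mul]
        exact h2
      exact (Nat.eq_of_mul_eq_mul_right (Nat.pos_of_ne_zero hd0) h3).symm
    refine ⟨P, θ, isCharacter_of_isIrrCharacter θ.2, ?_⟩
    rw [hψχ, hm1, Nat.cast_one, one_smul]
  · rintro ⟨P, θ, hθ, hχθ⟩
    obtain ⟨nθ, hnθ⟩ := char_one_natCast hθ
    have hi0 : (P : Subgroup G).index ≠ 0 := Subgroup.index_ne_zero_of_finite
    have h1 : ((Cfsg.charDegree (χ : G → ℂ) : ℕ) : ℂ) =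
        (((P : Subgroup G).index * nθ : ℕ) : ℂ) := by
      rw [← hd1, hχθ, indFun_one, hnθ]
      exact (Nat.cast_mul _ _).symm
    have hdeq : Cfsg.charDegree (χ : G → ℂ) = (P : Subgroup G).index * nθ := by
      exact_mod_cast h1
    obtain ⟨a, ha⟩ := IsPGroup.iff_card.1 P.isPGroup'
    have hidx := Subgroup.index_mul_card (P : Subgroup G)
    rw [ha] at hidx
    have h2 : nθ ∣ p ^ a := by
      rw [hdeq, ← hidx] at hddvd
      exact (Nat.mul_dvd_mul_iff_left (Nat.pos_of_ne_zero hi0)).1 hddvd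
    obtain ⟨j, hja, hj⟩ := (Nat.dvd_prime_pow hp.out).1 h2
    refine ⟨a - j, ?_⟩
    have h3 : p ^ a = p ^ (a - j) * p ^ j := by
      rw [← pow_add]
      congr 1
      omega
    rw [← hidx, hdeq, hj, h3]
    ring

end Cfsg.Agent.Lib.Helper8
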