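import Mathlib
import Cfsg.Prelude.Def_Characters
import Cfsg.Prelude.Def_Blocks
import Cfsg.Prelude.Def_Transfer
import Cfsg.Agent.Lib.Lead.CharMisc
import Cfsg.Agent.Lib.Lead.CharRing
import Cfsg.Agent.Lib.Lead.CharQuot
import Cfsg.Agent.Lib.Lead.CharCenter
import Cfsg.Agent.Lib.Lead.CharBurnside
import Cfsg.Agent.Lib.Lead.ClassNum
import Cfsg.Agent.Lib.Lead.Class2
import Cfsg.Agent.Lib.Helper3.PGroup
import Cfsg.Agent.Lib.Helper4.Frattini
import Cfsg.Agent.Lib.Helper8.CharQuotient
import Cfsg.Agent.Lib.Helper8.CharPerfect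

set_option autoImplicit false

namespace Cfsg.Agent.Lib.Helper8

open Cfsg.Agent.Lib.Lead

open scoped ComplexConjugate commutatorElement

/-- in a finite nilpotent group, elements of order prime to `p` centralize a Sylow `p`-subgroup -/
theorem nilpotent_pprime_centralizes {G : Type*} [Group G] [Finite G] [Group.IsNilpotent G]
    (p : ℕ) [hp : Fact p.Prime] (P : Sylow p G) (b : G) (hb : ¬ p ∣ orderOf b) :
    b ∈ Subgroup.centralizer ((P : Subgroup G) : Set G) := by
  have hPn : (P : Subgroup G).Normal :=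
    Sylow.normal_of_normalizerCondition Group.normalizerCondition_of_isNilpotent P
  have hCn : (Subgroup.centralizer ((P : Subgroup G) : Set G)).Normal :=
    Subgroup.normal_centralizer
  have hcop : Nat.Coprime (Subgroup.centralizer ((P : Subgroup G) : Set G)).index
      (orderOf b) := by
    apply Nat.coprime_of_dvd
    intro q hq hqi hqb
    have hqp : q ≠ p := by
      rintro rfl
      exact hb hqb
    have hqf : Fact q.Prime := ⟨hq⟩
    let Q : Sylow q G := default
    have hQn : (Q : Subgroup G).Normal :=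
      Sylow.normal_of_normalizerCondition Group.normalizerCondition_of_isNilpotent Q
    have hdis : Disjoint (Q : Subgroup G) (P : Subgroup G) :=
      IsPGroup.disjoint_of_ne q p hqp _ _ Q.isPGroup' P.isPGroup'
    have hQC : (Q : Subgroup G) ≤ Subgroup.centralizer ((P : Subgroup G) : Set G) := by
      intro x hx
      rw [Subgroup.mem_centralizer_iff]
      intro y hy
      exact (Subgroup.commute_of_normal_of_disjoint _ _ hQn hPn hdis x y hx hy).eq.symm
    exact Q.not_dvd_index (hqi.trans (Subgroup.index_dvd_of_le hQC))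
  have h1 := Subgroup.pow_index_mem (Subgroup.centralizer ((P : Subgroup G) : Set G)) b
  obtain ⟨m, hm⟩ := exists_pow_eq_self_of_coprime hcop
  rw [← hm]
  exact Subgroup.pow_mem _ h1 m

/-- a finite nilpotent group with a unique irreducible character of degree divisible by `p`
is a `p`-group -/
theorem pgroup_of_unique_pdiv {G : Type*} [Group G] [Finite G] [Group.IsNilpotent G] (p : ℕ)
    [hp : Fact p.Prime]
    (h : Nat.card {χ : Cfsg.IrrCharacter G // p ∣ Cfsg.charDegree (χ : G → ℂ)} = 1) :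
    IsPGroup p G := by
  classical
  let P : Sylow p G := default
  have hPn : (P : Subgroup G).Normal :=
    Sylow.normal_of_normalizerCondition Group.normalizerCondition_of_isNilpotent P
  obtain ⟨H, hH⟩ := Subgroup.exists_right_complement'_of_coprime P.card_coprime_index
  have hcard := hH.card_mul_card
  have hHcard : Nat.card H = (P : Subgroup G).index := by
    have h3 := Subgroup.card_mul_index (P : Subgroup G)
    exact Nat.eq_of_mul_eq_mul_left Nat.card_pos (hcard.trans h3.symm)
  have hpH : ¬ p ∣ Nat.card H := by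
    rw [hHcard]
    exact P.not_dvd_index
  have hHp : ∀ b ∈ H, ¬ p ∣ orderOf b := by
    intro b hb hpb
    have h1 : orderOf b ∣ Nat.card H := by
      have h2 := orderOf_dvd_natCard (⟨b, hb⟩ : H)
      rwa [Subgroup.orderOf_mk] at h2
    exact hpH (hpb.trans h1)
  have hcomm : ∀ (a : ↥(P : Subgroup G)) (b : ↥H),
      Commute ((P : Subgroup G).subtype a) (H.subtype b) := by
    intro a b
    have h1 := nilpotent_pprime_centralizes p P (b : G) (hHp b b.2)
    rw [Subgroup.mem_centralizer_iff] at h1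
    exact h1 a a.2
  let f : ↥(P : Subgroup G) × ↥H →* G :=
    MonoidHom.noncommCoprod (P : Subgroup G).subtype H.subtype hcomm
  have hbij : Function.Bijective f := by
    have h0 : Function.Bijective (fun x : ↥(P : Subgroup G) × ↥H => (x.1 : G) * (x.2 : G)) := hH
    exact h0
  let e : ↥(P : Subgroup G) × ↥H ≃* G := MulEquiv.ofBijective f hbij
  obtain ⟨hsub, ⟨χ₀, hχ₀⟩⟩ := Nat.card_eq_one_iff_unique.1 h
  obtain ⟨φ, ψ, hφ, hψ, hθ⟩ :=
    (irr_prod_iff ((χ₀ : G → ℂ) ∘ f)).1 (isIrrCharacter_comp_surj f hbij.2 χ₀.2)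
  obtain ⟨hφ1, hφ0⟩ := irr_charDegree (⟨φ, hφ⟩ : Cfsg.IrrCharacter (P : Subgroup G))
  obtain ⟨hψ1, hψ0⟩ := irr_charDegree (⟨ψ, hψ⟩ : Cfsg.IrrCharacter H)
  obtain ⟨hχ1, hχ0⟩ := irr_charDegree χ₀
  have hφ1' : φ 1 = (Cfsg.charDegree φ : ℂ) := hφ1
  have hψ1' : ψ 1 = (Cfsg.charDegree ψ : ℂ) := hψ1
  have hdeg : Cfsg.charDegree (χ₀ : G → ℂ) = Cfsg.charDegree φ * Cfsg.charDegree ψ := by
    have h1 := congrFun hθ 1
    simp only [Function.comp_apply, map_one, Prod.fst_one, Prod.snd_one] at h1
    rw [hχ1, hφ1', hψ1'] at h1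
    exact_mod_cast h1
  have hpφ : p ∣ Cfsg.charDegree φ := by
    rw [hdeg] at hχ₀
    rcases (Nat.Prime.dvd_mul hp.out).1 hχ₀ with h1 | h1
    · exact h1
    · exfalso
      obtain ⟨N, -, -, -, hd⟩ := irr_ker_data (⟨ψ, hψ⟩ : Cfsg.IrrCharacter H)
      exact hpH (h1.trans (hd.trans (Subgroup.index_dvd_card N)))
  have hφne : φ 1 ≠ 0 := by
    rw [hφ1']
    exact_mod_cast hφ0
  have huniq : ∀ ψ' : H → ℂ, Cfsg.IsIrrCharacter H ψ' → ψ' = ψ := by
    intro ψ' hψ'
    have hθ' := isIrrCharacter_prod hφ hψ'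
    have hχ' : Cfsg.IsIrrCharacter G
        ((fun x : ↥(P : Subgroup G) × ↥H => φ x.1 * ψ' x.2) ∘ e.symm.toMonoidHom) :=
      isIrrCharacter_comp_surj e.symm.toMonoidHom e.symm.surjective hθ'
    obtain ⟨hψ'1, -⟩ := irr_charDegree (⟨ψ', hψ'⟩ : Cfsg.IrrCharacter H)
    have hψ'1' : ψ' 1 = (Cfsg.charDegree ψ' : ℂ) := hψ'1
    have hdeg' : p ∣ Cfsg.charDegree
        ((fun x : ↥(P : Subgroup G) × ↥H => φ x.1 * ψ' x.2) ∘ e.symm.toMonoidHom) := by
      have h1 : ((fun x : ↥(P : Subgroup G) × ↥H => φ x.1 * ψ' x.2) ∘ e.symm.toMonoidHom) 1 =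
          ((Cfsg.charDegree φ * Cfsg.charDegree ψ' : ℕ) : ℂ) := by
        simp only [Function.comp_apply, map_one, Prod.fst_one, Prod.snd_one]
        rw [hφ1', hψ'1']
        push_cast
        rfl
      rw [charDegree_eq_of h1]
      exact dvd_mul_of_dvd_left hpφ _
    have heq : (⟨_, hχ'⟩ : Cfsg.IrrCharacter G) = χ₀ :=
      congrArg Subtype.val (hsub.elim ⟨⟨_, hχ'⟩, hdeg'⟩ ⟨χ₀, hχ₀⟩)
    have heq2 : (fun x : ↥(P : Subgroup G) × ↥H => φ x.1 * ψ' x.2) ∘ e.symm.toMonoidHom =
        (χ₀ : G → ℂ) := congrArg Subtype.val heq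
    funext b
    have h1 := congrFun heq2 (e (1, b))
    have h2 := congrFun hθ (1, b)
    simp only [Function.comp_apply] at h1 h2
    have h3 : e.symm.toMonoidHom (e (1, b)) = (1, b) := e.symm_apply_apply (1, b)
    rw [h3] at h1
    have h4 : φ 1 * ψ' b = φ 1 * ψ b := h1.trans h2
    exact mul_left_cancel₀ hφne h4
  have hHtriv : Nat.card H = 1 := by
    have h1 : Subsingleton (Cfsg.IrrCharacter H) :=
      ⟨fun a b => Subtype.ext ((huniq a a.2).trans (huniq b b.2).symm)⟩
    have h2 : Nat.card (Cfsg.IrrCharacter H) ≤ 1 := Finite.card_le_one_iff_subsingleton.2 h1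
    rw [card_irr] at h2
    have h3 : Subsingleton (ConjClasses H) := Finite.card_le_one_iff_subsingleton.1 h2
    rw [Nat.card_eq_one_iff_unique]
    refine ⟨⟨fun a b => ?_⟩, ⟨1⟩⟩
    have ha : IsConj a 1 := ConjClasses.mk_eq_mk_iff_isConj.1 (Subsingleton.elim _ _)
    have hb : IsConj b 1 := ConjClasses.mk_eq_mk_iff_isConj.1 (Subsingleton.elim _ _)
    rw [isConj_one_left.1 ha, isConj_one_left.1 hb]
  rw [hHtriv, mul_one] at hcard
  obtain ⟨n, hn⟩ := IsPGroup.iff_card.1 P.isPGroup'
  exact IsPGroup.of_card (hcard.symm.trans hn)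

/-- in a `p`-group, the degrees divisible by `p` are the nonlinear ones -/
theorem pgroup_pdvd_iff {G : Type*} [Group G] [Finite G] (p : ℕ) [hp : Fact p.Prime]
    (hG : IsPGroup p G) (χ : Cfsg.IrrCharacter G) :
    p ∣ Cfsg.charDegree (χ : G → ℂ) ↔ ¬ (χ : G → ℂ) 1 = 1 := by
  obtain ⟨h1, h0⟩ := irr_charDegree χ
  obtain ⟨N, -, -, -, hd⟩ := irr_ker_data χ
  obtain ⟨n, hn⟩ := IsPGroup.iff_card.1 hG
  have hdvd : Cfsg.charDegree (χ : G → ℂ) ∣ p ^ n :=
    hn ▸ hd.trans (Subgroup.index_dvd_card N)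
  obtain ⟨j, -, hj⟩ := (Nat.dvd_prime_pow hp.out).1 hdvd
  rw [h1, hj]
  constructor
  · intro hp1 hone
    have h2 : p ^ j = 1 := by exact_mod_cast hone
    rw [h2] at hp1
    exact hp.out.one_lt.ne' (Nat.dvd_one.1 hp1)
  · intro hne
    have hj0 : j ≠ 0 := by
      rintro rfl
      exact hne (by simp)
    exact dvd_pow_self p hj0

/-- counting the nonlinear characters of a `p`-group -/
theorem pgroup_count {G : Type*} [Group G] [Finite G] (p : ℕ) [Fact p.Prime]
    (hG : IsPGroup p G) :
    Nat.card {χ : Cfsg.IrrCharacter G // p ∣ Cfsg.charDegree (χ : G → ℂ)} +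
      (commutator G).index = Nat.card (ConjClasses G) := by
  classical
  rw [← card_irr, ← card_linear_irr]
  have e1 : {χ : Cfsg.IrrCharacter G // p ∣ Cfsg.charDegree (χ : G → ℂ)} ≃
      {χ : Cfsg.IrrCharacter G // ¬ (χ : G → ℂ) 1 = 1} :=
    Equiv.subtypeEquivRight (fun χ => pgroup_pdvd_iff p hG χ)
  rw [Nat.card_congr e1, add_comm, ← Nat.card_sum]
  exact Nat.card_congr (Equiv.sumCompl (fun χ : Cfsg.IrrCharacter G => (χ : G → ℂ) 1 = 1))

/-- when the derived subgroup has order two, conjugation multiplies by at most the generator -/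
theorem conj_eq_or_of_card_commutator {G : Type*} [Group G]
    (hcard : Nat.card (commutator G) = 2) :
    ∃ z₀ : G, z₀ ∈ commutator G ∧ z₀ ≠ 1 ∧ z₀ ^ 2 = 1 ∧
      ∀ u g : G, u * g * u⁻¹ = g ∨ u * g * u⁻¹ = z₀ * g := by
  obtain ⟨z₀, hz₀, hz₀u⟩ := (Nat.card_eq_two_iff' (1 : commutator G)).1 hcard
  refine ⟨z₀, z₀.2, fun h => hz₀ (Subtype.ext h), ?_, ?_⟩
  · have h1 : z₀ ^ Nat.card (commutator G) = 1 := pow_card_eq_one'
    rw [hcard] at h1
    exact congrArg Subtype.val h1
  · intro u g
    have hmem : u * g * u⁻¹ * g⁻¹ ∈ commutator G := by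
      have h0 : ⁅u, g⁆ ∈ commutator G :=
        Subgroup.commutator_mem_commutator (Subgroup.mem_top u) (Subgroup.mem_top g)
      rw [commutatorElement_def] at h0
      exact h0
    by_cases h : (⟨_, hmem⟩ : commutator G) = 1
    · left
      exact mul_inv_eq_one.1 (congrArg Subtype.val h)
    · right
      exact mul_inv_eq_iff_eq_mul.1 (congrArg Subtype.val (hz₀u _ h))

/-- class number of a group with derived subgroup of order two -/
theorem two_mul_card_conjClasses {G : Type*} [Group G] [Finite G]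
    (hcard : Nat.card (commutator G) = 2) :
    2 * Nat.card (ConjClasses G) = Nat.card G + Nat.card (Subgroup.center G) := by
  classical
  have : Fintype G := Fintype.ofFinite G
  obtain ⟨z₀, hz₀m, hz₀1, hz₀2, hcomm⟩ := conj_eq_or_of_card_commutator hcard
  have hcent : ∀ g : G, g ∉ Subgroup.center G →
      2 * Nat.card (Subgroup.centralizer ({g} : Set G)) = Nat.card G := by
    intro g hg
    have hex : ∃ h : G, h * g ≠ g * h := by
      by_contra hcon
      apply hg
      rw [Subgroup.mem_center_iff]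
      intro h
      by_contra h2
      exact hcon ⟨h, h2⟩
    obtain ⟨h, hh⟩ := hex
    have hne : h * g * h⁻¹ ≠ g := fun e => hh (mul_inv_eq_iff_eq_mul.1 e)
    have hz : h * g * h⁻¹ = z₀ * g := (hcomm h g).resolve_left hne
    have h2 : Nat.card {x : G // IsConj x g} = 2 := by
      rw [Nat.card_eq_two_iff]
      refine ⟨⟨g, IsConj.refl g⟩, ⟨z₀ * g, ?_⟩, ?_, ?_⟩
      · rw [← hz]
        exact (isConj_iff.2 ⟨h, rfl⟩ : IsConj g (h * g * h⁻¹)).symm
      · intro e
        have e' : g = z₀ * g := congrArg Subtype.val e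
        exact hz₀1 (mul_right_cancel (show z₀ * g = 1 * g by rw [one_mul]; exact e'.symm))
      · ext ⟨x, hx⟩
        simp only [Set.mem_insert_iff, Set.mem_singleton_iff, Set.mem_univ, iff_true]
        obtain ⟨u, hu⟩ := isConj_iff.1 hx.symm
        rcases hcomm u g with h1 | h1
        · left
          exact Subtype.ext (hu.symm.trans h1)
        · right
          exact Subtype.ext (hu.symm.trans h1)
    rw [← card_class_mul_card_centralizer g, h2]
  have hsum := sum_card_centralizer G
  have h2 : ∑ x : G, 2 * Nat.card (Subgroup.centralizer ({x} : Set G)) =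
      ∑ x : G, (if x ∈ Subgroup.center G then 2 * Nat.card G else Nat.card G) := by
    apply Finset.sum_congr rfl
    intro x _
    by_cases hx : x ∈ Subgroup.center G
    · rw [if_pos hx]
      have htop : Subgroup.centralizer ({x} : Set G) = ⊤ := by
        rw [eq_top_iff]
        intro y _
        rw [Subgroup.mem_centralizer_iff]
        intro h hh
        rw [Set.mem_singleton_iff.1 hh]
        exact ((Subgroup.mem_center_iff.1 hx) y).symm
      rw [htop, Subgroup.card_top]
    · rw [if_neg hx, hcent x hx]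
  rw [← Finset.mul_sum, hsum, Finset.sum_ite, Finset.sum_const, Finset.sum_const, smul_eq_mul,
    smul_eq_mul] at h2
  have h3 : (Finset.univ.filter (fun x : G => x ∈ Subgroup.center G)).card =
      Nat.card (Subgroup.center G) := by
    show _ = Nat.card {x : G // x ∈ Subgroup.center G}
    rw [Nat.card_eq_fintype_card, Fintype.card_subtype]
  have h4 : (Finset.univ.filter (fun x : G => x ∈ Subgroup.center G)).card +
      (Finset.univ.filter (fun x : G => ¬ x ∈ Subgroup.center G)).card = Nat.card G := by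
    rw [Finset.card_filter_add_card_filter_not, Finset.card_univ, Nat.card_eq_fintype_card]
  rw [h3] at h2 h4
  have hpos : 0 < Nat.card G := Nat.card_pos
  have h6 : Nat.card (Subgroup.center G) * Nat.card G +
      (Finset.univ.filter (fun x : G => ¬ x ∈ Subgroup.center G)).card * Nat.card G =
      Nat.card G * Nat.card G := by
    rw [← add_mul, h4]
  have h5 : Nat.card G * (2 * Nat.card (ConjClasses G)) =
      Nat.card G * (Nat.card G + Nat.card (Subgroup.center G)) := by
    nlinarith [h2, h6]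
  exact Nat.eq_of_mul_eq_mul_left hpos h5

/-- a linear character is trivial on the derived subgroup -/
theorem linear_trivial_on_commutator {G : Type*} [Group G] [Finite G] (χ : Cfsg.IrrCharacter G)
    (h1 : (χ : G → ℂ) 1 = 1) (g : G) (hg : g ∈ commutator G) : (χ : G → ℂ) g = 1 := by
  obtain ⟨K, hK, hKmem, -, -⟩ := irr_ker_data χ
  have hle : commutator G ≤ K := by
    rw [commutator_eq_closure, Subgroup.closure_le]
    rintro c ⟨a, b, rfl⟩
    rw [SetLike.mem_coe, hKmem, commutatorElement_def, linear_char_commutator χ.2 h1, h1]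
  have h2 := (hKmem g).1 (hle hg)
  rw [h1] at h2
  exact h2

/-- a `p`-group with a unique nonlinear irreducible character is an extraspecial `2`-group -/
theorem extraspecial_of_unique_nonlinear {G : Type*} [Group G] [Finite G] (p : ℕ)
    [hp : Fact p.Prime] (hG : IsPGroup p G)
    (h : Nat.card {χ : Cfsg.IrrCharacter G // p ∣ Cfsg.charDegree (χ : G → ℂ)} = 1) :
    p = 2 ∧ Cfsg.IsExtraspecial 2 G := by
  classical
  have : Fintype G := Fintype.ofFinite G
  have : Fintype (Cfsg.IrrCharacter G) := Fintype.ofFinite _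
  obtain ⟨hsub, ⟨χ₀, hχ₀⟩⟩ := Nat.card_eq_one_iff_unique.1 h
  have hχ₀nl : ¬ (χ₀ : G → ℂ) 1 = 1 := (pgroup_pdvd_iff p hG χ₀).1 hχ₀
  have hlin : ∀ χ : Cfsg.IrrCharacter G, χ ≠ χ₀ → (χ : G → ℂ) 1 = 1 := by
    intro χ hχ
    by_contra hne
    have h1 := (pgroup_pdvd_iff p hG χ).2 hne
    exact hχ (congrArg Subtype.val (hsub.elim ⟨χ, h1⟩ ⟨χ₀, hχ₀⟩))
  have hGna : commutator G ≠ ⊥ := by
    intro hbot
    have hc : ∀ a b : G, a * b = b * a := by
      intro a b
      have h1 : ⁅a, b⁆ ∈ commutator G :=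
        Subgroup.commutator_mem_commutator (Subgroup.mem_top a) (Subgroup.mem_top b)
      rw [hbot, Subgroup.mem_bot] at h1
      exact commutatorElement_eq_one_iff_mul_comm.1 h1
    exact hχ₀nl ((commutative_iff_degrees.1 hc) χ₀)
  have hKne : commutator G ⊓ Subgroup.center G ≠ ⊥ := by
    obtain ⟨z, hzN, hz1, hzc⟩ :=
      Cfsg.Agent.Lib.Helper3.exists_ne_one_mem_center_of_normal hG (commutator G) hGna
    intro hbot
    have hz : z ∈ commutator G ⊓ Subgroup.center G := ⟨hzN, hzc⟩
    rw [hbot, Subgroup.mem_bot] at hz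
    exact hz1 hz
  have hKp : p ∣ Nat.card (commutator G ⊓ Subgroup.center G : Subgroup G) := by
    obtain ⟨m, hm⟩ := IsPGroup.iff_card.1 (hG.to_subgroup (commutator G ⊓ Subgroup.center G))
    have hm0 : m ≠ 0 := by
      rintro rfl
      rw [pow_zero] at hm
      exact hKne (Subgroup.card_eq_one.1 hm)
    rw [hm]
    exact dvd_pow_self p hm0
  obtain ⟨w', hw'⟩ := exists_prime_orderOf_dvd_card' p hKp
  have hwo : orderOf (w' : G) = p := by
    rw [Subgroup.orderOf_coe]
    exact hw'
  have hwc : (w' : G) ∈ commutator G := w'.2.1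
  have hwz : (w' : G) ∈ Subgroup.center G := w'.2.2
  have hw1 : (w' : G) ≠ 1 := by
    intro h1
    rw [h1, orderOf_one] at hwo
    exact hp.out.one_lt.ne hwo
  have hNz : Subgroup.zpowers (w' : G) ≤ Subgroup.center G := Subgroup.zpowers_le.2 hwz
  have hNc : Subgroup.zpowers (w' : G) ≤ commutator G := Subgroup.zpowers_le.2 hwc
  have hNn : (Subgroup.zpowers (w' : G)).Normal := by
    constructor
    intro n hn g
    have h1 := Subgroup.mem_center_iff.1 (hNz hn) g
    rw [h1, mul_inv_cancel_right]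
    exact hn
  have hNcard : Nat.card (Subgroup.zpowers (w' : G)) = p := by
    rw [Nat.card_zpowers, hwo]
  have hχ₀w : (χ₀ : G → ℂ) (w' : G) ≠ (χ₀ : G → ℂ) 1 := by
    intro hcon
    apply hw1
    apply isConj_one_left.1
    rw [isConj_iff_irr]
    intro χ
    by_cases hχ : χ = χ₀
    · rw [hχ]
      exact hcon
    · have h1 := hlin χ hχ
      rw [linear_trivial_on_commutator χ h1 _ hwc, h1]
  have hQ : ∀ a b : G ⧸ Subgroup.zpowers (w' : G), a * b = b * a := by
    rw [commutative_iff_degrees]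
    intro φ
    have hχ : inflIrr (QuotientGroup.mk' (Subgroup.zpowers (w' : G)))
        (QuotientGroup.mk'_surjective _) φ ≠ χ₀ := by
      intro hcon
      apply hχ₀w
      rw [← hcon]
      show ((φ : Cfsg.IrrCharacter (G ⧸ Subgroup.zpowers (w' : G))) :
          G ⧸ Subgroup.zpowers (w' : G) → ℂ) (QuotientGroup.mk' (Subgroup.zpowers (w' : G)) (w' : G)) =
        ((φ : Cfsg.IrrCharacter (G ⧸ Subgroup.zpowers (w' : G))) :
          G ⧸ Subgroup.zpowers (w' : G) → ℂ) (QuotientGroup.mk' (Subgroup.zpowers (w' : G)) 1)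
      have h0 : QuotientGroup.mk' (Subgroup.zpowers (w' : G)) (w' : G) = 1 :=
        (QuotientGroup.eq_one_iff _).2 (Subgroup.mem_zpowers _)
      rw [h0, map_one]
    have h1 := hlin _ hχ
    have h2 : ((φ : Cfsg.IrrCharacter (G ⧸ Subgroup.zpowers (w' : G))) :
          G ⧸ Subgroup.zpowers (w' : G) → ℂ) (QuotientGroup.mk' (Subgroup.zpowers (w' : G)) 1) = 1 := h1
    rw [map_one] at h2
    exact h2
  have hcomN : commutator G = Subgroup.zpowers (w' : G) := by
    apply le_antisymm _ hNc
    have h1 := commutator_le_ker_of_comm (QuotientGroup.mk' (Subgroup.zpowers (w' : G)))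
      (fun a b => hQ _ _)
    rw [QuotientGroup.ker_mk'] at h1
    exact h1
  have hcomcard : Nat.card (commutator G) = p := by
    rw [hcomN]
    exact hNcard
  have hcomz : commutator G ≤ Subgroup.center G := by
    rw [hcomN]
    exact hNz
  have hidx := Subgroup.index_mul_card (commutator G)
  rw [hcomcard] at hidx
  have hcount := pgroup_count p hG
  rw [h] at hcount
  have hk : Nat.card (Cfsg.IrrCharacter G) = (commutator G).index + 1 := by
    rw [card_irr]
    omega
  have hsq := sum_sq_degrees_nat (K := G) (fun χ => Cfsg.charDegree (χ : G → ℂ))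
    (fun χ => (irr_charDegree χ).1)
  have hsplit : ∑ χ : Cfsg.IrrCharacter G, Cfsg.charDegree (χ : G → ℂ) ^ 2 =
      Cfsg.charDegree (χ₀ : G → ℂ) ^ 2 + (commutator G).index := by
    rw [← Finset.add_sum_erase Finset.univ _ (Finset.mem_univ χ₀)]
    congr 1
    rw [Finset.sum_congr rfl (fun χ hχ => by
      have h1 := hlin χ (Finset.ne_of_mem_erase hχ)
      have h2 : Cfsg.charDegree (χ : G → ℂ) = 1 := charDegree_eq_of (by rw [h1]; simp)
      rw [h2, one_pow]), Finset.sum_const, smul_eq_mul, mul_one,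
      Finset.card_erase_of_mem (Finset.mem_univ _), Finset.card_univ,
      ← Nat.card_eq_fintype_card, hk]
    omega
  rw [hsplit] at hsq
  have hp2 : p = 2 := by
    by_contra hne
    have hp3 : p - 1 ≠ 1 := by
      have := hp.out.two_le
      omega
    obtain ⟨q, hq, hqd⟩ := Nat.exists_prime_and_dvd hp3
    have hd : Cfsg.charDegree (χ₀ : G → ℂ) ^ 2 = (commutator G).index * (p - 1) := by
      have h1 : (commutator G).index * p =
          (commutator G).index * (p - 1) + (commutator G).index := by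
        have h0 : p = (p - 1) + 1 := by
          have := hp.out.pos
          omega
        conv_lhs => rw [h0]
        rw [Nat.mul_succ]
      have h2 : Cfsg.charDegree (χ₀ : G → ℂ) ^ 2 + (commutator G).index =
          (commutator G).index * (p - 1) + (commutator G).index := by
        rw [hsq, ← hidx, h1]
      exact Nat.add_right_cancel h2
    have hq2 : q ∣ Cfsg.charDegree (χ₀ : G → ℂ) ^ 2 := by
      rw [hd]
      exact hqd.trans (dvd_mul_left _ _)
    have hq3 : q ∣ Cfsg.charDegree (χ₀ : G → ℂ) := hq.dvd_of_dvd_pow hq2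
    obtain ⟨N, -, -, -, hdN⟩ := irr_ker_data χ₀
    obtain ⟨n, hn⟩ := IsPGroup.iff_card.1 hG
    have hq4 : q ∣ p ^ n := hn ▸ (hq3.trans (hdN.trans (Subgroup.index_dvd_card N)))
    have hq5 : q = p := (Nat.prime_dvd_prime_iff_eq hq hp.out).1 (hq.dvd_of_dvd_pow hq4)
    rw [hq5] at hqd
    have h7 := Nat.le_of_dvd (by have := hp.out.two_le; omega) hqd
    have h8 := hp.out.pos
    omega
  subst hp2
  have hK := two_mul_card_conjClasses hcomcard
  have hZcard : Nat.card (Subgroup.center G) = 2 := by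
    rw [← card_irr, hk] at hK
    omega
  have hcz : commutator G = Subgroup.center G :=
    Subgroup.eq_of_le_of_card_ge hcomz (by rw [hZcard, hcomcard])
  have hfrat : frattini G = Subgroup.center G := by
    rw [← hcz]
    apply le_antisymm
    · have h1 := Cfsg.Agent.Lib.Helper4.frattini_le_ker_of_elementary Nat.prime_two
        (QuotientGroup.mk' (commutator G)) ?_ ?_
      · rw [QuotientGroup.ker_mk'] at h1
        exact h1
      · intro x y
        rw [← map_mul, ← map_mul]
        apply (QuotientGroup.eq).2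
        have h0 : (x * y)⁻¹ * (y * x) = ⁅y⁻¹, x⁻¹⁆ := by
          rw [commutatorElement_def]
          group
        rw [h0]
        exact Subgroup.commutator_mem_commutator (Subgroup.mem_top _) (Subgroup.mem_top _)
      · intro x
        rw [← map_pow]
        apply (QuotientGroup.eq_one_iff _).2
        rw [hcz, Subgroup.mem_center_iff]
        intro y
        obtain ⟨z₀, hz₀m, hz₀1, hz₀2, hcomm⟩ := conj_eq_or_of_card_commutator hcomcard
        have hz₀c : ∀ g : G, g * z₀ = z₀ * g := Subgroup.mem_center_iff.1 (hcomz hz₀m)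
        rcases hcomm y x with h1 | h1
        · have h2 : y * x = x * y := mul_inv_eq_iff_eq_mul.1 h1
          rw [pow_two, ← mul_assoc, h2, mul_assoc, h2, ← mul_assoc]
        · have h2 : y * x = z₀ * x * y := mul_inv_eq_iff_eq_mul.1 h1
          calc y * x ^ 2 = y * x * x := by rw [pow_two, mul_assoc]
            _ = z₀ * x * y * x := by rw [h2]
            _ = z₀ * x * (y * x) := by rw [mul_assoc (z₀ * x) y x]
            _ = z₀ * x * (z₀ * x * y) := by rw [h2]
            _ = z₀ * (x * z₀) * x * y := by group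
            _ = z₀ * (z₀ * x) * x * y := by rw [hz₀c x]
            _ = z₀ ^ 2 * x ^ 2 * y := by rw [pow_two, pow_two]; simp only [mul_assoc]
            _ = x ^ 2 * y := by rw [hz₀2, one_mul]
    · exact commutator_le_frattini_of_pGroup hG
  exact ⟨rfl, ⟨hG, hfrat, hcz⟩, hZcard⟩

/-- an extraspecial `2`-group has exactly one irreducible character of even degree -/
theorem unique_nonlinear_of_extraspecial {G : Type*} [Group G] [Finite G]
    (hes : Cfsg.IsExtraspecial 2 G) :
    Nat.card {χ : Cfsg.IrrCharacter G // 2 ∣ Cfsg.charDegree (χ : G → ℂ)} = 1 := by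
  have hp2 : Fact (Nat.Prime 2) := ⟨Nat.prime_two⟩
  obtain ⟨⟨hG, hfrat, hcz⟩, hZ⟩ := hes
  have hcomcard : Nat.card (commutator G) = 2 := by
    rw [hcz]
    exact hZ
  have hK := two_mul_card_conjClasses hcomcard
  have hidx := Subgroup.index_mul_card (commutator G)
  rw [hcomcard] at hidx
  have hcount := pgroup_count 2 hG
  rw [hZ] at hK
  omega

/-- S4762 -/
theorem nilpotent_unique_pdiv_iff {G : Type*} [Group G] [Finite G] [Group.IsNilpotent G] (p : ℕ)
    [Fact p.Prime] :
    Nat.card {χ : Cfsg.IrrCharacter G // p ∣ Cfsg.charDegree (χ : G → ℂ)} = 1 ↔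
      (p = 2 ∧ Cfsg.IsExtraspecial 2 G) := by
  constructor
  · intro h
    exact extraspecial_of_unique_nonlinear p (pgroup_of_unique_pdiv p h) h
  · rintro ⟨rfl, hes⟩
    exact unique_nonlinear_of_extraspecial hes

end Cfsg.Agent.Lib.Helper8
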