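import Mathlib
import Cfsg.Prelude.Def_Characters
import Cfsg.Prelude.Def_Blocks
import Cfsg.Agent.Lib.Lead.CharMisc
import Cfsg.Agent.Lib.Lead.CharRing
import Cfsg.Agent.Lib.Lead.CharQuot
import Cfsg.Agent.Lib.Lead.CharInd3
import Cfsg.Agent.Lib.Lead.CharGal2
import Cfsg.Agent.Lib.Lead.CharBurnside
import Cfsg.Agent.Lib.Lead.CharSmall
import Cfsg.Agent.Lib.Helper8.CharQuotient
import Cfsg.Agent.Lib.Helper8.CharCodegree
import Cfsg.Agent.Lib.Helper8.CharCodegree2

set_option autoImplicit false

namespace Cfsg.Agent.Lib.Helper8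

open Cfsg.Agent.Lib.Lead

open scoped ComplexConjugate
open scoped commutatorElement

/-- a homomorphism with commuting values kills the commutator subgroup -/
theorem commutator_le_ker_of_comm {G K : Type*} [Group G] [Group K] (f : G →* K)
    (hcomm : ∀ a b : G, f a * f b = f b * f a) : commutator G ≤ f.ker := by
  rw [commutator_eq_closure, Subgroup.closure_le]
  rintro c ⟨a, b, rfl⟩
  rw [SetLike.mem_coe, MonoidHom.mem_ker, commutatorElement_def, map_mul, map_mul, map_mul,
    hcomm a b, mul_assoc (f b) (f a), ← map_mul f a, mul_inv_cancel, map_one,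
    mul_one, ← map_mul, mul_inv_cancel, map_one]

/-- the sum of `|χ|²` over an abelian subgroup is at least its order times the degree -/
theorem sum_normSq_abelian_ge {H : Type*} [Group H] [Finite H] (A : Subgroup H) [Fintype A]
    (hA : ∀ a ∈ A, ∀ b ∈ A, a * b = b * a) (χ : H → ℂ) (hχ : Cfsg.IsCharacter H χ) (d : ℕ)
    (hd : χ 1 = (d : ℂ)) : (Nat.card A : ℝ) * (d : ℝ) ≤ ∑ a : A, ‖χ a‖ ^ 2 := by
  classical
  have : Fintype (Cfsg.IrrCharacter A) := Fintype.ofFinite _
  have hne : (Nat.card A : ℂ) ≠ 0 := by exact_mod_cast Nat.card_pos.ne'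
  obtain ⟨n, hn, hn'⟩ := isCharacter_expansion (isCharacter_restrict A hχ)
  have hlin : ∀ lam : Cfsg.IrrCharacter A, (lam : A → ℂ) 1 = 1 :=
    commutative_iff_degrees.1 (fun a b => Subtype.ext (hA a a.2 b b.2))
  have h1 := classInner_comb (fun lam : Cfsg.IrrCharacter A => (n lam : ℂ))
    (fun lam : Cfsg.IrrCharacter A => (n lam : ℂ))
  rw [← hn] at h1
  -- the degree
  have hdeg : (d : ℂ) = ∑ lam : Cfsg.IrrCharacter A, (n lam : ℂ) := by
    have h2 := congrFun hn 1
    rw [Finset.sum_apply] at h2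
    have h3 : χ ((1 : A) : H) = χ 1 := rfl
    rw [h3, hd] at h2
    rw [h2]
    apply Finset.sum_congr rfl
    intro lam _
    rw [Pi.smul_apply, hlin lam, smul_eq_mul, mul_one]
  have hdeg' : d = ∑ lam : Cfsg.IrrCharacter A, n lam := by exact_mod_cast hdeg
  have hsq : ∑ lam : Cfsg.IrrCharacter A, n lam ≤ ∑ lam : Cfsg.IrrCharacter A, n lam ^ 2 := by
    apply Finset.sum_le_sum
    intro lam _
    exact Nat.le_self_pow (by norm_num) _
  -- the inner product
  unfold Cfsg.classInner at h1
  have h4 : ∑ a : A, χ a * conj (χ a) = (Nat.card A : ℂ) *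
      ∑ lam : Cfsg.IrrCharacter A, (n lam : ℂ) * conj (n lam : ℂ) := by
    rw [← h1, ← mul_assoc, mul_inv_cancel₀ hne, one_mul]
  have h5 : ((∑ a : A, ‖χ a‖ ^ 2 : ℝ) : ℂ) =
      (((Nat.card A : ℝ) * ((∑ lam : Cfsg.IrrCharacter A, n lam ^ 2 : ℕ) : ℝ) : ℝ) : ℂ) := by
    push_cast
    have h6 : ∑ a : A, ((‖χ a‖ : ℂ)) ^ 2 = ∑ a : A, χ a * conj (χ a) := by
      apply Finset.sum_congr rfl
      intro a _
      rw [Complex.mul_conj, Complex.normSq_eq_norm_sq]
      push_cast
      rfl
    rw [h6, h4]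
    congr 1
    apply Finset.sum_congr rfl
    intro lam _
    rw [Complex.conj_natCast]
    ring
  have h7 : ∑ a : A, ‖χ a‖ ^ 2 =
      (Nat.card A : ℝ) * ((∑ lam : Cfsg.IrrCharacter A, n lam ^ 2 : ℕ) : ℝ) := by
    exact_mod_cast h5
  rw [h7]
  apply mul_le_mul_of_nonneg_left _ (Nat.cast_nonneg _)
  rw [hdeg']
  exact_mod_cast hsq

/-- a finite commutative nontrivial group has a subgroup of prime index -/
theorem exists_prime_index_of_comm {A : Type*} [CommGroup A] [Finite A] [Nontrivial A] :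
    ∃ B : Subgroup A, (B.index).Prime := by
  obtain ⟨B, hB⟩ : ∃ B : Subgroup A, IsCoatom B := by
    rcases eq_top_or_exists_le_coatom (⊥ : Subgroup A) with h | ⟨B, hB, -⟩
    · exact absurd h bot_ne_top
    · exact ⟨B, hB⟩
  refine ⟨B, ?_⟩
  have hsimple : IsSimpleGroup (A ⧸ B) := by
    refine { exists_pair_ne := ?_, eq_bot_or_eq_top_of_normal := ?_ }
    · obtain ⟨a, ha⟩ : ∃ a : A, a ∉ B := by
        by_contra h
        apply hB.1
        rw [eq_top_iff]
        intro a _
        by_contra ha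
        exact h ⟨a, ha⟩
      exact ⟨(a : A ⧸ B), 1, fun h => ha ((QuotientGroup.eq_one_iff a).1 h)⟩
    · intro C _
      have hle : B ≤ C.comap (QuotientGroup.mk' B) := by
        intro b hb
        rw [Subgroup.mem_comap]
        have e : QuotientGroup.mk' B b = 1 := (QuotientGroup.eq_one_iff b).2 hb
        rw [e]
        exact C.one_mem
      have hC : (C.comap (QuotientGroup.mk' B)).map (QuotientGroup.mk' B) = C :=
        Subgroup.map_comap_eq_self_of_surjective (QuotientGroup.mk'_surjective B) C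
      rcases hB.le_iff.1 hle with h | h
      · right
        rw [← hC, h]
        exact Subgroup.map_top_of_surjective _ (QuotientGroup.mk'_surjective B)
      · left
        rw [← hC, h, eq_bot_iff]
        rintro _ ⟨b, hb, rfl⟩
        rw [Subgroup.mem_bot]
        exact (QuotientGroup.eq_one_iff b).2 hb
  rw [Subgroup.index_eq_card]
  exact IsSimpleGroup.prime_card

/-- a group that is not perfect has an irreducible character of prime codegree -/
theorem exists_prime_codegree_of_not_perfect {G : Type*} [Group G] [Finite G]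
    (h : commutator G ≠ ⊤) : ∃ χ : Cfsg.IrrCharacter G,
      (Nat.card G / (Nat.card {g : G // (χ : G → ℂ) g = (χ : G → ℂ) 1} *
        Cfsg.charDegree (χ : G → ℂ))).Prime := by
  classical
  have hnt : Nontrivial (Abelianization G) := by
    obtain ⟨g, hg⟩ : ∃ g : G, g ∉ commutator G := by
      by_contra hcon
      apply h
      rw [eq_top_iff]
      intro g _
      by_contra hg
      exact hcon ⟨g, hg⟩
    exact ⟨⟨(QuotientGroup.mk' (commutator G) g), 1,
      fun h1 => hg ((QuotientGroup.eq_one_iff g).1 h1)⟩⟩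
  obtain ⟨B, hB⟩ := exists_prime_index_of_comm (A := Abelianization G)
  have hBn : B.Normal := Subgroup.normal_of_isMulCommutative B
  have hMn : (B.comap (QuotientGroup.mk' (commutator G))).Normal := Subgroup.Normal.comap hBn _
  have hMidx : (B.comap (QuotientGroup.mk' (commutator G))).index = B.index :=
    Subgroup.index_comap_of_surjective B (QuotientGroup.mk'_surjective (commutator G))
  rw [← hMidx] at hB
  generalize B.comap (QuotientGroup.mk' (commutator G)) = M at hMn hB
  have hpF : Fact (M.index).Prime := ⟨hB⟩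
  have hcardQ : Nat.card (G ⧸ M) = M.index := (Subgroup.index_eq_card M).symm
  obtain ⟨φ, hφ1, -⟩ := exists_nonprincipal_coprime_degree (G := G ⧸ M) M.index hB
    (by rw [hcardQ])
  have hcyc : IsCyclic (G ⧸ M) := isCyclic_of_prime_card hcardQ
  have hφdeg : (φ : G ⧸ M → ℂ) 1 = 1 :=
    commutative_iff_degrees.1 (fun a b => comm_of_cyclic a b) φ
  let χ : Cfsg.IrrCharacter G := inflIrr (QuotientGroup.mk' M) (QuotientGroup.mk'_surjective M) φ
  have hχ : ∀ x : G, (χ : G → ℂ) x = (φ : G ⧸ M → ℂ) (QuotientGroup.mk' M x) := fun x => rfl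
  have hχ1 : (χ : G → ℂ) 1 = 1 := by rw [hχ, map_one, hφdeg]
  obtain ⟨N, hN, hmem, hcard, hdvd⟩ := irr_ker_data χ
  have hMN : M ≤ N := by
    intro x hx
    rw [hmem, hχ, hχ, map_one]
    have e : QuotientGroup.mk' M x = 1 := (QuotientGroup.eq_one_iff x).2 hx
    rw [e]
  have hNtop : N ≠ ⊤ := by
    intro hN'
    apply hφ1
    have h1 := irr_eq_one_of_const χ (fun g => (hmem g).1 (by rw [hN']; exact Subgroup.mem_top g))
    funext q
    obtain ⟨x, rfl⟩ := QuotientGroup.mk'_surjective M q
    exact congrFun h1 x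
  have hNidx : N.index = M.index := by
    have h1 : N.index ∣ M.index := Subgroup.index_dvd_of_le hMN
    rcases (Nat.dvd_prime hB).1 h1 with h2 | h2
    · exact absurd (Subgroup.index_eq_one.1 h2) hNtop
    · exact h2
  have hdeg : Cfsg.charDegree (χ : G → ℂ) = 1 := by
    apply charDegree_eq_of
    rw [hχ1]
    norm_num
  refine ⟨χ, ?_⟩
  have h1 := codegree_eq χ N hcard
  rw [hdeg, mul_one] at h1 ⊢
  rw [mul_one] at h1
  rw [h1, hNidx]
  exact hB

/-- a perfect group has no faithful irreducible character of prime codegree -/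
theorem no_faithful_prime_codegree_of_perfect {H : Type*} [Group H] [Finite H]
    (hperf : commutator H = ⊤) (φ : Cfsg.IrrCharacter H)
    (hfaith : ∀ h : H, (φ : H → ℂ) h = (φ : H → ℂ) 1 → h = 1) (p : ℕ) (hp : p.Prime)
    (hcard : Nat.card H = p * Cfsg.charDegree (φ : H → ℂ)) : False := by
  classical
  have : Fintype H := Fintype.ofFinite H
  have : Fintype (Cfsg.IrrCharacter H) := Fintype.ofFinite (Cfsg.IrrCharacter H)
  have hpF : Fact p.Prime := ⟨hp⟩
  obtain ⟨hd, hd0⟩ := irr_charDegree φ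
  generalize Cfsg.charDegree (φ : H → ℂ) = d at hd hd0 hcard
  have hdpos : 0 < d := Nat.pos_of_ne_zero hd0
  -- step a : d < p
  have hφ1 : (φ : H → ℂ) ≠ fun _ => 1 := by
    intro h1
    have hall : ∀ h : H, h = 1 := fun h => hfaith h (by rw [h1])
    have hsub : Subsingleton H := ⟨fun a b => by rw [hall a, hall b]⟩
    have hc1 : Nat.card H = 1 := Nat.card_unique
    rw [hc1] at hcard
    have : p ∣ 1 := Dvd.intro _ hcard.symm
    exact hp.one_lt.ne' (Nat.dvd_one.1 this)
  let χ₀ : Cfsg.IrrCharacter H := ⟨fun _ => 1, isIrrCharacter_one H⟩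
  have hφχ₀ : φ ≠ χ₀ := fun h => hφ1 (congrArg Subtype.val h)
  have hsum := sum_sq_degrees_nat (K := H) (fun χ => Cfsg.charDegree (χ : H → ℂ))
    (fun χ => (irr_charDegree χ).1)
  rw [← Finset.add_sum_erase _ _ (Finset.mem_univ χ₀)] at hsum
  have h0 : Cfsg.charDegree (χ₀ : H → ℂ) = 1 := by
    apply charDegree_eq_of
    show (1 : ℂ) = ((1 : ℕ) : ℂ)
    norm_num
  have hφd : Cfsg.charDegree (φ : H → ℂ) = d := charDegree_eq_of hd
  have hge : d ^ 2 ≤ ∑ χ ∈ Finset.univ.erase χ₀, Cfsg.charDegree (χ : H → ℂ) ^ 2 := by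
    have := Finset.single_le_sum (f := fun χ : Cfsg.IrrCharacter H =>
      Cfsg.charDegree (χ : H → ℂ) ^ 2) (fun χ _ => Nat.zero_le _)
      (Finset.mem_erase.2 ⟨hφχ₀, Finset.mem_univ φ⟩)
    simp only [hφd] at this
    exact this
  rw [h0, one_pow, hcard] at hsum
  have hdp : d < p := by
    by_contra hcon
    have hpd : p ≤ d := not_lt.1 hcon
    nlinarith
  -- step b : Sylow subgroups have order p
  have hfac : (Nat.card H).factorization p = 1 := by
    rw [hcard, Nat.factorization_mul hp.ne_zero hd0]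
    have h1 : d.factorization p = 0 :=
      Nat.factorization_eq_zero_of_not_dvd (fun hdvd => absurd (Nat.le_of_dvd hdpos hdvd)
        (not_le.2 hdp))
    simp [hp.factorization_self, h1]
  have hQcard : ∀ Q : Sylow p H, Nat.card Q = p := by
    intro Q
    rw [Sylow.card_eq_multiplicity, hfac, pow_one]
  have hQcomm : ∀ Q : Sylow p H, ∀ a ∈ (Q : Subgroup H), ∀ b ∈ (Q : Subgroup H),
      a * b = b * a := by
    intro Q a ha b hb
    have hcyc : IsCyclic Q := isCyclic_of_prime_card (hQcard Q)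
    have := comm_of_cyclic (⟨a, ha⟩ : Q) ⟨b, hb⟩
    exact congrArg Subtype.val this
  have hQsum : ∀ Q : Sylow p H, (p : ℝ) * (d : ℝ) ≤
      ∑ g ∈ Finset.univ.filter (fun g : H => g ∈ (Q : Subgroup H)), ‖(φ : H → ℂ) g‖ ^ 2 := by
    intro Q
    have : Fintype (Q : Subgroup H) := Fintype.ofFinite _
    have h1 := sum_normSq_abelian_ge (Q : Subgroup H) (hQcomm Q) (φ : H → ℂ)
      (isCharacter_of_isIrrCharacter φ.2) d hd
    rw [hQcard Q] at h1
    have h2 : ∑ g ∈ Finset.univ.filter (fun g : H => g ∈ (Q : Subgroup H)),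
        ‖(φ : H → ℂ) g‖ ^ 2 = ∑ a : (Q : Subgroup H), ‖(φ : H → ℂ) a‖ ^ 2 :=
      Finset.sum_subtype (Finset.univ.filter (fun g : H => g ∈ (Q : Subgroup H))) (by simp)
        (fun g => ‖(φ : H → ℂ) g‖ ^ 2)
    rw [h2]
    exact h1
  obtain ⟨n, ρ, hρ, hρφ⟩ := φ.2
  have htot : ∑ g : H, ‖(φ : H → ℂ) g‖ ^ 2 = (p : ℝ) * (d : ℝ) := by
    rw [← hρφ, sum_normSq_irr ρ, hcard]
    push_cast
    ring
  let P : Sylow p H := default
  -- step c : P is normal
  have hPn : (P : Subgroup H).Normal := by
    by_contra hnn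
    obtain ⟨Q, hQ⟩ : ∃ Q : Sylow p H, Q ≠ P := by
      by_contra hall
      apply hnn
      rw [← Subgroup.normalizer_eq_top_iff, eq_top_iff]
      intro g _
      have hg' : g • P = P := by
        by_contra hg
        exact hall ⟨g • P, hg⟩
      exact Sylow.smul_eq_iff_mem_normalizer.1 hg'
    have hinf : (P : Subgroup H) ⊓ (Q : Subgroup H) = ⊥ := by
      have h1 : Nat.card ((P : Subgroup H) ⊓ (Q : Subgroup H) : Subgroup H) ∣ p := by
        have h0 := Subgroup.card_dvd_of_le
          (inf_le_left : (P : Subgroup H) ⊓ (Q : Subgroup H) ≤ (P : Subgroup H))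
        rw [hQcard P] at h0
        exact h0
      rcases (Nat.dvd_prime hp).1 h1 with h2 | h2
      · exact Subgroup.card_eq_one.1 h2
      · exfalso
        apply hQ
        have h3 : (P : Subgroup H) ⊓ (Q : Subgroup H) = (P : Subgroup H) :=
          Subgroup.eq_of_le_of_card_ge inf_le_left (by rw [h2, hQcard P])
        have h4 : (P : Subgroup H) ≤ (Q : Subgroup H) := by
          rw [← h3]
          exact inf_le_right
        have h5 : (P : Subgroup H) = (Q : Subgroup H) :=
          Subgroup.eq_of_le_of_card_ge h4 (by rw [hQcard P, hQcard Q])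
        exact (Sylow.ext h5).symm
    have hui := Finset.sum_union_inter
      (s₁ := Finset.univ.filter (fun g : H => g ∈ (P : Subgroup H)))
      (s₂ := Finset.univ.filter (fun g : H => g ∈ (Q : Subgroup H)))
      (f := fun g => ‖(φ : H → ℂ) g‖ ^ 2)
    have hinter : Finset.univ.filter (fun g : H => g ∈ (P : Subgroup H)) ∩
        Finset.univ.filter (fun g : H => g ∈ (Q : Subgroup H)) = {1} := by
      ext g
      simp only [Finset.mem_inter, Finset.mem_filter, Finset.mem_univ, true_and,
        Finset.mem_singleton]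
      constructor
      · rintro ⟨h1, h2⟩
        have h3 : g ∈ (P : Subgroup H) ⊓ (Q : Subgroup H) := ⟨h1, h2⟩
        rw [hinf] at h3
        exact Subgroup.mem_bot.1 h3
      · rintro rfl
        exact ⟨Subgroup.one_mem _, Subgroup.one_mem _⟩
    rw [hinter, Finset.sum_singleton, hd, Complex.norm_natCast] at hui
    have hle : ∑ g ∈ Finset.univ.filter (fun g : H => g ∈ (P : Subgroup H)) ∪
        Finset.univ.filter (fun g : H => g ∈ (Q : Subgroup H)), ‖(φ : H → ℂ) g‖ ^ 2 ≤
        ∑ g : H, ‖(φ : H → ℂ) g‖ ^ 2 :=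
      Finset.sum_le_sum_of_subset_of_nonneg (Finset.subset_univ _) (fun g _ _ => by positivity)
    have h1 := hQsum P
    have h2 := hQsum Q
    have hdr : (d : ℝ) < (p : ℝ) := by exact_mod_cast hdp
    have hdr0 : (0 : ℝ) < (d : ℝ) := by exact_mod_cast hdpos
    nlinarith
  -- step d : P is central, contradiction with the transfer
  have hcycP : IsCyclic (P : Subgroup H) := isCyclic_of_prime_card (hQcard P)
  have hautcomm : ∀ a b : MulAut (P : Subgroup H), a * b = b * a := by
    intro a b
    apply (IsCyclic.mulAutMulEquiv (P : Subgroup H)).injective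
    rw [map_mul, map_mul, mul_comm]
  have hker : commutator H ≤ (MulAut.conjNormal (H := (P : Subgroup H))).ker :=
    commutator_le_ker_of_comm _ (fun a b => hautcomm _ _)
  rw [hperf] at hker
  have hcent : ∀ h : H, ∀ x ∈ (P : Subgroup H), h * x = x * h := by
    intro h x hx
    have h1 : MulAut.conjNormal (H := (P : Subgroup H)) h = 1 :=
      MonoidHom.mem_ker.1 (hker (Subgroup.mem_top h))
    have h2 := MulAut.conjNormal_apply (H := (P : Subgroup H)) h ⟨x, hx⟩
    rw [h1] at h2
    have h3 : x = h * x * h⁻¹ := h2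
    calc h * x = h * x * h⁻¹ * h := by group
      _ = x * h := by rw [← h3]
  have hPc : Subgroup.normalizer ((P : Subgroup H) : Set H) ≤
      Subgroup.centralizer ((P : Subgroup H) : Set H) := by
    intro h _
    rw [Subgroup.mem_centralizer_iff]
    intro x hx
    exact (hcent h x hx).symm
  have hkert : commutator H ≤ (MonoidHom.transferSylow P hPc).ker :=
    commutator_le_ker_of_comm _ (fun a b => comm_of_cyclic _ _)
  rw [hperf] at hkert
  have hcompl := MonoidHom.ker_transferSylow_isComplement' P hPc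
  have hcm := hcompl.card_mul_card
  have hkt : (MonoidHom.transferSylow P hPc).ker = ⊤ := top_le_iff.1 hkert
  have hc2 : Nat.card (MonoidHom.transferSylow P hPc).ker = Nat.card H := by
    rw [hkt, Subgroup.card_top]
  rw [hc2, hQcard P] at hcm
  have hHpos : 0 < Nat.card H := Nat.card_pos
  have : p = 1 := by
    have h1 : Nat.card H * p = Nat.card H * 1 := by rw [hcm, mul_one]
    exact Nat.eq_of_mul_eq_mul_left hHpos h1
  exact hp.one_lt.ne' this

theorem perfect_iff_no_prime_codegree {G : Type*} [Group G] [Finite G] :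
    commutator G = ⊤ ↔ ∀ χ : Cfsg.IrrCharacter G,
      ¬ ((Nat.card G / (Nat.card {g : G // (χ : G → ℂ) g = (χ : G → ℂ) 1} *
        Cfsg.charDegree (χ : G → ℂ)))).Prime := by
  constructor
  · intro hperf χ hprime
    obtain ⟨N, hN, hmem, hcard, hdvd⟩ := irr_ker_data χ
    have h1 := codegree_eq χ N hcard
    obtain ⟨φ, hφ, hφχ⟩ := irr_deflate N χ.2 (fun x hx => (hmem x).1 hx)
    have hφ1 : φ 1 = (χ : G → ℂ) 1 := by
      rw [hφχ]
      show φ 1 = φ (QuotientGroup.mk' N 1)
      rw [map_one]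
    have hdeg : Cfsg.charDegree φ = Cfsg.charDegree (χ : G → ℂ) := by
      unfold Cfsg.charDegree
      rw [hφ1]
    apply no_faithful_prime_codegree_of_perfect (H := G ⧸ N) ?_ ⟨φ, hφ⟩ ?_ _ hprime ?_
    · rw [commutator_def, ← Subgroup.map_top_of_surjective (QuotientGroup.mk' N)
        (QuotientGroup.mk'_surjective N), ← Subgroup.map_commutator, ← commutator_def, hperf]
    · intro q hq
      obtain ⟨x, rfl⟩ := QuotientGroup.mk'_surjective N q
      have h2 : (χ : G → ℂ) x = (χ : G → ℂ) 1 := by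
        rw [← hφ1, hφχ]
        exact hq
      exact (QuotientGroup.eq_one_iff x).2 ((hmem x).2 h2)
    · show Nat.card (G ⧸ N) = _ * Cfsg.charDegree φ
      rw [hdeg, h1, Subgroup.index_eq_card]
  · intro hno
    by_contra hnp
    obtain ⟨χ, hχ⟩ := exists_prime_codegree_of_not_perfect hnp
    exact hno χ hχ

end Cfsg.Agent.Lib.Helper8
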