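import Mathlib
import Cfsg.Prelude.Def_Characters
import Cfsg.Prelude.Def_Blocks
import Cfsg.Prelude.Def_Transfer
import Cfsg.Agent.Lib.Lead.CharMisc
import Cfsg.Agent.Lib.Lead.CharRing
import Cfsg.Agent.Lib.Lead.CharQuot
import Cfsg.Agent.Lib.Lead.CharCenter
import Cfsg.Agent.Lib.Lead.CharBurnside
import Cfsg.Agent.Lib.Helper8.CharQuotient

set_option autoImplicit false

namespace Cfsg.Agent.Lib.Helper8

open Cfsg.Agent.Lib.Lead

open scoped ComplexConjugate

variable {G : Type*} [Group G] [Finite G]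

/-- data of an irreducible character nonzero on exactly two classes -/
theorem two_class_core (hG : 2 < Nat.card G) (χ : Cfsg.IrrCharacter G)
    (hχ : Nat.card {C : ConjClasses G // ∃ g ∈ C.carrier, (χ : G → ℂ) g ≠ 0} = 2) :
    ∃ c : G, c ≠ 1 ∧ (∀ g : G, (χ : G → ℂ) g ≠ 0 ↔ (g = 1 ∨ IsConj g c)) ∧
      (∀ ψ : Cfsg.IrrCharacter G, ψ ≠ χ → (ψ : G → ℂ) c = (ψ : G → ℂ) 1) ∧
      (χ : G → ℂ) c ≠ (χ : G → ℂ) 1 := by
  classical
  have : Fintype G := Fintype.ofFinite G
  obtain ⟨n, hn0, hn⟩ := irr_one χ.2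
  have hχ1 : (χ : G → ℂ) 1 ≠ 0 := by rw [hn]; exact_mod_cast hn0
  have hcf := isClassFunction_of_irr χ.2
  let z₁ : {C : ConjClasses G // ∃ g ∈ C.carrier, (χ : G → ℂ) g ≠ 0} :=
    ⟨ConjClasses.mk 1, 1, ConjClasses.mem_carrier_mk, hχ1⟩
  obtain ⟨z₂, hz₂, hz₂u⟩ := (Nat.card_eq_two_iff' z₁).1 hχ
  rcases z₂ with ⟨C₂, c, hc, hχc⟩
  have hC₂ : ConjClasses.mk c = C₂ := ConjClasses.mem_carrier_iff_mk_eq.1 hc
  subst hC₂
  have hc1 : c ≠ 1 := by
    rintro rfl
    exact hz₂ rfl
  have hsupp : ∀ g : G, (χ : G → ℂ) g ≠ 0 ↔ (g = 1 ∨ IsConj g c) := by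
    intro g
    constructor
    · intro hg
      by_cases h1 : g = 1
      · exact Or.inl h1
      · right
        have h2 := hz₂u ⟨ConjClasses.mk g, g, ConjClasses.mem_carrier_mk, hg⟩ (by
          intro h3
          have h4 : ConjClasses.mk g = ConjClasses.mk 1 := congrArg Subtype.val h3
          rw [ConjClasses.mk_eq_mk_iff_isConj] at h4
          exact h1 (isConj_one_left.1 h4))
        have h5 : ConjClasses.mk g = ConjClasses.mk c := congrArg Subtype.val h2
        exact ConjClasses.mk_eq_mk_iff_isConj.1 h5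
    · rintro (rfl | h)
      · exact hχ1
      · obtain ⟨u, hu⟩ := isConj_iff.1 h
        rw [← hcf g u, hu]
        exact hχc
  -- χ is not the principal character
  have hm := card_class_mul_card_centralizer c
  have hne1 : (χ : G → ℂ) ≠ (fun _ => 1) := by
    intro h
    have hall : ∀ g : G, g = 1 ∨ IsConj g c :=
      fun g => (hsupp g).1 (by rw [h]; exact one_ne_zero)
    have h1 : Nat.card G ≤ 1 + Nat.card {x : G // IsConj x c} := by
      rw [Nat.card_eq_fintype_card, Nat.card_eq_fintype_card, Fintype.card_subtype,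
        ← Finset.card_univ]
      have hsub : (Finset.univ : Finset G) ⊆
          insert 1 (Finset.univ.filter (fun x : G => IsConj x c)) := by
        intro g _
        rcases hall g with h | h
        · rw [h]; exact Finset.mem_insert_self _ _
        · exact Finset.mem_insert_of_mem (Finset.mem_filter.2 ⟨Finset.mem_univ _, h⟩)
      have := (Finset.card_le_card hsub).trans (Finset.card_insert_le _ _)
      omega
    have h2 : 2 ≤ Nat.card (Subgroup.centralizer ({c} : Set G)) := by
      have hnt : Nontrivial (Subgroup.centralizer ({c} : Set G)) :=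
        ⟨⟨⟨c, by
          rw [Subgroup.mem_centralizer_iff]
          intro h hh
          rw [Set.mem_singleton_iff.1 hh]⟩, 1, fun h => hc1 (congrArg Subtype.val h)⟩⟩
      exact Finite.one_lt_card
    have h3 : 2 * Nat.card {x : G // IsConj x c} ≤
        Nat.card {x : G // IsConj x c} * Nat.card (Subgroup.centralizer ({c} : Set G)) := by
      rw [mul_comm]
      exact Nat.mul_le_mul_left _ h2
    omega
  -- row orthogonality
  have hrow : ∀ ψ : G → ℂ, Cfsg.IsIrrCharacter G ψ → (χ : G → ℂ) ≠ ψ →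
      (χ : G → ℂ) 1 * conj (ψ 1) +
        ((Finset.univ.filter (fun x : G => IsConj x c)).card : ℂ) *
          ((χ : G → ℂ) c * conj (ψ c)) = 0 := by
    intro ψ hψ hne
    have hψcf := isClassFunction_of_irr hψ
    have h1 := classInner_irr χ.2 hψ
    rw [if_neg hne] at h1
    unfold Cfsg.classInner at h1
    have hcard : (Nat.card G : ℂ) ≠ 0 := by exact_mod_cast Nat.card_pos.ne'
    have h2 : ∑ g : G, (χ : G → ℂ) g * conj (ψ g) = 0 := by
      rcases mul_eq_zero.1 h1 with h | h
      · exact absurd (inv_eq_zero.1 h) hcard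
      · exact h
    have h3 : ∀ g : G, (χ : G → ℂ) g * conj (ψ g) =
        (if g = 1 then (χ : G → ℂ) 1 * conj (ψ 1) else 0) +
        (if IsConj g c then (χ : G → ℂ) c * conj (ψ c) else 0) := by
      intro g
      by_cases hg1 : g = 1
      · subst hg1
        rw [if_pos rfl, if_neg (fun h => hc1 (isConj_one_right.1 h)), add_zero]
      · rw [if_neg hg1, zero_add]
        by_cases hgc : IsConj g c
        · rw [if_pos hgc]
          obtain ⟨u, hu⟩ := isConj_iff.1 hgc
          rw [← hcf g u, ← hψcf g u, hu]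
        · rw [if_neg hgc]
          have : (χ : G → ℂ) g = 0 := by
            by_contra h
            rcases (hsupp g).1 h with h | h
            · exact hg1 h
            · exact hgc h
          rw [this, zero_mul]
    rw [Finset.sum_congr rfl (fun g _ => h3 g), Finset.sum_add_distrib, Finset.sum_ite_eq',
      if_pos (Finset.mem_univ _), ← Finset.sum_filter, Finset.sum_const, nsmul_eq_mul] at h2
    exact h2
  have eq1 := hrow (fun _ => 1) (isIrrCharacter_one G) hne1
  rw [map_one, mul_one, mul_one] at eq1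
  refine ⟨c, hc1, hsupp, ?_, ?_⟩
  · intro ψ hψ
    have h := hrow ψ ψ.2 (fun h => hψ (Subtype.ext h.symm))
    have h2 : (χ : G → ℂ) 1 * (conj ((ψ : G → ℂ) 1) - conj ((ψ : G → ℂ) c)) = 0 := by
      linear_combination h - conj ((ψ : G → ℂ) c) * eq1
    rcases mul_eq_zero.1 h2 with h3 | h3
    · exact absurd h3 hχ1
    · exact ((starRingEnd ℂ).injective (sub_eq_zero.1 h3)).symm
  · intro hcon
    rw [hcon] at eq1
    have h2 : (χ : G → ℂ) 1 *
        (((1 + (Finset.univ.filter (fun x : G => IsConj x c)).card : ℕ) : ℂ)) = 0 := by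
      push_cast
      linear_combination eq1
    rcases mul_eq_zero.1 h2 with h3 | h3
    · exact hχ1 h3
    · have : (1 + (Finset.univ.filter (fun x : G => IsConj x c)).card : ℕ) ≠ 0 := by omega
      exact this (by exact_mod_cast h3)

/-- the support of a two-class character is the normal closure of the nontrivial class -/
theorem two_class_N (χ : Cfsg.IrrCharacter G) (c : G)
    (hsupp : ∀ g : G, (χ : G → ℂ) g ≠ 0 ↔ (g = 1 ∨ IsConj g c))
    (hker : ∀ ψ : Cfsg.IrrCharacter G, ψ ≠ χ → (ψ : G → ℂ) c = (ψ : G → ℂ) 1) :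
    ∀ g : G, g ∈ Subgroup.normalClosure ({c} : Set G) ↔ (g = 1 ∨ IsConj g c) := by
  classical
  have : Fintype G := Fintype.ofFinite G
  have : Fintype (Cfsg.IrrCharacter G) := Fintype.ofFinite _
  intro g
  constructor
  · intro hg
    by_cases hg1 : g = 1
    · exact Or.inl hg1
    · apply (hsupp g).1
      intro hχg
      have hkerg : ∀ ψ : Cfsg.IrrCharacter G, ψ ≠ χ → (ψ : G → ℂ) g = (ψ : G → ℂ) 1 := by
        intro ψ hψ
        obtain ⟨K, hK, hKmem, -, -⟩ := irr_ker_data ψ
        have hle : Subgroup.normalClosure ({c} : Set G) ≤ K :=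
          Subgroup.normalClosure_le_normal (by
            intro x hx
            rw [Set.mem_singleton_iff.1 hx]
            exact (hKmem c).2 (hker ψ hψ))
        exact (hKmem g).1 (hle hg)
      have hcol := column_orthogonality_sum g (1 : G)
      rw [conjCount_apply_of_not_isConj (fun h => hg1 (isConj_one_left.1 h))] at hcol
      have hre := congrArg Complex.re hcol
      rw [Complex.re_sum, Complex.zero_re] at hre
      have hnn : ∀ ψ ∈ (Finset.univ : Finset (Cfsg.IrrCharacter G)),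
          0 ≤ ((ψ : G → ℂ) g * conj ((ψ : G → ℂ) 1)).re := by
        intro ψ _
        by_cases hψ : ψ = χ
        · rw [hψ, hχg, zero_mul, Complex.zero_re]
        · rw [hkerg ψ hψ]
          obtain ⟨n, -, hn⟩ := irr_one ψ.2
          rw [hn, Complex.conj_natCast, ← Nat.cast_mul, Complex.natCast_re]
          positivity
      have hz := (Finset.sum_eq_zero_iff_of_nonneg hnn).1 hre ⟨_, isIrrCharacter_one G⟩
        (Finset.mem_univ _)
      simp at hz
  · rintro (rfl | h)
    · exact Subgroup.one_mem _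
    · obtain ⟨u, hu⟩ := isConj_iff.1 h
      have hcN : c ∈ Subgroup.normalClosure ({c} : Set G) :=
        Subgroup.subset_normalClosure (Set.mem_singleton c)
      have h1 := (Subgroup.normalClosure_normal (s := ({c} : Set G))).conj_mem c hcN u⁻¹
      have h2 : u⁻¹ * c * u⁻¹⁻¹ = g := by
        rw [← hu]
        group
      rw [h2] at h1
      exact h1

/-- S4835 -/
theorem two_class_minimal_normal (hG : 2 < Nat.card G) (χ : Cfsg.IrrCharacter G)
    (hχ : Nat.card {C : ConjClasses G // ∃ g ∈ C.carrier, (χ : G → ℂ) g ≠ 0} = 2) :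
    ∃ N : Subgroup G, N.Normal ∧ N ≠ ⊥ ∧ (∀ K : Subgroup G, K.Normal → K ≠ ⊥ → N ≤ K) ∧
      (∃ p : ℕ, p.Prime ∧ Cfsg.IsElementaryAbelian p N) ∧
      (∀ g : G, (χ : G → ℂ) g ≠ 0 ↔ g ∈ N) ∧
      (∀ x ∈ N, ∀ y ∈ N, x ≠ 1 → y ≠ 1 → ∃ g : G, g * x * g⁻¹ = y) := by
  classical
  have : Fintype G := Fintype.ofFinite G
  have : Fintype (Cfsg.IrrCharacter G) := Fintype.ofFinite _
  obtain ⟨c, hc1, hsupp, hker, hχc⟩ := two_class_core hG χ hχ
  have hN := two_class_N χ c hsupp hker
  have hNn : (Subgroup.normalClosure ({c} : Set G)).Normal := Subgroup.normalClosure_normal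
  have hcN : c ∈ Subgroup.normalClosure ({c} : Set G) := (hN c).2 (Or.inr (IsConj.refl c))
  have hconjN : ∀ x ∈ Subgroup.normalClosure ({c} : Set G), x ≠ 1 → IsConj x c :=
    fun x hx hx1 => ((hN x).1 hx).resolve_left hx1
  refine ⟨Subgroup.normalClosure ({c} : Set G), hNn, ?_, ?_, ?_, ?_, ?_⟩
  · intro h
    rw [h, Subgroup.mem_bot] at hcN
    exact hc1 hcN
  · intro K hK hKne
    apply Subgroup.normalClosure_le_normal
    intro x hx
    rw [Set.mem_singleton_iff.1 hx]
    show c ∈ K
    by_contra hcK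
    obtain ⟨⟨k, hkK⟩, hk1'⟩ := (Subgroup.ne_bot_iff_exists_ne_one).1 hKne
    have hk1 : k ≠ 1 := fun h => hk1' (Subtype.ext h)
    by_cases hχK : ∀ x ∈ K, (χ : G → ℂ) x = (χ : G → ℂ) 1
    · have hχ1 : (χ : G → ℂ) 1 ≠ 0 := (hsupp 1).2 (Or.inl rfl)
      have h1 : (χ : G → ℂ) k ≠ 0 := by rw [hχK k hkK]; exact hχ1
      rcases (hsupp k).1 h1 with h | h
      · exact hk1 h
      · obtain ⟨u, hu⟩ := isConj_iff.1 h
        apply hcK
        rw [← hu]
        exact hK.conj_mem k hkK u
    · have : Fintype (G ⧸ K) := Fintype.ofFinite _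
      have : Fintype (Cfsg.IrrCharacter (G ⧸ K)) := Fintype.ofFinite _
      have h1 := sum_over_normal K (fun f : G → ℂ => f c * conj (f 1))
      have h2 := sum_over_normal K (fun f : G → ℂ => f 1 * conj (f 1))
      have h3 : ∑ ψ ∈ Finset.univ.filter (fun ψ : Cfsg.IrrCharacter G =>
            ∀ x ∈ K, (ψ : G → ℂ) x = (ψ : G → ℂ) 1), (ψ : G → ℂ) c * conj ((ψ : G → ℂ) 1) =
          ∑ ψ ∈ Finset.univ.filter (fun ψ : Cfsg.IrrCharacter G =>
            ∀ x ∈ K, (ψ : G → ℂ) x = (ψ : G → ℂ) 1), (ψ : G → ℂ) 1 * conj ((ψ : G → ℂ) 1) := by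
        apply Finset.sum_congr rfl
        intro ψ hψ
        rw [Finset.mem_filter] at hψ
        rw [hker ψ (fun h => hχK (h ▸ hψ.2))]
      rw [h3, h2] at h1
      have h4 := column_orthogonality_sum (QuotientGroup.mk' K c) (QuotientGroup.mk' K (1 : G))
      have h5 := column_orthogonality_sum (QuotientGroup.mk' K (1 : G))
        (QuotientGroup.mk' K (1 : G))
      have hnc : ¬ IsConj (QuotientGroup.mk' K c) (QuotientGroup.mk' K (1 : G)) := by
        intro hconj
        rw [map_one] at hconj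
        have h6 := isConj_one_left.1 hconj
        exact hcK ((QuotientGroup.eq_one_iff c).1 h6)
      have h6 : conjCount (QuotientGroup.mk' K (1 : G)) (QuotientGroup.mk' K (1 : G)) =
          conjCount (QuotientGroup.mk' K (1 : G)) (QuotientGroup.mk' K c) := by
        rw [← h4, ← h5]
        exact h1
      rw [conjCount_apply_of_isConj (IsConj.refl _), conjCount_apply_of_not_isConj hnc] at h6
      have h7 : (Nat.card (Subgroup.centralizer
          ({QuotientGroup.mk' K (1 : G)} : Set (G ⧸ K))) : ℂ) ≠ 0 := by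
        exact_mod_cast Nat.card_pos.ne'
      exact h7 h6
  · have hNnt : Nontrivial (Subgroup.normalClosure ({c} : Set G)) :=
      ⟨⟨⟨c, hcN⟩, 1, fun h => hc1 (congrArg Subtype.val h)⟩⟩
    obtain ⟨p, hp, hpd⟩ := Nat.exists_prime_and_dvd
      (show Nat.card (Subgroup.normalClosure ({c} : Set G)) ≠ 1 from (Finite.one_lt_card).ne')
    have : Fact p.Prime := ⟨hp⟩
    obtain ⟨x, hx⟩ := exists_prime_orderOf_dvd_card' p hpd
    have hx1 : (x : G) ≠ 1 := by
      intro h
      have h2 : x = 1 := Subtype.ext h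
      rw [h2, orderOf_one] at hx
      exact hp.one_lt.ne hx
    have hxp : (x : G) ^ p = 1 := by
      have h2 := pow_orderOf_eq_one x
      rw [hx] at h2
      exact congrArg Subtype.val h2
    have hcp : c ^ p = 1 := by
      obtain ⟨u, hu⟩ := isConj_iff.1 (hconjN x x.2 hx1)
      rw [← hu, conj_pow, hxp, mul_one, mul_inv_cancel]
    have hexp : ∀ a ∈ Subgroup.normalClosure ({c} : Set G), a ^ p = 1 := by
      intro a ha
      by_cases ha1 : a = 1
      · rw [ha1, one_pow]
      · obtain ⟨u, hu⟩ := isConj_iff.1 (hconjN a ha ha1).symm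
        rw [← hu, conj_pow, hcp, mul_one, mul_inv_cancel]
    have hpN : IsPGroup p (Subgroup.normalClosure ({c} : Set G)) := by
      intro a
      refine ⟨1, Subtype.ext ?_⟩
      rw [pow_one]
      exact hexp a a.2
    have hZ := hpN.center_nontrivial
    obtain ⟨z, hz1⟩ := exists_ne (1 : Subgroup.center (Subgroup.normalClosure ({c} : Set G)))
    have hzc : ∀ b : Subgroup.normalClosure ({c} : Set G),
        b * (z : Subgroup.normalClosure ({c} : Set G)) =
          (z : Subgroup.normalClosure ({c} : Set G)) * b :=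
      fun b => Subgroup.mem_center_iff.1 z.2 b
    have hzG1 : ((z : Subgroup.normalClosure ({c} : Set G)) : G) ≠ 1 :=
      fun h => hz1 (Subtype.ext (Subtype.ext h))
    refine ⟨p, hp, ?_, hexp⟩
    rw [isMulCommutative_iff]
    intro a b
    by_cases ha1 : a = 1
    · rw [ha1, one_mul, mul_one]
    · have haG1 : (a : G) ≠ 1 := fun h => ha1 (Subtype.ext h)
      have h1 := hconjN _ (z : Subgroup.normalClosure ({c} : Set G)).2 hzG1
      have h2 := hconjN _ a.2 haG1
      obtain ⟨u, hu⟩ := isConj_iff.1 (h1.trans h2.symm)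
      apply Subtype.ext
      show (a : G) * b = b * a
      have hb' : u⁻¹ * (b : G) * u ∈ Subgroup.normalClosure ({c} : Set G) := by
        have h3 := hNn.conj_mem b b.2 u⁻¹
        rw [inv_inv] at h3
        exact h3
      have h3 := hzc ⟨_, hb'⟩
      have h4 : u⁻¹ * (b : G) * u * ((z : Subgroup.normalClosure ({c} : Set G)) : G) =
          ((z : Subgroup.normalClosure ({c} : Set G)) : G) * (u⁻¹ * (b : G) * u) :=
        congrArg Subtype.val h3
      rw [← hu]
      calc u * ((z : Subgroup.normalClosure ({c} : Set G)) : G) * u⁻¹ * (b : G)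
          = u * (((z : Subgroup.normalClosure ({c} : Set G)) : G) * (u⁻¹ * (b : G) * u)) * u⁻¹ := by
            group
        _ = u * ((u⁻¹ * (b : G) * u) * ((z : Subgroup.normalClosure ({c} : Set G)) : G)) * u⁻¹ := by
            rw [h4]
        _ = (b : G) * (u * ((z : Subgroup.normalClosure ({c} : Set G)) : G) * u⁻¹) := by group
  · intro g
    rw [hsupp g, hN g]
  · intro x hx y hy hx1 hy1
    have h1 := hconjN x hx hx1
    have h2 := hconjN y hy hy1
    exact isConj_iff.1 (h1.trans h2.symm)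

/-- S4836 -/
theorem two_class_faithful (hG : 2 < Nat.card G) (χ : Cfsg.IrrCharacter G)
    (hχ : Nat.card {C : ConjClasses G // ∃ g ∈ C.carrier, (χ : G → ℂ) g ≠ 0} = 2) :
    (∀ g : G, (χ : G → ℂ) g = (χ : G → ℂ) 1 → g = 1) ∧
      (∀ ψ : Cfsg.IrrCharacter G, (∀ g : G, (ψ : G → ℂ) g = (ψ : G → ℂ) 1 → g = 1) → ψ = χ) ∧
      (∀ ψ : Cfsg.IrrCharacter G,
        Nat.card {C : ConjClasses G // ∃ g ∈ C.carrier, (ψ : G → ℂ) g ≠ 0} = 2 → ψ = χ) := by
  have key : ∀ φ : Cfsg.IrrCharacter G,
      Nat.card {C : ConjClasses G // ∃ g ∈ C.carrier, (φ : G → ℂ) g ≠ 0} = 2 →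
      ∀ g : G, (φ : G → ℂ) g = (φ : G → ℂ) 1 → g = 1 := by
    intro φ hφ g hg
    obtain ⟨c, hc1, hsupp, hker, hφc⟩ := two_class_core hG φ hφ
    by_contra hg1
    have h1 : (φ : G → ℂ) g ≠ 0 := by
      rw [hg]
      exact (hsupp 1).2 (Or.inl rfl)
    rcases (hsupp g).1 h1 with h | h
    · exact hg1 h
    · obtain ⟨u, hu⟩ := isConj_iff.1 h
      apply hφc
      rw [← hu, isClassFunction_of_irr φ.2 g u, hg]
  obtain ⟨c, hc1, hsupp, hker, hχc⟩ := two_class_core hG χ hχ
  have h2 : ∀ ψ : Cfsg.IrrCharacter G,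
      (∀ g : G, (ψ : G → ℂ) g = (ψ : G → ℂ) 1 → g = 1) → ψ = χ := by
    intro ψ hψ
    by_contra hne
    exact hc1 (hψ c (hker ψ hne))
  exact ⟨key χ hχ, h2, fun ψ hψ => h2 ψ (key ψ hψ)⟩

end Cfsg.Agent.Lib.Helper8
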