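import Mathlib
import Cfsg.Prelude.Def_Characters
import Cfsg.Prelude.Def_Blocks
import Cfsg.Prelude.Def_Transfer
import Cfsg.Agent.Lib.Lead.CharMisc
import Cfsg.Agent.Lib.Lead.CharRing
import Cfsg.Agent.Lib.Lead.CharQuot
import Cfsg.Agent.Lib.Lead.CharCenter
import Cfsg.Agent.Lib.Lead.CharBurnside
import Cfsg.Agent.Lib.Lead.CharIto
import Cfsg.Agent.Lib.Lead.CharArtin
import Cfsg.Agent.Lib.Lead.CharNormal
import Cfsg.Agent.Lib.Helper8.CharQuotient
import Cfsg.Agent.Lib.Helper8.CharTwoClass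

set_option autoImplicit false

namespace Cfsg.Agent.Lib.Helper8

open Cfsg.Agent.Lib.Lead

open scoped ComplexConjugate

variable {G : Type*} [Group G] [Finite G]

/-- Camina property of the support of a two-class character -/
theorem two_class_camina (χ : Cfsg.IrrCharacter G) (c : G) (N : Subgroup G) [N.Normal]
    (hNc : ∀ g : G, g ∈ N ↔ (g = 1 ∨ IsConj g c))
    (hsupp : ∀ g : G, (χ : G → ℂ) g ≠ 0 ↔ (g = 1 ∨ IsConj g c))
    (hker : ∀ ψ : Cfsg.IrrCharacter G, ψ ≠ χ → (ψ : G → ℂ) c = (ψ : G → ℂ) 1)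
    (y n : G) (hy : y ∉ N) (hn : n ∈ N) : IsConj (y * n) y := by
  rw [isConj_iff_irr]
  intro ψ
  by_cases hψ : ψ = χ
  · subst hψ
    have h1 : (ψ : G → ℂ) y = 0 := by
      by_contra h
      exact hy ((hNc y).2 ((hsupp y).1 h))
    have h2 : (ψ : G → ℂ) (y * n) = 0 := by
      by_contra h
      have h3 : y * n ∈ N := (hNc _).2 ((hsupp _).1 h)
      apply hy
      have h4 := N.mul_mem h3 (N.inv_mem hn)
      rwa [mul_inv_cancel_right] at h4
    rw [h1, h2]
  · obtain ⟨K, hK, hKmem, -, -⟩ := irr_ker_data ψ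
    have hcK : c ∈ K := (hKmem c).2 (hker ψ hψ)
    have hnK : n ∈ K := by
      rcases (hNc n).1 hn with h | h
      · rw [h]; exact K.one_mem
      · obtain ⟨u, hu⟩ := isConj_iff.1 h.symm
        rw [← hu]
        exact hK.conj_mem c hcK u
    obtain ⟨φ, -, hφ⟩ := irr_deflate K ψ.2 (fun x hx => (hKmem x).1 hx)
    rw [hφ]
    show φ (QuotientGroup.mk' K (y * n)) = φ (QuotientGroup.mk' K y)
    have h1 : QuotientGroup.mk' K n = 1 := (QuotientGroup.eq_one_iff n).2 hnK
    rw [map_mul, h1, mul_one]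

/-- elements centralizing a nonidentity element of `N` are `p`-elements -/
theorem two_class_cent_pgroup (χ : Cfsg.IrrCharacter G) (c : G) (N : Subgroup G) [hNn : N.Normal]
    (hNc : ∀ g : G, g ∈ N ↔ (g = 1 ∨ IsConj g c))
    (hsupp : ∀ g : G, (χ : G → ℂ) g ≠ 0 ↔ (g = 1 ∨ IsConj g c))
    (hker : ∀ ψ : Cfsg.IrrCharacter G, ψ ≠ χ → (ψ : G → ℂ) c = (ψ : G → ℂ) 1)
    (p : ℕ) [hp : Fact p.Prime] (hNp : IsPGroup p N)
    (x : G) (hx : x ∈ N) (hx1 : x ≠ 1) (g : G) (hg : g * x = x * g) :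
    ∃ k : ℕ, g ^ (p ^ k) = 1 := by
  have hp' := hp.out
  have hA : ∀ h : G, h * x = x * h → h ∉ N → p ∣ orderOf h := by
    intro h hh hhN
    have hconj := two_class_camina χ c N hNc hsupp hker h x hhN hx
    obtain ⟨u, hu⟩ := isConj_iff.1 hconj
    have h1 : (h * x) ^ orderOf h = 1 := by
      have h2 : (u * (h * x) * u⁻¹) ^ orderOf h = 1 := by rw [hu, pow_orderOf_eq_one]
      rw [conj_pow] at h2
      have h3 : u⁻¹ * (u * (h * x) ^ orderOf h * u⁻¹) * u = u⁻¹ * 1 * u := by rw [h2]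
      rw [mul_one, inv_mul_cancel] at h3
      rw [← h3]
      group
    have hc : Commute h x := hh
    rw [hc.mul_pow, pow_orderOf_eq_one, one_mul] at h1
    have h4 : orderOf x ∣ orderOf h := orderOf_dvd_of_pow_eq_one h1
    obtain ⟨k, hk⟩ := hNp ⟨x, hx⟩
    have hk' : x ^ (p ^ k) = 1 := congrArg Subtype.val hk
    have h5 : orderOf x ∣ p ^ k := orderOf_dvd_of_pow_eq_one hk'
    obtain ⟨j, hj, hj2⟩ := (Nat.dvd_prime_pow hp').1 h5
    have hj0 : j ≠ 0 := by
      rintro rfl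
      rw [pow_zero, orderOf_eq_one_iff] at hj2
      exact hx1 hj2
    have h6 : p ∣ orderOf x := by rw [hj2]; exact dvd_pow_self p hj0
    exact h6.trans h4
  have ho : orderOf g ≠ 0 := (orderOf_pos g).ne'
  obtain ⟨a, m, hpm, hom⟩ := Nat.exists_eq_pow_mul_and_not_dvd ho p hp'.ne_one
  have hhm : (g ^ (p ^ a)) ^ m = 1 := by rw [← pow_mul, ← hom, pow_orderOf_eq_one]
  have hcomm : g ^ (p ^ a) * x = x * g ^ (p ^ a) := by
    have hc : Commute g x := hg
    exact (hc.pow_left _).eq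
  have hmem : g ^ (p ^ a) ∈ N := by
    by_contra hnot
    have h1 := hA _ hcomm hnot
    exact hpm (h1.trans (orderOf_dvd_of_pow_eq_one hhm))
  obtain ⟨k, hk⟩ := hNp ⟨g ^ (p ^ a), hmem⟩
  have hk' : (g ^ (p ^ a)) ^ (p ^ k) = 1 := congrArg Subtype.val hk
  exact ⟨a + k, by rw [pow_add, pow_mul]; exact hk'⟩

/-- the size of the nontrivial class inside `N` -/
theorem two_class_card_class (c : G) (N : Subgroup G)
    (hNc : ∀ g : G, g ∈ N ↔ (g = 1 ∨ IsConj g c)) (x : G) (hx : x ∈ N) (hx1 : x ≠ 1) :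
    Nat.card {y : G // IsConj y x} + 1 = Nat.card N := by
  classical
  have : Fintype G := Fintype.ofFinite G
  have hxc : IsConj x c := ((hNc x).1 hx).resolve_left hx1
  have h1 : Nat.card {y : G // IsConj y x} =
      (Finset.univ.filter (fun y : G => IsConj y x)).card := by
    rw [Nat.card_eq_fintype_card, Fintype.card_subtype]
  have h2 : Nat.card N = (Finset.univ.filter (fun y : G => y ∈ N)).card := by
    show Nat.card {y : G // y ∈ N} = _
    rw [Nat.card_eq_fintype_card, Fintype.card_subtype]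
  have h3 : Finset.univ.filter (fun y : G => y ∈ N) =
      insert 1 (Finset.univ.filter (fun y : G => IsConj y x)) := by
    ext y
    simp only [Finset.mem_filter, Finset.mem_univ, true_and, Finset.mem_insert]
    rw [hNc y]
    constructor
    · rintro (h | h)
      · exact Or.inl h
      · exact Or.inr (h.trans hxc.symm)
    · rintro (h | h)
      · exact Or.inl h
      · exact Or.inr (h.trans hxc)
  rw [h1, h2, h3, Finset.card_insert_of_notMem]
  simp only [Finset.mem_filter, Finset.mem_univ, true_and]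
  intro h
  exact hx1 (isConj_one_right.1 h)

/-- centralizers of nonidentity elements of `N` are Sylow `p`-subgroups -/
theorem two_class_cent_sylow (χ : Cfsg.IrrCharacter G) (c : G) (N : Subgroup G) [hNn : N.Normal]
    (hNc : ∀ g : G, g ∈ N ↔ (g = 1 ∨ IsConj g c))
    (hsupp : ∀ g : G, (χ : G → ℂ) g ≠ 0 ↔ (g = 1 ∨ IsConj g c))
    (hker : ∀ ψ : Cfsg.IrrCharacter G, ψ ≠ χ → (ψ : G → ℂ) c = (ψ : G → ℂ) 1)
    (p : ℕ) [hp : Fact p.Prime] (hNp : IsPGroup p N)
    (x : G) (hx : x ∈ N) (hx1 : x ≠ 1) :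
    ∃ P : Sylow p G, Subgroup.centralizer ({x} : Set G) = P := by
  have hpg : IsPGroup p (Subgroup.centralizer ({x} : Set G)) := by
    rintro ⟨g, hg⟩
    have hgx : g * x = x * g := by
      rw [Subgroup.mem_centralizer_iff] at hg
      exact (hg x (Set.mem_singleton x)).symm
    obtain ⟨k, hk⟩ := two_class_cent_pgroup χ c N hNc hsupp hker p hNp x hx hx1 g hgx
    exact ⟨k, Subtype.ext hk⟩
  have hidx : ¬ p ∣ (Subgroup.centralizer ({x} : Set G)).index := by
    have h1 := card_class_mul_card_centralizer x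
    have h2 := Subgroup.index_mul_card (Subgroup.centralizer ({x} : Set G))
    have h3 : (Subgroup.centralizer ({x} : Set G)).index = Nat.card {y : G // IsConj y x} := by
      have hpos : 0 < Nat.card (Subgroup.centralizer ({x} : Set G)) := Nat.card_pos
      exact Nat.eq_of_mul_eq_mul_right hpos (h2.trans h1.symm)
    rw [h3]
    have h4 := two_class_card_class c N hNc x hx hx1
    have h5 : p ∣ Nat.card N := by
      obtain ⟨k, hk⟩ := IsPGroup.iff_card.1 hNp
      have hk0 : k ≠ 0 := by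
        rintro rfl
        rw [pow_zero] at hk
        have hss : Subsingleton N := (Nat.card_eq_one_iff_unique.1 hk).1
        exact hx1 (congrArg Subtype.val (Subsingleton.elim (⟨x, hx⟩ : N) 1))
      rw [hk]
      exact dvd_pow_self p hk0
    intro h6
    rw [← h4] at h5
    have h7 : p ∣ 1 := (Nat.dvd_add_right h6).1 h5
    exact hp.out.one_lt.ne' (Nat.dvd_one.1 h7)
  exact ⟨hpg.toSylow hidx, (hpg.toSylow_coe hidx).symm⟩

/-- S4837 -/
theorem two_class_sylow (hG : 2 < Nat.card G) (χ : Cfsg.IrrCharacter G)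
    (hχ : Nat.card {C : ConjClasses G // ∃ g ∈ C.carrier, (χ : G → ℂ) g ≠ 0} = 2)
    (p : ℕ) [hp : Fact p.Prime] (N : Subgroup G) [hNn : N.Normal]
    (hN : ∀ g : G, g ∈ N ↔ (χ : G → ℂ) g ≠ 0) (hNp : IsPGroup p N) :
    (∀ x ∈ N, x ≠ 1 → ∃ P : Sylow p G, Subgroup.centralizer ({x} : Set G) = P) ∧
      (∀ μ : Cfsg.IrrCharacter N, (μ : N → ℂ) ≠ (fun _ => (1 : ℂ)) →
        ∃ P : Sylow p G, ∀ g : G, g ∈ (P : Subgroup G) ↔
          ∀ n n' : N, (n' : G) = g * n * g⁻¹ → (μ : N → ℂ) n' = (μ : N → ℂ) n) := by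
  classical
  obtain ⟨c, hc1, hsupp, hker, hχc⟩ := two_class_core hG χ hχ
  have hNc : ∀ g : G, g ∈ N ↔ (g = 1 ∨ IsConj g c) := fun g => (hN g).trans (hsupp g)
  refine ⟨fun x hx hx1 => two_class_cent_sylow χ c N hNc hsupp hker p hNp x hx hx1, ?_⟩
  intro μ hμ
  -- `N` is abelian
  have hab : ∀ a b : N, a * b = b * a := by
    obtain ⟨N', -, -, -, ⟨p', -, hcomm, -⟩, hN', -⟩ := two_class_minimal_normal hG χ hχ
    have hNN' : N' = N := Subgroup.ext (fun g => by rw [hN, hN'])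
    rw [hNN'] at hcomm
    exact isMulCommutative_iff.1 hcomm
  have hlin : (μ : N → ℂ) 1 = 1 := (commutative_iff_degrees.1 hab) μ
  have hmul := linear_char_mul μ.2 hlin
  have hcN : c ∈ N := (hNc c).2 (Or.inr (IsConj.refl c))
  obtain ⟨P₀, hP₀⟩ := two_class_cent_sylow χ c N hNc hsupp hker p hNp c hcN hc1
  have hTmem : ∀ g : G, g ∈ stabChar N (μ : N → ℂ) ↔
      ∀ n n' : N, (n' : G) = g * n * g⁻¹ → (μ : N → ℂ) n' = (μ : N → ℂ) n := by
    intro g
    rw [mem_stabChar]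
    constructor
    · intro h n n' hn'
      have h1 := congrFun h n
      have h2 : conjHom N g n = n' := Subtype.ext hn'.symm
      rw [← h2]
      exact h1
    · intro h
      funext n
      exact h n (conjHom N g n) rfl
  -- the stabilizer is a `p`-group
  have hTp : IsPGroup p (stabChar N (μ : N → ℂ)) := by
    rintro ⟨g, hg⟩
    have ho : orderOf g ≠ 0 := (orderOf_pos g).ne'
    obtain ⟨a, m, hpm, hom⟩ := Nat.exists_eq_pow_mul_and_not_dvd ho p hp.out.ne_one
    have hhm : (g ^ (p ^ a)) ^ m = 1 := by rw [← pow_mul, ← hom, pow_orderOf_eq_one]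
    have hhT : g ^ (p ^ a) ∈ stabChar N (μ : N → ℂ) := Subgroup.pow_mem _ hg _
    refine ⟨a, Subtype.ext ?_⟩
    show g ^ (p ^ a) = 1
    by_contra hne
    have hfix : ∀ x ∈ N, g ^ (p ^ a) * x = x * g ^ (p ^ a) → x = 1 := by
      intro x hx hcx
      by_contra hx1
      obtain ⟨k, hk⟩ := two_class_cent_pgroup χ c N hNc hsupp hker p hNp x hx hx1 _ hcx
      have h1 : orderOf (g ^ (p ^ a)) ∣ p ^ k := orderOf_dvd_of_pow_eq_one hk
      have h2 : orderOf (g ^ (p ^ a)) ∣ m := orderOf_dvd_of_pow_eq_one hhm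
      have h3 : Nat.Coprime (p ^ k) m :=
        Nat.Coprime.pow_left k ((Nat.Prime.coprime_iff_not_dvd hp.out).2 hpm)
      have h4 : orderOf (g ^ (p ^ a)) = 1 := Nat.eq_one_of_dvd_coprimes h3 h1 h2
      exact hne (orderOf_eq_one_iff.1 h4)
    have hf : Function.Injective (fun n : N => n⁻¹ * conjHom N (g ^ (p ^ a)) n) := by
      intro n m' hnm
      have h1 : (n : G)⁻¹ * (g ^ (p ^ a) * n * (g ^ (p ^ a))⁻¹) =
          (m' : G)⁻¹ * (g ^ (p ^ a) * m' * (g ^ (p ^ a))⁻¹) := congrArg Subtype.val hnm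
      have h3 : (n : G)⁻¹ * g ^ (p ^ a) * n = (m' : G)⁻¹ * g ^ (p ^ a) * m' := by
        have h0 := congrArg (fun t => t * g ^ (p ^ a)) h1
        simp only [mul_assoc, inv_mul_cancel, mul_one] at h0
        simpa only [mul_assoc] using h0
      have h2 : g ^ (p ^ a) * ((m' : G) * (n : G)⁻¹) = (m' : G) * (n : G)⁻¹ * g ^ (p ^ a) := by
        calc g ^ (p ^ a) * ((m' : G) * (n : G)⁻¹)
            = (m' : G) * ((m' : G)⁻¹ * g ^ (p ^ a) * m') * (n : G)⁻¹ := by group
          _ = (m' : G) * ((n : G)⁻¹ * g ^ (p ^ a) * n) * (n : G)⁻¹ := by rw [h3]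
          _ = (m' : G) * (n : G)⁻¹ * g ^ (p ^ a) := by group
      have h4 := hfix ((m' : G) * (n : G)⁻¹) (N.mul_mem m'.2 (N.inv_mem n.2)) h2
      apply Subtype.ext
      exact (mul_inv_eq_one.1 h4).symm
    have hsurj := Finite.injective_iff_surjective.1 hf
    apply hμ
    funext n
    obtain ⟨n₀, rfl⟩ := hsurj n
    show (μ : N → ℂ) (n₀⁻¹ * conjHom N (g ^ (p ^ a)) n₀) = 1
    rw [hmul]
    have h5 : (μ : N → ℂ) (conjHom N (g ^ (p ^ a)) n₀) = (μ : N → ℂ) n₀ :=
      congrFun ((mem_stabChar N _ _).1 hhT) n₀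
    rw [h5, ← hmul, inv_mul_cancel, hlin]
  -- counting
  have hcount := card_orbit_mul_card_stab N (μ : N → ℂ)
  have : Fintype N := Fintype.ofFinite N
  have : Fintype (Cfsg.IrrCharacter N) := Fintype.ofFinite _
  have hirrN : Nat.card (Cfsg.IrrCharacter N) = Nat.card N := by
    have h1 := sum_sq_degrees_nat (K := N) (fun _ => 1) (fun φ => by
      rw [(commutative_iff_degrees.1 hab) φ, Nat.cast_one])
    rw [Nat.card_eq_fintype_card (α := Cfsg.IrrCharacter N), ← h1]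
    simp
  have horb : Nat.card {ψ : N → ℂ // ∃ g : G, ψ = (μ : N → ℂ) ∘ conjHom N g} + 1 ≤
      Nat.card N := by
    have hfin : ({ψ : N → ℂ | Cfsg.IsIrrCharacter N ψ} : Set (N → ℂ)).Finite :=
      Set.finite_coe_iff.1 (show Finite (Cfsg.IrrCharacter N) from inferInstance)
    have h1 : Nat.card {ψ : N → ℂ // ∃ g : G, ψ = (μ : N → ℂ) ∘ conjHom N g} =
        ({ψ : N → ℂ | ∃ g : G, ψ = (μ : N → ℂ) ∘ conjHom N g} : Set (N → ℂ)).ncard :=
      Nat.card_coe_set_eq _
    have h2 : Nat.card (Cfsg.IrrCharacter N) =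
        ({ψ : N → ℂ | Cfsg.IsIrrCharacter N ψ} : Set (N → ℂ)).ncard :=
      Nat.card_coe_set_eq _
    have h3 : ({ψ : N → ℂ | ∃ g : G, ψ = (μ : N → ℂ) ∘ conjHom N g} : Set (N → ℂ)) ⊆
        {ψ : N → ℂ | Cfsg.IsIrrCharacter N ψ} \ {fun _ => 1} := by
      rintro ψ ⟨g, rfl⟩
      refine ⟨isIrrCharacter_conjHom N g μ.2, ?_⟩
      intro h
      rw [Set.mem_singleton_iff] at h
      apply hμ
      funext n
      obtain ⟨n₀, rfl⟩ := conjHom_surjective N g n
      exact congrFun h n₀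
    have h4 := Set.ncard_le_ncard h3 (hfin.subset Set.sdiff_subset)
    have h5 := Set.ncard_sdiff_singleton_add_one
      (show (fun _ => (1 : ℂ)) ∈ ({ψ : N → ℂ | Cfsg.IsIrrCharacter N ψ} : Set (N → ℂ)) from
        isIrrCharacter_one N) hfin
    rw [h1, ← hirrN, h2]
    omega
  have hm := two_class_card_class c N hNc c hcN hc1
  have hcl := card_class_mul_card_centralizer c
  have hcent : Nat.card (Subgroup.centralizer ({c} : Set G)) ≤
      Nat.card (stabChar N (μ : N → ℂ)) := by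
    have h1 : Nat.card {ψ : N → ℂ // ∃ g : G, ψ = (μ : N → ℂ) ∘ conjHom N g} ≤
        Nat.card {y : G // IsConj y c} := by omega
    have h2 : Nat.card {y : G // IsConj y c} * Nat.card (Subgroup.centralizer ({c} : Set G)) ≤
        Nat.card {y : G // IsConj y c} * Nat.card (stabChar N (μ : N → ℂ)) := by
      rw [hcl, ← hcount]
      exact Nat.mul_le_mul_right _ h1
    have hpos : 0 < Nat.card {y : G // IsConj y c} := by
      have hne : Nonempty {y : G // IsConj y c} := ⟨⟨c, IsConj.refl c⟩⟩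
      exact Nat.card_pos
    exact Nat.le_of_mul_le_mul_left h2 hpos
  obtain ⟨P₁, hP₁⟩ := hTp.exists_le_sylow
  have hcard : Nat.card (P₁ : Subgroup G) = Nat.card (Subgroup.centralizer ({c} : Set G)) := by
    rw [hP₀, P₁.card_eq_multiplicity, P₀.card_eq_multiplicity]
  have hTP : stabChar N (μ : N → ℂ) = P₁ :=
    Subgroup.eq_of_le_of_card_ge hP₁ (by rw [hcard]; exact hcent)
  exact ⟨P₁, fun g => by rw [← hTP]; exact hTmem g⟩

end Cfsg.Agent.Lib.Helper8
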