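import Mathlib
import Cfsg.Prelude.Def_Characters
import Cfsg.Prelude.Def_Blocks
import Cfsg.Prelude.Def_Transfer
import Cfsg.Agent.Lib.Lead.CharMisc
import Cfsg.Agent.Lib.Lead.CharRing
import Cfsg.Agent.Lib.Lead.CharQuot
import Cfsg.Agent.Lib.Lead.CharCenter
import Cfsg.Agent.Lib.Lead.CharBurnside
import Cfsg.Agent.Lib.Lead.CharIto
import Cfsg.Agent.Lib.Lead.CharArtin
import Cfsg.Agent.Lib.Lead.CharNormal
import Cfsg.Agent.Lib.Helper8.CharQuotient
import Cfsg.Agent.Lib.Helper8.CharTwoClass
import Cfsg.Agent.Lib.Helper8.CharTwoClass2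

set_option autoImplicit false

namespace Cfsg.Agent.Lib.Helper8

open Cfsg.Agent.Lib.Lead

open scoped ComplexConjugate Pointwise commutatorElement

variable {G : Type*} [Group G] [Finite G]

/-- outside `N`, centralizer orders agree with those in the quotient -/
theorem two_class_cent_quot (χ : Cfsg.IrrCharacter G) (c : G) (N : Subgroup G) [N.Normal]
    (hNc : ∀ g : G, g ∈ N ↔ (g = 1 ∨ IsConj g c))
    (hsupp : ∀ g : G, (χ : G → ℂ) g ≠ 0 ↔ (g = 1 ∨ IsConj g c))
    (hker : ∀ ψ : Cfsg.IrrCharacter G, ψ ≠ χ → (ψ : G → ℂ) c = (ψ : G → ℂ) 1)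
    (x : G) (hx : x ∉ N) :
    Nat.card (Subgroup.centralizer ({x} : Set G)) =
      Nat.card (Subgroup.centralizer ({QuotientGroup.mk' N x} : Set (G ⧸ N))) := by
  classical
  have : Fintype G := Fintype.ofFinite G
  have : Fintype (Cfsg.IrrCharacter G) := Fintype.ofFinite _
  have : Fintype (G ⧸ N) := Fintype.ofFinite _
  have : Fintype (Cfsg.IrrCharacter (G ⧸ N)) := Fintype.ofFinite _
  have h1 := normSq_sum_irr x
  have h2 := normSq_sum_irr (QuotientGroup.mk' N x)
  have h3 := sum_over_normal N (fun f : G → ℂ => Complex.normSq (f x))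
  have h4 : ∑ ψ ∈ Finset.univ.filter (fun ψ : Cfsg.IrrCharacter G =>
        ∀ n ∈ N, (ψ : G → ℂ) n = (ψ : G → ℂ) 1), Complex.normSq ((ψ : G → ℂ) x) =
      ∑ ψ : Cfsg.IrrCharacter G, Complex.normSq ((ψ : G → ℂ) x) := by
    apply Finset.sum_filter_of_ne
    intro ψ _ hne n hn
    have hψ : ψ ≠ χ := by
      rintro rfl
      apply hne
      have h0 : (ψ : G → ℂ) x = 0 := by
        by_contra h
        exact hx ((hNc x).2 ((hsupp x).1 h))
      rw [h0, map_zero]
    rcases (hNc n).1 hn with h | h
    · rw [h]
    · obtain ⟨u, hu⟩ := isConj_iff.1 h.symm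
      rw [← hu, isClassFunction_of_irr ψ.2 c u, hker ψ hψ]
  have h5 : (Nat.card (Subgroup.centralizer ({x} : Set G)) : ℝ) =
      (Nat.card (Subgroup.centralizer ({QuotientGroup.mk' N x} : Set (G ⧸ N))) : ℝ) := by
    rw [← h1, ← h2, ← h4, h3]
    rfl
  exact_mod_cast h5

/-- a normal `p`-subgroup lies in every Sylow `p`-subgroup -/
theorem normal_pgroup_le_sylow8 (p : ℕ) [Fact p.Prime] (N : Subgroup G) [hNn : N.Normal]
    (hNp : IsPGroup p N) (P : Sylow p G) : N ≤ P := by
  obtain ⟨Q, hQ⟩ := hNp.exists_le_sylow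
  obtain ⟨g, hg⟩ := MulAction.exists_smul_eq G Q P
  intro n hn
  have h1 : g⁻¹ * n * g ∈ N := by
    have h0 := hNn.conj_mem n hn g⁻¹
    rwa [inv_inv] at h0
  have h2 : g⁻¹ * n * g ∈ (Q : Subgroup G) := hQ h1
  have h3 : n ∈ (MulAut.conj g • (Q : Subgroup G)) :=
    (Subgroup.mem_smul_pointwise_iff_exists _ _ _).2 ⟨g⁻¹ * n * g, h2, by
      rw [MulAut.smul_def, MulAut.conj_apply]
      group⟩
  rw [← hg]
  exact h3

/-- S4838 -/
theorem two_class_structure (hG : 2 < Nat.card G) (χ : Cfsg.IrrCharacter G)
    (hχ : Nat.card {C : ConjClasses G // ∃ g ∈ C.carrier, (χ : G → ℂ) g ≠ 0} = 2)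
    (p : ℕ) [hp : Fact p.Prime] (N : Subgroup G) [hNn : N.Normal]
    (hN : ∀ g : G, g ∈ N ↔ (χ : G → ℂ) g ≠ 0) (hNp : IsPGroup p N) (P : Sylow p G) :
    (∀ x : G, x ∉ N → Nat.card (Subgroup.centralizer ({x} : Set G)) =
        Nat.card (Subgroup.centralizer ({(x : G ⧸ N)} : Set (G ⧸ N)))) ∧
      ((Subgroup.center ↥(P : Subgroup G)).map (P : Subgroup G).subtype ≤ N ∧
        ((Subgroup.center ↥(P : Subgroup G)).map (P : Subgroup G).subtype = N ↔
          (P : Subgroup G).Normal)) ∧
      (∃ i : ℕ, Subgroup.upperCentralSeries ↥(P : Subgroup G) i =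
        N.subgroupOf (P : Subgroup G)) := by
  classical
  obtain ⟨c, hc1, hsupp, hker, hχc⟩ := two_class_core hG χ hχ
  have hNc : ∀ g : G, g ∈ N ↔ (g = 1 ∨ IsConj g c) := fun g => (hN g).trans (hsupp g)
  have hcN : c ∈ N := (hNc c).2 (Or.inr (IsConj.refl c))
  have hNP : N ≤ (P : Subgroup G) := normal_pgroup_le_sylow8 p N hNp P
  have ha := two_class_cent_quot χ c N hNc hsupp hker
  obtain ⟨k, hk⟩ := IsPGroup.iff_card.1 hNp
  have hk0 : k ≠ 0 := by
    rintro rfl
    rw [pow_zero] at hk
    have hss : Subsingleton N := (Nat.card_eq_one_iff_unique.1 hk).1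
    exact hc1 (congrArg Subtype.val (Subsingleton.elim (⟨c, hcN⟩ : N) 1))
  have hpN : p ∣ Nat.card N := by
    rw [hk]
    exact dvd_pow_self p hk0
  have hPcard := P.card_eq_multiplicity
  have hGN := Subgroup.card_eq_card_quotient_mul_card_subgroup N
  have hb1 : (Subgroup.center ↥(P : Subgroup G)).map (P : Subgroup G).subtype ≤ N := by
    rintro _ ⟨z, hz, rfl⟩
    by_contra hzN
    have hPle : (P : Subgroup G) ≤ Subgroup.centralizer ({((P : Subgroup G).subtype z)} : Set G) := by
      intro y hy
      rw [Subgroup.mem_centralizer_iff]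
      intro h hh
      rw [Set.mem_singleton_iff.1 hh]
      have h0 := Subgroup.mem_center_iff.1 hz ⟨y, hy⟩
      exact (congrArg Subtype.val h0).symm
    have h1 := Subgroup.card_dvd_of_le hPle
    rw [ha _ hzN] at h1
    have h2 := Subgroup.card_subgroup_dvd_card
      (Subgroup.centralizer ({QuotientGroup.mk' N ((P : Subgroup G).subtype z)} : Set (G ⧸ N)))
    have h5 : Nat.card (P : Subgroup G) * p ∣ Nat.card G := by
      rw [hGN]
      exact mul_dvd_mul (h1.trans h2) hpN
    rw [hPcard, ← pow_succ] at h5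
    exact Nat.pow_succ_factorization_not_dvd Nat.card_pos.ne' hp.out h5
  obtain ⟨P₀, hP₀⟩ := two_class_cent_sylow χ c N hNc hsupp hker p hNp c hcN hc1
  refine ⟨fun x hx => ha x hx, ⟨hb1, ?_⟩, ?_⟩
  · constructor
    · intro hZ
      have hcZ : c ∈ (Subgroup.center ↥(P : Subgroup G)).map (P : Subgroup G).subtype := by
        rw [hZ]
        exact hcN
      have hPc : (P : Subgroup G) = Subgroup.centralizer ({c} : Set G) := by
        apply Subgroup.eq_of_le_of_card_ge
        · intro y hy
          obtain ⟨z, hz, hzc⟩ := hcZ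
          rw [Subgroup.mem_centralizer_iff]
          intro h hh
          rw [Set.mem_singleton_iff.1 hh, ← hzc]
          have h0 := Subgroup.mem_center_iff.1 hz ⟨y, hy⟩
          exact (congrArg Subtype.val h0).symm
        · rw [hP₀, P.card_eq_multiplicity, P₀.card_eq_multiplicity]
      constructor
      intro n hn g
      rw [hPc, Subgroup.mem_centralizer_iff]
      intro h hh
      rw [Set.mem_singleton_iff.1 hh]
      have h1 : g⁻¹ * c * g ∈ N := by
        have h0 := hNn.conj_mem c hcN g⁻¹
        rwa [inv_inv] at h0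
      rw [← hZ] at h1
      obtain ⟨z, hz, hzc⟩ := h1
      have h2 := Subgroup.mem_center_iff.1 hz ⟨n, hn⟩
      have h3 : n * (g⁻¹ * c * g) = (g⁻¹ * c * g) * n := by
        rw [← hzc]
        exact congrArg Subtype.val h2
      calc c * (g * n * g⁻¹) = g * ((g⁻¹ * c * g) * n) * g⁻¹ := by group
        _ = g * (n * (g⁻¹ * c * g)) * g⁻¹ := by rw [h3]
        _ = g * n * g⁻¹ * c := by group
    · intro hPn
      apply le_antisymm hb1
      intro n hn
      have hnP : n ∈ (P : Subgroup G) := hNP hn
      refine ⟨⟨n, hnP⟩, ?_, rfl⟩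
      show (⟨n, hnP⟩ : ↥(P : Subgroup G)) ∈ Subgroup.center ↥(P : Subgroup G)
      rw [Subgroup.mem_center_iff]
      intro y
      apply Subtype.ext
      show (y : G) * n = n * y
      by_cases hn1 : n = 1
      · rw [hn1, mul_one, one_mul]
      · obtain ⟨Pn, hPn'⟩ := two_class_cent_sylow χ c N hNc hsupp hker p hNp n hn hn1
        have hPP : Pn = P := by
          obtain ⟨g, hg⟩ := MulAction.exists_smul_eq G P Pn
          rw [← hg]
          exact Sylow.smul_eq_of_normal
        have hy : (y : G) ∈ Subgroup.centralizer ({n} : Set G) := by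
          rw [hPn', hPP]
          exact y.2
        rw [Subgroup.mem_centralizer_iff] at hy
        exact (hy n (Set.mem_singleton n)).symm
  · by_contra hcon
    have hne : ∀ i, Subgroup.upperCentralSeries ↥(P : Subgroup G) i ≠
        N.subgroupOf (P : Subgroup G) := fun i h => hcon ⟨i, h⟩
    have hcardN' : Nat.card (N.subgroupOf (P : Subgroup G)) = Nat.card N :=
      Nat.card_congr (Subgroup.subgroupOfEquivOfLe hNP).toEquiv
    have hle : ∀ i, Subgroup.upperCentralSeries ↥(P : Subgroup G) i ≤
        N.subgroupOf (P : Subgroup G) := by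
      intro i
      induction i with
      | zero =>
        rw [Subgroup.upperCentralSeries_zero]
        exact bot_le
      | succ i ih =>
        intro z hz
        rw [Subgroup.mem_subgroupOf]
        by_contra hzN
        have hmem : ∀ y : {y : ↥(P : Subgroup G) // IsConj y z},
            y.1 * z⁻¹ ∈ Subgroup.upperCentralSeries ↥(P : Subgroup G) i := by
          intro y
          obtain ⟨u, hu⟩ := isConj_iff.1 y.2.symm
          rw [← hu]
          have h0 := (Subgroup.mem_upperCentralSeries_succ_iff.1 hz) u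
          have h2 : u * z * u⁻¹ * z⁻¹ = ⁅z, u⁆⁻¹ := by
            rw [commutatorElement_def]
            group
          rw [h2]
          exact Subgroup.inv_mem _ h0
        have h1 : Nat.card {y : ↥(P : Subgroup G) // IsConj y z} ≤
            Nat.card (Subgroup.upperCentralSeries ↥(P : Subgroup G) i) := by
          apply Nat.card_le_card_of_injective (fun y =>
            (⟨y.1 * z⁻¹, hmem y⟩ : Subgroup.upperCentralSeries ↥(P : Subgroup G) i))
          intro y y' hyy'
          have h0 : y.1 * z⁻¹ = y'.1 * z⁻¹ := congrArg Subtype.val hyy'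
          exact Subtype.ext (mul_right_cancel h0)
        have h3 : Nat.card (Subgroup.upperCentralSeries ↥(P : Subgroup G) i) < Nat.card N := by
          rw [← hcardN']
          by_contra hlt
          exact hne i (Subgroup.eq_of_le_of_card_ge ih (not_lt.1 hlt))
        have h4 := card_class_mul_card_centralizer z
        have h5 : Nat.card (Subgroup.centralizer ({z} : Set ↥(P : Subgroup G))) ∣
            Nat.card (G ⧸ N) := by
          have h6 : (Subgroup.centralizer ({z} : Set ↥(P : Subgroup G))).map
              (P : Subgroup G).subtype ≤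
              Subgroup.centralizer ({(z : G)} : Set G) := by
            rintro _ ⟨y, hy, rfl⟩
            have hy' : y ∈ Subgroup.centralizer ({z} : Set ↥(P : Subgroup G)) := hy
            rw [Subgroup.mem_centralizer_iff] at hy' ⊢
            intro h hh
            rw [Set.mem_singleton_iff.1 hh]
            exact congrArg Subtype.val (hy' z (Set.mem_singleton z))
          have h7 := Subgroup.card_dvd_of_le h6
          rw [Subgroup.card_map_of_injective (Subgroup.subtype_injective _), ha _ hzN] at h7
          exact h7.trans (Subgroup.card_subgroup_dvd_card _)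
        have h8 : Nat.card (Subgroup.centralizer ({z} : Set ↥(P : Subgroup G))) ∣
            p ^ (Nat.card G).factorization p := by
          rw [← hPcard, ← h4]
          exact dvd_mul_left _ _
        obtain ⟨j, hj, hj2⟩ := (Nat.dvd_prime_pow hp.out).1 h8
        have h9 : p ^ (j + k) ∣ Nat.card G := by
          rw [hGN, pow_add, ← hk, ← hj2]
          exact mul_dvd_mul h5 dvd_rfl
        have h10 : j + k ≤ (Nat.card G).factorization p :=
          (hp.out.pow_dvd_iff_le_factorization Nat.card_pos.ne').1 h9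
        have h11 : Nat.card {y : ↥(P : Subgroup G) // IsConj y z} =
            p ^ ((Nat.card G).factorization p - j) := by
          have h12 : p ^ j * p ^ ((Nat.card G).factorization p - j) =
              p ^ (Nat.card G).factorization p := by
            rw [← pow_add]
            congr 1
            omega
          rw [hj2, hPcard, ← h12, mul_comm] at h4
          exact Nat.eq_of_mul_eq_mul_left (pow_pos hp.out.pos j) h4
        have h12 : p ^ k ≤ p ^ ((Nat.card G).factorization p - j) :=
          Nat.pow_le_pow_right hp.out.pos (by omega)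
        rw [hk] at h3
        omega
    have hnil : Group.IsNilpotent ↥(P : Subgroup G) := P.isPGroup'.isNilpotent
    obtain ⟨n, hn⟩ := hnil.nilpotent'
    apply hne n
    have h0 := hle n
    rw [hn] at h0 ⊢
    exact (top_le_iff.1 h0).symm

end Cfsg.Agent.Lib.Helper8
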