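import Mathlib
import Cfsg.Agent.Lib.Lead.SL2Sylow

/-! Automorphism groups of groups of order `p ^ 2` with no normal `p`-subgroup contain `SL₂(p)`. -/

set_option autoImplicit false

namespace Cfsg.Agent.Lib.Helper8

/-- the automorphism group of an elementary abelian group of order `p ^ 2` embeds in `GL₂(p)`. -/
theorem exists_mulAut_gl2_8 (p : ℕ) [Fact p.Prime] (H : Type*) [Group H] [Finite H]
    (hcard : Nat.card H = p ^ 2) (hcomm : ∀ a b : H, a * b = b * a) (hexp : ∀ a : H, a ^ p = 1) :
    ∃ ε : MulAut H →* Matrix.GeneralLinearGroup (Fin 2) (ZMod p), Function.Injective ε := by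
  classical
  letI : CommGroup H := { ‹Group H› with mul_comm := hcomm }
  letI : Module (ZMod p) (Additive H) := AddCommGroup.zmodModule (n := p) (fun x => by
    show Additive.ofMul (Additive.toMul x ^ p) = 0
    rw [hexp]; rfl)
  have hF : Finite (Additive H) := ‹Finite H›
  have hMF : Module.Finite (ZMod p) (Additive H) := Module.Finite.of_finite
  have hfin : Module.finrank (ZMod p) (Additive H) = 2 := by
    have h1 : Nat.card (Additive H) = Nat.card (ZMod p) ^ Module.finrank (ZMod p) (Additive H) :=
      @Module.natCard_eq_pow_finrank (ZMod p) (Additive H) _ _ _ hMF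
    rw [Nat.card_zmod] at h1
    have h2 : Nat.card (Additive H) = p ^ 2 := hcard
    rw [h2] at h1
    exact (Nat.pow_right_injective (Fact.out : p.Prime).two_le h1).symm
  have hFree : Module.Free (ZMod p) (Additive H) := Module.Free.of_divisionRing (ZMod p) (Additive H)
  let b : Module.Basis (Fin 2) (ZMod p) (Additive H) :=
    @Module.finBasisOfFinrankEq (ZMod p) (Additive H) _ _ _ hFree _ hMF 2 hfin
  let L : MulAut H → (Additive H →ₗ[ZMod p] Additive H) := fun α =>
    AddMonoidHom.toZModLinearMap p (MonoidHom.toAdditive α.toMonoidHom)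
  let f : MulAut H →* Matrix (Fin 2) (Fin 2) (ZMod p) :=
    { toFun := fun α => LinearMap.toMatrix b b (L α)
      map_one' := by
        have : L 1 = LinearMap.id := by ext x; rfl
        rw [this, LinearMap.toMatrix_id]
      map_mul' := fun α β => by
        have : L (α * β) = (L α).comp (L β) := by ext x; rfl
        rw [this, LinearMap.toMatrix_comp b b b] }
  refine ⟨f.toHomUnits, ?_⟩
  intro α β h
  have h1 : f α = f β := congrArg Units.val h
  have h2 : L α = L β := by
    have h3 := congrArg (Matrix.toLin b b) h1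
    change Matrix.toLin b b (LinearMap.toMatrix b b (L α)) =
      Matrix.toLin b b (LinearMap.toMatrix b b (L β)) at h3
    rwa [Matrix.toLin_toMatrix, Matrix.toLin_toMatrix] at h3
  ext x
  exact LinearMap.congr_fun h2 (Additive.ofMul x)

/-- A group of order `p ^ 2` with a group of automorphisms of order divisible by `p` without
nontrivial normal `p`-subgroups is elementary abelian, and the group of automorphisms has two
Sylow `p`-subgroups. -/
theorem mulAut_order_p_sq8 (p : ℕ) [Fact p.Prime] (H : Type*) [Group H] [Finite H]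
    (hcard : Nat.card H = p ^ 2) (X : Subgroup (MulAut H)) (hp : p ∣ Nat.card X)
    (hcore : ∀ N : Subgroup X, N.Normal → IsPGroup p N → N = ⊥) :
    (∀ a b : H, a * b = b * a) ∧ (∀ a : H, a ^ p = 1) ∧ ∃ P Q : Sylow p X, P ≠ Q := by
  have hpp : p.Prime := Fact.out
  have hnn : ∀ P : Sylow p X, ¬ (P : Subgroup X).Normal := by
    intro P hn
    exact P.ne_bot_of_dvd_card hp (hcore _ hn P.2)
  refine ⟨IsPGroup.commutative_of_card_eq_prime_sq hcard, ?_, ?_⟩
  · intro a
    by_contra ha
    have h1 : orderOf a ∣ p ^ 2 := hcard ▸ orderOf_dvd_natCard a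
    obtain ⟨k, hk, hk2⟩ := (Nat.dvd_prime_pow hpp).1 h1
    have hk3 : k = 2 := by
      by_contra hne
      have hk1 : k ≤ 1 := by omega
      apply ha
      have : orderOf a ∣ p := by
        rw [hk2]
        calc p ^ k ∣ p ^ 1 := Nat.pow_dvd_pow p hk1
          _ = p := pow_one p
      exact orderOf_dvd_iff_pow_eq_one.1 this
    have hcyc : IsCyclic H := isCyclic_of_orderOf_eq_card a (by rw [hk2, hk3, hcard])
    have hXc : ∀ α β : MulAut H, α * β = β * α := by
      intro α β
      apply (IsCyclic.mulAutMulEquiv H).injective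
      rw [map_mul, map_mul, mul_comm]
    obtain ⟨P⟩ : Nonempty (Sylow p X) := inferInstance
    apply hnn P
    refine ⟨fun n hn g => ?_⟩
    have : g * n * g⁻¹ = n := by
      apply Subtype.ext
      show (g : MulAut H) * n * (g : MulAut H)⁻¹ = n
      rw [hXc, ← mul_assoc, inv_mul_cancel, one_mul]
    rw [this]; exact hn
  · by_contra hno
    obtain ⟨P⟩ : Nonempty (Sylow p X) := inferInstance
    have : Subsingleton (Sylow p X) := ⟨fun A B => by
      by_contra hAB
      exact hno ⟨A, B, hAB⟩⟩
    exact hnn P (Sylow.normal_of_subsingleton P)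

/-- A finite subgroup of `GL₂(p)` with two Sylow `p`-subgroups contains `SL₂(p)`. -/
theorem exists_sl2_of_two_sylow8 (p : ℕ) [Fact p.Prime] {X : Type*} [Group X] [Finite X]
    (ε : X →* Matrix.GeneralLinearGroup (Fin 2) (ZMod p)) (hε : Function.Injective ε)
    (P Q : Sylow p X) (hPQ : P ≠ Q) :
    ∃ K : Subgroup X, Nonempty (K ≃* Matrix.SpecialLinearGroup (Fin 2) (ZMod p)) := by
  classical
  have hpp : p.Prime := Fact.out
  have := Cfsg.Agent.Lib.Lead.sl2_finite (F := ZMod p)
  let T : Matrix.SpecialLinearGroup (Fin 2) (ZMod p) →* Matrix.GeneralLinearGroup (Fin 2) (ZMod p) :=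
    Matrix.SpecialLinearGroup.toGL
  have hT : Function.Injective T := Matrix.SpecialLinearGroup.toGL_injective
  -- elements of `p`-power order have determinant one
  have key1 : ∀ g : Matrix.GeneralLinearGroup (Fin 2) (ZMod p), (∃ k : ℕ, g ^ p ^ k = 1) →
      g ∈ T.range := by
    rintro g ⟨k, hk⟩
    have hd1 : Matrix.GeneralLinearGroup.det g ^ p ^ k = 1 := by
      rw [← map_pow, hk, map_one]
    have hd2 : Matrix.GeneralLinearGroup.det g ^ (p - 1) = 1 :=
      ZMod.units_pow_card_sub_one_eq_one p _
    have ho1 : orderOf (Matrix.GeneralLinearGroup.det g) ∣ p ^ k := orderOf_dvd_of_pow_eq_one hd1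
    have ho2 : orderOf (Matrix.GeneralLinearGroup.det g) ∣ p - 1 := orderOf_dvd_of_pow_eq_one hd2
    have hcop : Nat.Coprime (p ^ k) (p - 1) := by
      apply Nat.Coprime.pow_left
      rw [Nat.Prime.coprime_iff_not_dvd hpp]
      intro hd
      have := Nat.le_of_dvd (by have := hpp.two_le; omega) hd
      have := hpp.two_le
      omega
    have ho : orderOf (Matrix.GeneralLinearGroup.det g) = 1 :=
      Nat.eq_one_of_dvd_coprimes hcop ho1 ho2
    have hdet : Matrix.GeneralLinearGroup.det g = 1 := orderOf_eq_one_iff.1 ho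
    have hdet' : Matrix.det (g : Matrix (Fin 2) (Fin 2) (ZMod p)) = 1 := by
      have := congrArg Units.val hdet
      simpa using this
    exact ⟨⟨(g : Matrix (Fin 2) (Fin 2) (ZMod p)), hdet'⟩, Units.ext rfl⟩
  -- the Sylow subgroups of `SL₂(p)` have order `p`
  have hcardR : ∀ R : Sylow p (Matrix.SpecialLinearGroup (Fin 2) (ZMod p)),
      Nat.card (R : Subgroup (Matrix.SpecialLinearGroup (Fin 2) (ZMod p))) = p := by
    intro R
    obtain ⟨P₀, hP₀⟩ := Cfsg.Agent.Lib.Lead.exists_sylow_eq_sl2U (F := ZMod p) p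
    have h0 : Nat.card (P₀ : Subgroup (Matrix.SpecialLinearGroup (Fin 2) (ZMod p))) = p := by
      rw [hP₀, Cfsg.Agent.Lib.Lead.card_sl2U_range, ZMod.card]
    rw [R.card_eq_multiplicity, ← P₀.card_eq_multiplicity, h0]
  -- Sylow subgroups of `X` are not trivial
  have hnb : ∀ A : Sylow p X, (A : Subgroup X) ≠ ⊥ := by
    intro A hA
    have h1 : ∀ B : Sylow p X, (B : Subgroup X) = ⊥ := by
      intro B
      apply Subgroup.eq_bot_of_card_eq
      rw [B.card_eq_multiplicity, ← A.card_eq_multiplicity, hA, Subgroup.card_bot]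
    exact hPQ (Sylow.ext (by rw [h1 P, h1 Q]))
  -- transporting a Sylow subgroup of `X` to a Sylow subgroup of `SL₂(p)`
  have key2 : ∀ A : Sylow p X, ∃ R : Sylow p (Matrix.SpecialLinearGroup (Fin 2) (ZMod p)),
      (R : Subgroup (Matrix.SpecialLinearGroup (Fin 2) (ZMod p))).map T =
        (A : Subgroup X).map ε := by
    intro A
    have hle : (A : Subgroup X).map ε ≤ T.range := by
      rintro _ ⟨a, ha, rfl⟩
      apply key1
      obtain ⟨k, hk⟩ := A.2 ⟨a, ha⟩
      refine ⟨k, ?_⟩
      have hk' : a ^ p ^ k = 1 := congrArg Subtype.val hk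
      rw [← map_pow, hk', map_one]
    have hpg : IsPGroup p (((A : Subgroup X).map ε).comap T) :=
      (A.2.map ε).comap_of_injective T hT
    obtain ⟨R, hR⟩ := hpg.exists_le_sylow
    have hmap : (((A : Subgroup X).map ε).comap T).map T = (A : Subgroup X).map ε :=
      Subgroup.map_comap_eq_self hle
    have hne : ((A : Subgroup X).map ε).comap T ≠ ⊥ := by
      intro hb
      rw [hb, Subgroup.map_bot] at hmap
      apply hnb A
      rw [eq_bot_iff]
      intro a ha
      have : ε a ∈ (⊥ : Subgroup (Matrix.GeneralLinearGroup (Fin 2) (ZMod p))) := by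
        rw [hmap]; exact ⟨a, ha, rfl⟩
      rw [Subgroup.mem_bot] at this
      rw [Subgroup.mem_bot]
      exact hε (this.trans (map_one ε).symm)
    have hcd : Nat.card (((A : Subgroup X).map ε).comap T) ∣ p := by
      have h := Subgroup.card_dvd_of_le hR
      rwa [hcardR R] at h
    have hc : Nat.card (((A : Subgroup X).map ε).comap T) = p := by
      rcases (Nat.dvd_prime hpp).1 hcd with h | h
      · exact absurd (Subgroup.eq_bot_of_card_eq _ h) hne
      · exact h
    have heq : ((A : Subgroup X).map ε).comap T =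
        (R : Subgroup (Matrix.SpecialLinearGroup (Fin 2) (ZMod p))) :=
      Subgroup.eq_of_le_of_card_ge hR (by rw [hc, hcardR R])
    exact ⟨R, by rw [← heq, hmap]⟩
  obtain ⟨R₁, hR₁⟩ := key2 P
  obtain ⟨R₂, hR₂⟩ := key2 Q
  have hne : R₁ ≠ R₂ := by
    intro h
    apply hPQ
    apply Sylow.ext
    apply Subgroup.map_injective hε
    rw [← hR₁, ← hR₂, h]
  have hsup := Cfsg.Agent.Lib.Lead.sl2_sylow_sup (F := ZMod p) p R₁ R₂ hne
  have hrange : T.range ≤ ε.range := by
    rw [MonoidHom.range_eq_map, ← hsup, Subgroup.map_sup, hR₁, hR₂]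
    apply sup_le
    · exact Subgroup.map_le_range ε _
    · exact Subgroup.map_le_range ε _
  refine ⟨T.range.comap ε, ⟨?_⟩⟩
  have hmap : (T.range.comap ε).map ε = T.range := Subgroup.map_comap_eq_self hrange
  exact (Subgroup.equivMapOfInjective (T.range.comap ε) ε hε).trans
    ((MulEquiv.subgroupCongr hmap).trans (MonoidHom.ofInjective hT).symm)

end Cfsg.Agent.Lib.Helper8
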