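import Mathlib
import Cfsg.Prelude.Def_FusionSystem
import Cfsg.Prelude.Def_FusionComponents
import Cfsg.Agent.Lib.Helper8.FusionAbelian
import Cfsg.Agent.Lib.Helper8.FusionHypFactor
import Cfsg.Agent.Lib.Helper8.FusionRS
import Cfsg.Agent.Lib.Helper8.Fusion2

set_option autoImplicit false

namespace Cfsg.Agent.Lib.Helper8

open Cfsg Cfsg.FusionSystem

variable {Ω : Type*} [Group Ω] {S : Subgroup Ω}

theorem fs_central_stronglyClosed (F : FusionSystem S) {Q : Subgroup Ω} (hQ : F.IsCentral Q) :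
    F.StronglyClosed Q := by
  refine ⟨hQ.1, fun R hR φ hφ x => ?_⟩
  obtain ⟨ψ, hψ, h1, h2⟩ := hQ.2 R φ hφ
  have e : Subgroup.inclusion (le_sup_left : R ≤ R ⊔ Q) x =
      Subgroup.inclusion (le_sup_right : Q ≤ R ⊔ Q) ⟨x, hR x.2⟩ := Subtype.ext rfl
  rw [← h1 x, e, h2]
  exact hR x.2

theorem fs_autGroup_isPGroup_of_inner (F : FusionSystem S) [Finite S] (p : ℕ) [Fact p.Prime]
    (hS : IsPGroup p S)
    (hinner : ∀ P : Subgroup Ω, F.Hom P = (innerFusionSystem S).Hom P) (P : Subgroup Ω)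
    (hPS : P ≤ S) : IsPGroup p (F.autGroup P) := by
  apply (autInducedBy_isPGroup hS P).to_le
  intro α hα
  have h := (mem_autGroup_iff F hPS α).1 hα
  unfold FsIso at h
  rw [hinner P] at h
  obtain ⟨-, g, hg, hgx⟩ := h
  exact (mem_autInducedBy_iff S P α).2 ⟨g, hg, fun x => hgx x⟩

theorem pResidual_eq_bot_of_isPGroup {A : Type*} [Group A] {p : ℕ} [Fact p.Prime]
    (hA : IsPGroup p A) : pResidual p A = ⊥ := by
  unfold pResidual
  rw [Subgroup.closure_eq_bot_iff]
  intro g hg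
  obtain ⟨m, hm⟩ := hA g
  have h2 : orderOf g ∣ p ^ m := orderOf_dvd_of_pow_eq_one hm
  have h3 : Nat.Coprime (orderOf g) (p ^ m) := Nat.Coprime.pow_right m hg
  have h4 : orderOf g = 1 := Nat.eq_one_of_dvd_coprimes h3 dvd_rfl h2
  exact orderOf_eq_one_iff.1 h4

theorem hyperfocal_eq_bot_of_inner (F : FusionSystem S) [Finite S] (p : ℕ) [Fact p.Prime]
    (hS : IsPGroup p S)
    (hinner : ∀ P : Subgroup Ω, F.Hom P = (innerFusionSystem S).Hom P) :
    F.hyperfocalSubgroup p = ⊥ := by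
  refine le_antisymm ((Subgroup.closure_le _).2 ?_) bot_le
  rintro _ ⟨P, α, x, hPS, hα, rfl⟩
  rw [pResidual_eq_bot_of_isPGroup (fs_autGroup_isPGroup_of_inner F p hS hinner P hPS),
    Subgroup.mem_bot] at hα
  rw [hα]
  simp

/-- a quasisimple fusion system is over a nonabelian group -/
theorem quasisimple_not_abelian (F : FusionSystem S) [Finite S] (p : ℕ) [Fact p.Prime]
    (hS : IsPGroup p S) (hq : F.Quasisimple p) : ¬ IsMulCommutative S := by
  intro hcomm
  obtain ⟨hF, hhyp, hsimp⟩ := hq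
  have hp : p.Prime := Fact.out
  have hZ : F.StronglyClosed F.center := fs_central_stronglyClosed F (fs_isCentral_center F)
  have hker : ∀ s : S, QuotientGroup.mk' ((F.center).subgroupOf S) s = 1 ↔
      (s : Ω) ∈ F.center := by
    intro s
    rw [QuotientGroup.mk'_apply, QuotientGroup.eq_one_iff, Subgroup.mem_subgroupOf]
  have hsurj := QuotientGroup.mk'_surjective ((F.center).subgroupOf S)
  have hfac := isFactorSystem_factorSystem F F.center hZ _ hker hsurj
  have hEs := hsimp _ hfac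
  have hTp : IsPGroup p (⊤ : Subgroup (S ⧸ (F.center).subgroupOf S)) :=
    (hS.to_quotient _).to_subgroup ⊤
  have hab : ∀ x ∈ (⊤ : Subgroup (S ⧸ (F.center).subgroupOf S)),
      ∀ y ∈ (⊤ : Subgroup (S ⧸ (F.center).subgroupOf S)), x * y = y * x := by
    intro x _ y _
    obtain ⟨a, rfl⟩ := hsurj x
    obtain ⟨b, rfl⟩ := hsurj y
    rw [← map_mul, ← map_mul, mul_comm' a b]
  obtain ⟨hcard, hinner⟩ := (fs_simple_abelian_iff _ p hTp hEs.1 hab).1 hEs
  have h1 := hyperfocal_eq_bot_of_inner _ p hTp hinner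
  have hm := factor_isSurjectiveMorphism F p hS hF F.center hZ _ _ hfac
  have h3 := hyperfocal_map_le F p _ _ hm.1
  rw [hhyp, Subgroup.subgroupOf_self, ← MonoidHom.range_eq_map,
    MonoidHom.range_eq_top.2 hsurj, h1] at h3
  have h4 : (⊤ : Subgroup (S ⧸ (F.center).subgroupOf S)) = ⊥ := le_antisymm h3 bot_le
  rw [h4, Subgroup.card_bot] at hcard
  exact hp.one_lt.ne hcard

end Cfsg.Agent.Lib.Helper8
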