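import Mathlib
import Cfsg.Prelude.Def_LocalEven
import Cfsg.Prelude.Def_FusionReduction
import Cfsg.Agent.Lib.Helper8.Fusion
import Cfsg.Agent.Lib.Helper8.GroupFusion
import Cfsg.Agent.Lib.Helper8.GroupFusion2

set_option autoImplicit false

namespace Cfsg.Agent.Lib.Helper8

open Cfsg

universe u v w

theorem involves_of_surj {H : Type u} [Group H] {G : Type v} [Group G] (K : Subgroup G)
    (f : K →* H) (hf : Function.Surjective f) : Involves H G := by
  have e : (f.ker.map K.subtype).subgroupOf K = f.ker := map_subtype_subgroupOf_self f.ker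
  have hn : ((f.ker.map K.subtype).subgroupOf K).Normal := by
    rw [e]
    infer_instance
  refine ⟨K, f.ker.map K.subtype, hn, ⟨?_⟩⟩
  exact (QuotientGroup.quotientMulEquivOfEq e).trans (QuotientGroup.quotientKerEquivOfSurjective f hf)

theorem exists_surj_of_involves {H : Type u} [Group H] {G : Type v} [Group G] (h : Involves H G) :
    ∃ (K : Subgroup G) (f : K →* H), Function.Surjective f := by
  obtain ⟨K, R, hn, ⟨e⟩⟩ := h
  exact ⟨K, e.toMonoidHom.comp (QuotientGroup.mk' _),
    e.surjective.comp (QuotientGroup.mk'_surjective _)⟩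

theorem involves_of_maps {H : Type u} [Group H] {G : Type v} [Group G] {X : Type w} [Group X]
    (i : X →* G) (hi : Function.Injective i) (f : X →* H) (hf : Function.Surjective f) :
    Involves H G :=
  involves_of_surj i.range (f.comp (MonoidHom.ofInjective hi).symm.toMonoidHom)
    (hf.comp (MonoidHom.ofInjective hi).symm.surjective)

theorem involves_of_injective {H : Type u} [Group H] {A : Type v} [Group A] {B : Type w} [Group B]
    (j : A →* B) (hj : Function.Injective j) (h : Involves H A) : Involves H B := by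
  obtain ⟨K, f, hf⟩ := exists_surj_of_involves h
  exact involves_of_maps (j.comp K.subtype) (hj.comp K.subtype_injective) f hf

theorem involves_of_surj_hom {H : Type u} [Group H] {A : Type v} [Group A] {B : Type w} [Group B]
    (π : A →* B) (hπ : Function.Surjective π) (h : Involves H B) : Involves H A := by
  obtain ⟨K, f, hf⟩ := exists_surj_of_involves h
  exact involves_of_surj (K.comap π) (f.comp (π.subgroupComap K))
    (hf.comp (π.subgroupComap_surjective_of_surjective K hπ))

/-- a `p`-subgroup of a group involved in `L` is involved in a Sylow `p`-subgroup of `L` -/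
theorem involves_pgroup_of_sylow {L : Type v} [Group L] [Finite L] {p : ℕ} [Fact p.Prime]
    {H : Type u} [Group H] (Q : Subgroup H) (hQ : IsPGroup p Q) (hinv : Involves H L)
    (T : Sylow p L) : Involves Q (T : Subgroup L) := by
  obtain ⟨K, f, hf⟩ := exists_surj_of_involves hinv
  have hf₁ : Function.Surjective (f.subgroupComap Q) :=
    f.subgroupComap_surjective_of_surjective Q hf
  obtain ⟨P₁⟩ : Nonempty (Sylow p (Q.comap f)) := inferInstance
  have htop : ((P₁.mapSurjective hf₁ : Sylow p Q) : Subgroup Q) = ⊤ := by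
    have h1 : IsPGroup p (⊤ : Subgroup Q) := hQ.to_subgroup ⊤
    exact ((P₁.mapSurjective hf₁).3 h1 le_top).symm
  rw [Sylow.coe_mapSurjective] at htop
  have hf₂ : Function.Surjective ((f.subgroupComap Q).comp (P₁ : Subgroup (Q.comap f)).subtype) := by
    intro q
    have hq : q ∈ Subgroup.map (f.subgroupComap Q) (P₁ : Subgroup (Q.comap f)) := by
      rw [htop]
      exact Subgroup.mem_top q
    obtain ⟨x, hx, rfl⟩ := hq
    exact ⟨⟨x, hx⟩, rfl⟩
  have hi₂ : Function.Injective
      (K.subtype.comp ((Q.comap f).subtype.comp (P₁ : Subgroup (Q.comap f)).subtype)) :=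
    K.subtype_injective.comp ((Q.comap f).subtype_injective.comp
      (P₁ : Subgroup (Q.comap f)).subtype_injective)
  have hU : IsPGroup p
      (K.subtype.comp ((Q.comap f).subtype.comp (P₁ : Subgroup (Q.comap f)).subtype)).range :=
    IsPGroup.of_equiv P₁.2 (MonoidHom.ofInjective hi₂)
  obtain ⟨g, hg⟩ := exists_conjSub_le_sylow T hU
  have hmem : ∀ x : (P₁ : Subgroup (Q.comap f)), ((MulAut.conj g).toMonoidHom.comp
      (K.subtype.comp ((Q.comap f).subtype.comp (P₁ : Subgroup (Q.comap f)).subtype))) x ∈
        (T : Subgroup L) := by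
    intro x
    apply hg
    exact ⟨_, ⟨x, rfl⟩, rfl⟩
  refine involves_of_maps (((MulAut.conj g).toMonoidHom.comp
      (K.subtype.comp ((Q.comap f).subtype.comp (P₁ : Subgroup (Q.comap f)).subtype))).codRestrict
        (T : Subgroup L) hmem) ?_ _ hf₂
  intro a b hab
  have h1 := congrArg Subtype.val hab
  exact hi₂ ((MulAut.conj g).injective h1)

/-- S5299 -/
theorem sectionFree_of_not_involves {Ω : Type u} [Group Ω] {S : Subgroup Ω} (p : ℕ) [Fact p.Prime]
    (F : FusionSystem S) (H : Type w) [Group H] (Q : Subgroup H)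
    (hQ : IsPGroup p Q) (hfree : ¬ Involves (↥Q) (↥S)) : F.IsSectionFree p H := by
  intro Q' _ _ N _ L _ ι hmodel hinv
  obtain ⟨hfin, -, ⟨T, hT⟩, -⟩ := hmodel
  apply hfree
  have h1 : Involves Q ↥(T : Subgroup L) := involves_pgroup_of_sylow Q hQ hinv T
  have h2 : Involves Q ↥ι.range := hT ▸ h1
  have h3 : Involves Q ↥(FusionSystem.normalizerIn S Q') :=
    involves_of_surj_hom ι.rangeRestrict ι.rangeRestrict_surjective h2
  exact involves_of_injective (Subgroup.inclusion (normalizerIn_le S Q'))
    (Subgroup.inclusion_injective _) h3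

end Cfsg.Agent.Lib.Helper8
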