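import Mathlib
import Cfsg.Prelude
import Cfsg.Agent.Lib.Helper3.FitQuot
import Cfsg.Agent.Lib.Helper7.SylowAux
import Cfsg.Agent.Lib.Lead.SylowAux

set_option autoImplicit false

namespace Cfsg.Agent.Lib.Helper8

open Cfsg

/-- a minimal cover by proper nilpotent subgroups -/
@[reducible] def NilCover8 {G : Type*} [Group G] (𝓐 : Finset (Subgroup G)) : Prop :=
  ((∀ A ∈ 𝓐, A ≠ ⊤) ∧ (∀ g : G, ∃ A ∈ 𝓐, g ∈ A)) ∧ (∀ 𝓑 : Finset (Subgroup G), (∀ A ∈ 𝓑, A ≠ ⊤) ∧ (∀ g : G, ∃ A ∈ 𝓑, g ∈ A) → 𝓐.card ≤ 𝓑.card) ∧ (∀ A ∈ 𝓐, Group.IsNilpotent ↥A)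

theorem isPGroup_zpowers_nc8 {G : Type*} [Group G] (p : ℕ) (x : G) (k : ℕ) (h : x ^ (p ^ k) = 1) :
    IsPGroup p (Subgroup.zpowers x) := by
  rintro ⟨_, m, rfl⟩
  refine ⟨k, ?_⟩
  apply Subtype.ext
  have e : (x ^ m) ^ (p ^ k) = 1 := by
    rw [← zpow_natCast, ← zpow_mul, mul_comm, zpow_mul, zpow_natCast, h, one_zpow]
  exact e

theorem mem_normal_sylow_nc8 {B : Type*} [Group B] [Finite B] (p : ℕ) [Fact p.Prime] (R : Sylow p B)
    (hR : (R : Subgroup B).Normal) (β : B) (k : ℕ) (h : β ^ (p ^ k) = 1) :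
    β ∈ (R : Subgroup B) := by
  obtain ⟨R', hR'⟩ := (isPGroup_zpowers_nc8 p β k h).exists_le_sylow
  haveI := Sylow.unique_of_normal R hR
  have e1 : R' = R := Subsingleton.elim R' R
  rw [← e1]
  exact hR' (Subgroup.mem_zpowers β)

theorem conj_comm_nc8 {G : Type*} [Group G] (g b y : G)
    (h : g⁻¹ * b * g * (g⁻¹ * y * g) = g⁻¹ * y * g * (g⁻¹ * b * g)) : b * y = y * b := by
  calc b * y = g * (g⁻¹ * b * g * (g⁻¹ * y * g)) * g⁻¹ := by group
    _ = g * (g⁻¹ * y * g * (g⁻¹ * b * g)) * g⁻¹ := by rw [h]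
    _ = y * b := by group

theorem pprime_decomp_nc8 {G : Type*} [Group G] [Finite G] (p : ℕ) [Fact p.Prime] (a : G) :
    ∃ (e m : ℕ) (s t : ℤ), m.Coprime p ∧ (a ^ (p ^ e)) ^ m = 1 ∧ (a ^ m) ^ (p ^ e) = 1 ∧
      a = (a ^ (p ^ e)) ^ s * (a ^ m) ^ t := by
  have hp := (Fact.out : p.Prime)
  obtain ⟨e, m, hm, hn⟩ := Nat.exists_eq_pow_mul_and_not_dvd (orderOf_pos a).ne' p hp.ne_one
  have hcop : Nat.Coprime p m := (Nat.Prime.coprime_iff_not_dvd hp).mpr hm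
  have h1 : a ^ (p ^ e * m) = 1 := by rw [← hn]; exact pow_orderOf_eq_one a
  have hb := Nat.gcd_eq_gcd_ab (p ^ e) m
  rw [show Nat.gcd (p ^ e) m = 1 from Nat.Coprime.pow_left e hcop] at hb
  refine ⟨e, m, (p ^ e).gcdA m, (p ^ e).gcdB m, hcop.symm, ?_, ?_, ?_⟩
  · rw [← pow_mul]; exact h1
  · rw [← pow_mul, mul_comm]; exact h1
  · have h2 : a = a ^ ((1 : ℕ) : ℤ) := by simp
    rw [hb] at h2
    rw [zpow_add, zpow_mul, zpow_mul, zpow_natCast, zpow_natCast] at h2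
    exact h2

theorem nilp_member_centralizes_nc8 {G : Type*} [Group G] [Finite G] (p : ℕ) [Fact p.Prime]
    (P : Sylow p G) (hab : ∀ a ∈ (P : Subgroup G), ∀ b ∈ (P : Subgroup G), a * b = b * a)
    (A : Subgroup G) (hA : Group.IsNilpotent ↥A) (y : G) (hy : y ∈ A) (k : ℕ)
    (hyk : y ^ (p ^ k) = 1) (a : G) (ha : a ∈ A) : a * y = y * a := by
  obtain ⟨e, m, s, t, hcop, h1, h2, h3⟩ := pprime_decomp_nc8 p a
  have c1 : (a ^ (p ^ e)) * y = y * (a ^ (p ^ e)) := by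
    have h := Cfsg.Agent.Lib.Helper3.commute_of_coprime_of_isNilpotent ↥A
      (⟨a ^ (p ^ e), A.pow_mem ha _⟩ : ↥A) (⟨y, hy⟩ : ↥A) m (p ^ k)
      (Subtype.ext h1) (Subtype.ext hyk) (Nat.Coprime.pow_right k hcop)
    exact congrArg Subtype.val h
  have c2 : (a ^ m) * y = y * (a ^ m) := by
    obtain ⟨S⟩ : Nonempty (Sylow p ↥A) := inferInstance
    have hSn : (S : Subgroup ↥A).Normal :=
      Sylow.normal_of_normalizerCondition Group.normalizerCondition_of_isNilpotent S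
    have m1 : (⟨a ^ m, A.pow_mem ha _⟩ : ↥A) ∈ (S : Subgroup ↥A) :=
      mem_normal_sylow_nc8 p S hSn _ e (Subtype.ext h2)
    have m2 : (⟨y, hy⟩ : ↥A) ∈ (S : Subgroup ↥A) :=
      mem_normal_sylow_nc8 p S hSn _ k (Subtype.ext hyk)
    have hpg : IsPGroup p ((S : Subgroup ↥A).map A.subtype) := S.isPGroup'.map A.subtype
    obtain ⟨Q, hQ⟩ := hpg.exists_le_sylow
    obtain ⟨g, hg⟩ := MulAction.exists_smul_eq G P Q
    have q1 : a ^ m ∈ (g • P : Sylow p G) := by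
      rw [hg]; exact hQ ⟨_, m1, rfl⟩
    have q2 : y ∈ (g • P : Sylow p G) := by
      rw [hg]; exact hQ ⟨_, m2, rfl⟩
    rw [Cfsg.Agent.Lib.Helper7.mem_sylow_smul_iff] at q1 q2
    exact conj_comm_nc8 g _ _ (hab _ q1 _ q2)
  have c1' : Commute (a ^ (p ^ e)) y := c1
  have c2' : Commute (a ^ m) y := c2
  have c3 : Commute ((a ^ (p ^ e)) ^ s * (a ^ m) ^ t) y :=
    (c1'.zpow_left s).mul_left (c2'.zpow_left t)
  rw [← h3] at c3
  exact c3

theorem cover_replace_nc8 {G : Type*} [Group G] (𝓐 : Finset (Subgroup G))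
    (hcov : ∀ g : G, ∃ A ∈ 𝓐, g ∈ A) (hprop : ∀ A ∈ 𝓐, A ≠ ⊤)
    (hmin : ∀ 𝓑 : Finset (Subgroup G), (∀ A ∈ 𝓑, A ≠ ⊤) ∧ (∀ g : G, ∃ A ∈ 𝓑, g ∈ A) →
      𝓐.card ≤ 𝓑.card)
    (H : Subgroup G) (hH : H ≠ ⊤) (A B : Subgroup G) (hA : A ∈ 𝓐) (hB : B ∈ 𝓐)
    (hAH : A ≤ H) (hBH : B ≤ H) : A = B := by
  classical
  by_contra hne
  have hB' : B ∈ 𝓐.erase A := Finset.mem_erase.mpr ⟨fun h => hne h.symm, hB⟩
  have h1 : (𝓐.erase A).card = 𝓐.card - 1 := Finset.card_erase_of_mem hA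
  have h2 : ((𝓐.erase A).erase B).card = (𝓐.erase A).card - 1 := Finset.card_erase_of_mem hB'
  have h3 : 1 < 𝓐.card := Finset.one_lt_card.mpr ⟨A, hA, B, hB, hne⟩
  have h4 := Finset.card_insert_le H ((𝓐.erase A).erase B)
  have hc1 : ∀ C ∈ insert H ((𝓐.erase A).erase B), C ≠ ⊤ := by
    intro C hC
    rcases Finset.mem_insert.mp hC with h | h
    · rw [h]; exact hH
    · exact hprop C (Finset.mem_of_mem_erase (Finset.mem_of_mem_erase h))
  have hc2 : ∀ g : G, ∃ C ∈ insert H ((𝓐.erase A).erase B), g ∈ C := by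
    intro g
    obtain ⟨C, hC, hg⟩ := hcov g
    by_cases hCA : C = A
    · rw [hCA] at hg
      exact ⟨H, Finset.mem_insert_self _ _, hAH hg⟩
    · by_cases hCB : C = B
      · rw [hCB] at hg
        exact ⟨H, Finset.mem_insert_self _ _, hBH hg⟩
      · exact ⟨C, Finset.mem_insert_of_mem
          (Finset.mem_erase.mpr ⟨hCB, Finset.mem_erase.mpr ⟨hCA, hC⟩⟩), hg⟩
  have h5 := hmin _ ⟨hc1, hc2⟩
  omega

theorem unique_member_nc8 {G : Type*} [Group G] [Finite G] (hZ : Subgroup.center G = ⊥)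
    (𝓐 : Finset (Subgroup G)) (h𝓐 : NilCover8 𝓐) (p : ℕ) [Fact p.Prime] (P : Sylow p G)
    (hab : ∀ a ∈ (P : Subgroup G), ∀ b ∈ (P : Subgroup G), a * b = b * a)
    (y : G) (k : ℕ) (hyk : y ^ (p ^ k) = 1) (hy1 : y ≠ 1)
    (A B : Subgroup G) (hA : A ∈ 𝓐) (hB : B ∈ 𝓐) (hyA : y ∈ A) (hyB : y ∈ B) : A = B := by
  obtain ⟨⟨hprop, hcov⟩, hmin, hnil⟩ := h𝓐
  have hH : Subgroup.centralizer ({y} : Set G) ≠ ⊤ := by
    intro htop
    apply hy1
    have hyc : y ∈ Subgroup.center G := by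
      rw [Subgroup.mem_center_iff]
      intro g
      have hg : g ∈ Subgroup.centralizer ({y} : Set G) := by rw [htop]; exact Subgroup.mem_top g
      exact (Subgroup.mem_centralizer_iff.mp hg y (Set.mem_singleton y)).symm
    rw [hZ] at hyc
    exact Subgroup.mem_bot.mp hyc
  have key : ∀ C ∈ 𝓐, y ∈ C → C ≤ Subgroup.centralizer ({y} : Set G) := by
    intro C hC hyC a ha
    rw [Subgroup.mem_centralizer_iff]
    intro h hh
    rw [Set.mem_singleton_iff] at hh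
    rw [hh]
    exact (nilp_member_centralizes_nc8 p P hab C (hnil C hC) y hyC k hyk a ha).symm
  exact cover_replace_nc8 𝓐 hcov hprop hmin _ hH A B hA hB (key A hA hyA) (key B hB hyB)

theorem sylow_le_member_nc8 {G : Type*} [Group G] [Finite G] (hZ : Subgroup.center G = ⊥)
    (𝓐 : Finset (Subgroup G)) (h𝓐 : NilCover8 𝓐) (p : ℕ) [Fact p.Prime] (P : Sylow p G)
    (hab : ∀ a ∈ (P : Subgroup G), ∀ b ∈ (P : Subgroup G), a * b = b * a)
    (hP : IsCyclic ↥(P : Subgroup G) ∨ ¬ (∀ a ∈ (P : Subgroup G), a ^ p = 1)) :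
    ∃ A₀ ∈ 𝓐, (P : Subgroup G) ≤ A₀ := by
  have hp := (Fact.out : p.Prime)
  have hcov := h𝓐.1.2
  have hpow : ∀ x ∈ (P : Subgroup G), ∃ k : ℕ, x ^ (p ^ k) = 1 := by
    intro x hx
    obtain ⟨k, hk⟩ := P.isPGroup' ⟨x, hx⟩
    exact ⟨k, congrArg Subtype.val hk⟩
  rcases hP with hcyc | hne
  · haveI := hcyc
    obtain ⟨⟨u, hu⟩, hgen⟩ := IsCyclic.exists_generator (α := ↥(P : Subgroup G))
    obtain ⟨A₀, hA₀, huA⟩ := hcov u
    refine ⟨A₀, hA₀, fun x hx => ?_⟩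
    obtain ⟨n, hn⟩ := Subgroup.mem_zpowers_iff.mp (hgen ⟨x, hx⟩)
    have hx' : u ^ n = x := congrArg Subtype.val hn
    rw [← hx']
    exact A₀.zpow_mem huA n
  · push_neg at hne
    obtain ⟨u, hu, hup⟩ := hne
    obtain ⟨A₀, hA₀, huA⟩ := hcov u
    have Q : ∀ w ∈ (P : Subgroup G), w ^ p ≠ 1 → ∀ B ∈ 𝓐, w ∈ B →
        ∀ v ∈ (P : Subgroup G), v ^ p = 1 → v ∈ B := by
      intro w hw hwp B hB hwB v hv hvp
      obtain ⟨C, hC, hwvC⟩ := hcov (w * v)
      obtain ⟨k, hk⟩ := hpow w hw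
      have e1 : (w * v) ^ p = w ^ p := by
        rw [(show Commute w v from hab w hw v hv).mul_pow, hvp, mul_one]
      have e2 : w ^ p ∈ C := by rw [← e1]; exact C.pow_mem hwvC p
      have e3 : (w ^ p) ^ (p ^ k) = 1 := by
        rw [← pow_mul, mul_comm, pow_mul, hk, one_pow]
      have e4 : C = B := unique_member_nc8 hZ 𝓐 h𝓐 p P hab (w ^ p) k e3 hwp C B hC hB e2
        (B.pow_mem hwB p)
      rw [e4] at hwvC
      have e5 : v = w⁻¹ * (w * v) := by group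
      rw [e5]
      exact B.mul_mem (B.inv_mem hwB) hwvC
    obtain ⟨k, hk⟩ := hpow u hu
    obtain ⟨j, hjk, hj⟩ := (Nat.dvd_prime_pow hp).mp (orderOf_dvd_of_pow_eq_one hk)
    have hj0 : j ≠ 0 := by
      intro hj0
      rw [hj0, pow_zero, orderOf_eq_one_iff] at hj
      apply hup
      rw [hj, one_pow]
    have ht1 : u ^ (p ^ (j - 1)) ≠ 1 := by
      intro h
      have h1 := orderOf_dvd_of_pow_eq_one h
      rw [hj] at h1
      have h2 := (Nat.pow_dvd_pow_iff_le_right hp.one_lt).mp h1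
      omega
    have htp : (u ^ (p ^ (j - 1))) ^ p = 1 := by
      rw [← pow_mul, ← pow_succ, Nat.sub_add_cancel (Nat.pos_of_ne_zero hj0), ← hj]
      exact pow_orderOf_eq_one u
    have htP : u ^ (p ^ (j - 1)) ∈ (P : Subgroup G) := (P : Subgroup G).pow_mem hu _
    have htA : u ^ (p ^ (j - 1)) ∈ A₀ := Q u hu hup A₀ hA₀ huA _ htP htp
    refine ⟨A₀, hA₀, fun w hw => ?_⟩
    by_cases hwp : w ^ p = 1
    · exact Q u hu hup A₀ hA₀ huA w hw hwp
    · obtain ⟨B, hB, hwB⟩ := hcov w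
      have htB : u ^ (p ^ (j - 1)) ∈ B := Q w hw hwp B hB hwB _ htP htp
      have e : B = A₀ := unique_member_nc8 hZ 𝓐 h𝓐 p P hab (u ^ (p ^ (j - 1))) 1
        (by rw [pow_one]; exact htp) ht1 B A₀ hB hA₀ htB htA
      rw [← e]; exact hwB

theorem centralizer_eq_member_nc8 {G : Type*} [Group G] [Finite G] (hZ : Subgroup.center G = ⊥)
    (𝓐 : Finset (Subgroup G)) (h𝓐 : NilCover8 𝓐) (p : ℕ) [Fact p.Prime] (P : Sylow p G)
    (hab : ∀ a ∈ (P : Subgroup G), ∀ b ∈ (P : Subgroup G), a * b = b * a)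
    (hnn : ¬ (P : Subgroup G).Normal)
    (A₀ : Subgroup G) (hA₀ : A₀ ∈ 𝓐) (hPA : (P : Subgroup G) ≤ A₀) :
    Subgroup.centralizer ((P : Subgroup G) : Set G) = A₀ := by
  have hcov := h𝓐.1.2
  have hnil := h𝓐.2.2
  have hpow : ∀ x ∈ (P : Subgroup G), ∃ k : ℕ, x ^ (p ^ k) = 1 := by
    intro x hx
    obtain ⟨k, hk⟩ := P.isPGroup' ⟨x, hx⟩
    exact ⟨k, congrArg Subtype.val hk⟩
  obtain ⟨u, hu, hu1⟩ : ∃ u ∈ (P : Subgroup G), u ≠ 1 := by
    by_contra hcon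
    push_neg at hcon
    apply hnn
    have hbot : (P : Subgroup G) = ⊥ := (Subgroup.eq_bot_iff_forall _).mpr hcon
    rw [hbot]; infer_instance
  obtain ⟨k, hk⟩ := hpow u hu
  apply le_antisymm
  · intro c hc
    have hcP : ∀ x ∈ (P : Subgroup G), x * c = c * x := fun x hx =>
      Subgroup.mem_centralizer_iff.mp hc x hx
    obtain ⟨e, m, s, t, hcop, h1, h2, h3⟩ := pprime_decomp_nc8 p c
    have hcm : c ^ m ∈ (P : Subgroup G) := by
      refine Cfsg.Agent.Lib.Lead.mem_sylow_of_normalizes P (isPGroup_zpowers_nc8 p _ e h2) ?_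
      exact Subgroup.centralizer_le_normalizer _ (Subgroup.pow_mem _ hc m)
    by_cases hcm1 : c ^ m = 1
    · obtain ⟨B, hB, hcuB⟩ := hcov (c * u)
      have e1 : (c * u) ^ m = u ^ m := by
        rw [(show Commute c u from (hcP u hu).symm).mul_pow, hcm1, one_mul]
      have e2 : u ^ m ∈ B := by rw [← e1]; exact B.pow_mem hcuB m
      have e3 : u ^ m ≠ 1 := by
        intro h
        apply hu1
        have d1 := orderOf_dvd_of_pow_eq_one h
        have d2 := orderOf_dvd_of_pow_eq_one hk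
        have d3 := Nat.dvd_gcd d1 d2
        rw [show Nat.gcd m (p ^ k) = 1 from Nat.Coprime.pow_right k hcop] at d3
        exact orderOf_eq_one_iff.mp (Nat.dvd_one.mp d3)
      have e4 : (u ^ m) ^ (p ^ k) = 1 := by
        rw [← pow_mul, mul_comm, pow_mul, hk, one_pow]
      have e5 : B = A₀ := unique_member_nc8 hZ 𝓐 h𝓐 p P hab (u ^ m) k e4 e3 B A₀ hB hA₀ e2
        (A₀.pow_mem (hPA hu) m)
      rw [e5] at hcuB
      have e6 : c = (c * u) * u⁻¹ := by group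
      rw [e6]
      exact A₀.mul_mem hcuB (A₀.inv_mem (hPA hu))
    · obtain ⟨B, hB, hcB⟩ := hcov c
      have e5 : B = A₀ := unique_member_nc8 hZ 𝓐 h𝓐 p P hab (c ^ m) e h2 hcm1 B A₀ hB hA₀
        (B.pow_mem hcB m) (hPA hcm)
      rw [← e5]; exact hcB
  · intro a ha
    rw [Subgroup.mem_centralizer_iff]
    intro x hx
    obtain ⟨kx, hkx⟩ := hpow x hx
    exact (nilp_member_centralizes_nc8 p P hab A₀ (hnil A₀ hA₀) x (hPA hx) kx hkx a ha).symm

theorem centralizer_mem_nc8 {G : Type*} [Group G] [Finite G] (hZ : Subgroup.center G = ⊥)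
    (𝓐 : Finset (Subgroup G)) (h𝓐 : NilCover8 𝓐) (p : ℕ) [Fact p.Prime] (P : Sylow p G)
    (hab : ∀ a ∈ (P : Subgroup G), ∀ b ∈ (P : Subgroup G), a * b = b * a)
    (hnn : ¬ (P : Subgroup G).Normal)
    (hP : IsCyclic ↥(P : Subgroup G) ∨ ¬ (∀ a ∈ (P : Subgroup G), a ^ p = 1)) :
    Subgroup.centralizer ((P : Subgroup G) : Set G) ∈ 𝓐 := by
  obtain ⟨A₀, hA₀, hPA⟩ := sylow_le_member_nc8 hZ 𝓐 h𝓐 p P hab hP
  rw [centralizer_eq_member_nc8 hZ 𝓐 h𝓐 p P hab hnn A₀ hA₀ hPA]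
  exact hA₀

theorem nilCover_conj_nc8 {G : Type*} [Group G] [Finite G] [DecidableEq (Subgroup G)]
    (𝓐 : Finset (Subgroup G)) (h𝓐 : NilCover8 𝓐) (g : G) :
    NilCover8 (𝓐.image (fun A => A.map (MulAut.conj g).toMonoidHom)) := by
  obtain ⟨⟨hprop, hcov⟩, hmin, hnil⟩ := h𝓐
  have hinj : Function.Injective (fun A : Subgroup G => A.map (MulAut.conj g).toMonoidHom) :=
    Subgroup.map_injective (f := (MulAut.conj g).toMonoidHom) (MulAut.conj g).injective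
  refine ⟨⟨?_, ?_⟩, ?_, ?_⟩
  · intro B hB
    obtain ⟨A, hA, hAB⟩ := Finset.mem_image.mp hB
    intro htop
    apply hprop A hA
    have htop' : A.map (MulAut.conj g).toMonoidHom = ⊤ := by rw [← htop]; exact hAB
    rw [eq_top_iff]
    intro x _
    have hx : g * x * g⁻¹ ∈ A.map (MulAut.conj g).toMonoidHom := by
      rw [htop']; exact Subgroup.mem_top _
    obtain ⟨a, ha, hax⟩ := Subgroup.mem_map.mp hx
    have hax' : a = x := (MulAut.conj g).injective (by simpa using hax)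
    rw [← hax']; exact ha
  · intro x
    obtain ⟨A, hA, hxA⟩ := hcov (g⁻¹ * x * g)
    refine ⟨A.map (MulAut.conj g).toMonoidHom, Finset.mem_image.mpr ⟨A, hA, rfl⟩, ?_⟩
    refine Subgroup.mem_map.mpr ⟨g⁻¹ * x * g, hxA, ?_⟩
    simp [MulAut.conj_apply, mul_assoc]
  · intro 𝓑 h𝓑
    rw [Finset.card_image_of_injective _ hinj]
    exact hmin 𝓑 h𝓑
  · intro B hB
    obtain ⟨A, hA, hAB⟩ := Finset.mem_image.mp hB
    haveI := hnil A hA
    rw [← hAB]
    exact Group.nilpotent_of_mulEquiv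
      (A.equivMapOfInjective (MulAut.conj g).toMonoidHom (MulAut.conj g).injective)

theorem le_normalizer_of_centralizer_le_nc8 {G : Type*} [Group G] [Finite G]
    (hZ : Subgroup.center G = ⊥)
    (𝓐 : Finset (Subgroup G)) (h𝓐 : NilCover8 𝓐) (p : ℕ) [Fact p.Prime] (P : Sylow p G)
    (hab : ∀ a ∈ (P : Subgroup G), ∀ b ∈ (P : Subgroup G), a * b = b * a)
    (hnn : ¬ (P : Subgroup G).Normal)
    (hP : IsCyclic ↥(P : Subgroup G) ∨ ¬ (∀ a ∈ (P : Subgroup G), a ^ p = 1))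
    (M : Subgroup G) (hM : M ≠ ⊤) (hCM : Subgroup.centralizer ((P : Subgroup G) : Set G) ≤ M) :
    M ≤ Subgroup.normalizer ((P : Subgroup G) : Set G) := by
  classical
  have hC := centralizer_mem_nc8 hZ 𝓐 h𝓐 p P hab hnn hP
  have key : ∀ g ∈ M, ∀ x ∈ (P : Subgroup G), g * x * g⁻¹ ∈ (P : Subgroup G) := by
    intro g hg x hx
    have h1 := centralizer_mem_nc8 hZ _ (nilCover_conj_nc8 𝓐 h𝓐 g) p P hab hnn hP
    obtain ⟨A, hA, hAe⟩ := Finset.mem_image.mp h1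
    have hAe' : A.map (MulAut.conj g).toMonoidHom =
        Subgroup.centralizer ((P : Subgroup G) : Set G) := hAe
    have hAM : A ≤ M := by
      intro a ha
      have h2 : g * a * g⁻¹ ∈ Subgroup.centralizer ((P : Subgroup G) : Set G) := by
        rw [← hAe']
        exact Subgroup.mem_map.mpr ⟨a, ha, by simp [MulAut.conj_apply]⟩
      have h3 : a = g⁻¹ * (g * a * g⁻¹) * g := by group
      rw [h3]
      exact M.mul_mem (M.mul_mem (M.inv_mem hg) (hCM h2)) hg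
    have hAC : A = Subgroup.centralizer ((P : Subgroup G) : Set G) :=
      cover_replace_nc8 𝓐 h𝓐.1.2 h𝓐.1.1 h𝓐.2.1 M hM A _ hA hC hAM hCM
    have hx0 : x ∈ Subgroup.centralizer ((P : Subgroup G) : Set G) := by
      rw [Subgroup.mem_centralizer_iff]
      intro y hy
      exact hab y hy x hx
    have h4 : g * x * g⁻¹ ∈ Subgroup.centralizer ((P : Subgroup G) : Set G) := by
      rw [← hAC] at hx0
      rw [← hAe']
      exact Subgroup.mem_map.mpr ⟨x, hx0, by simp [MulAut.conj_apply]⟩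
    obtain ⟨k, hk⟩ := P.isPGroup' ⟨x, hx⟩
    have hk' : x ^ (p ^ k) = 1 := congrArg Subtype.val hk
    have h5 : (g * x * g⁻¹) ^ (p ^ k) = 1 := by
      rw [conj_pow, hk']; group
    exact Cfsg.Agent.Lib.Lead.mem_sylow_of_normalizes P (isPGroup_zpowers_nc8 p _ k h5)
      (Subgroup.centralizer_le_normalizer _ h4)
  intro g hg
  rw [Subgroup.mem_normalizer_iff]
  intro h
  constructor
  · intro hh
    exact key g hg h hh
  · intro hh
    have h6 := key g⁻¹ (M.inv_mem hg) _ hh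
    have e : g⁻¹ * (g * h * g⁻¹) * g⁻¹⁻¹ = h := by group
    rw [e] at h6
    exact h6

theorem nilcover_s3891_nc8 {G : Type*} [Group G] [Finite G] (hZ : Subgroup.center G = ⊥)
    (𝓐 : Finset (Subgroup G)) (h𝓐 : NilCover8 𝓐) {p : ℕ} [Fact p.Prime] (P : Sylow p G)
    (hP : IsCyclic ↥(P : Subgroup G) ∨ (IsMulCommutative ↥(P : Subgroup G) ∧
      ¬ Cfsg.IsElementaryAbelian p (P : Subgroup G)))
    (hnn : ¬ (P : Subgroup G).Normal) :
    Group.IsNilpotent ↥(Subgroup.centralizer ((P : Subgroup G) : Set G)) ∧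
      IsCoatom (Subgroup.normalizer ((P : Subgroup G) : Set G)) ∧
      ∀ M : Subgroup G, IsCoatom M → Subgroup.centralizer ((P : Subgroup G) : Set G) ≤ M →
        M = Subgroup.normalizer ((P : Subgroup G) : Set G) := by
  have hab : ∀ a ∈ (P : Subgroup G), ∀ b ∈ (P : Subgroup G), a * b = b * a := by
    rcases hP with hc | ⟨hc, _⟩
    · haveI := hc
      obtain ⟨g, hg⟩ := IsCyclic.exists_generator (α := ↥(P : Subgroup G))
      intro a ha b hb
      obtain ⟨m, hm⟩ := Subgroup.mem_zpowers_iff.mp (hg ⟨a, ha⟩)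
      obtain ⟨n, hn⟩ := Subgroup.mem_zpowers_iff.mp (hg ⟨b, hb⟩)
      have h1 : (⟨a, ha⟩ : ↥(P : Subgroup G)) * ⟨b, hb⟩ = ⟨b, hb⟩ * ⟨a, ha⟩ := by
        rw [← hm, ← hn, ← zpow_add, ← zpow_add, add_comm]
      exact congrArg Subtype.val h1
    · intro a ha b hb
      exact congrArg Subtype.val (hc.is_comm.comm (⟨a, ha⟩ : ↥(P : Subgroup G)) ⟨b, hb⟩)
  have hP' : IsCyclic ↥(P : Subgroup G) ∨ ¬ (∀ a ∈ (P : Subgroup G), a ^ p = 1) := by
    rcases hP with hc | ⟨hc, hne⟩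
    · exact Or.inl hc
    · exact Or.inr (fun h => hne (show IsMulCommutative ↥(P : Subgroup G) ∧
        ∀ a ∈ (P : Subgroup G), a ^ p = 1 from ⟨hc, h⟩))
  have hC := centralizer_mem_nc8 hZ 𝓐 h𝓐 p P hab hnn hP'
  have hii := fun M hM hCM =>
    le_normalizer_of_centralizer_le_nc8 hZ 𝓐 h𝓐 p P hab hnn hP' M hM hCM
  have hN : Subgroup.normalizer ((P : Subgroup G) : Set G) ≠ ⊤ := by
    intro h
    exact hnn (Subgroup.normalizer_eq_top_iff.mp h)
  refine ⟨h𝓐.2.2 _ hC, ⟨hN, ?_⟩, ?_⟩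
  · intro b hb
    by_contra hbt
    have h1 := hii b hbt (le_trans (Subgroup.centralizer_le_normalizer _) hb.le)
    exact absurd (lt_of_lt_of_le hb h1) (lt_irrefl _)
  · intro M hM hCM
    have h1 := hii M hM.1 hCM
    exact eq_of_le_of_not_lt h1 (fun hlt => hN (hM.2 _ hlt))

end Cfsg.Agent.Lib.Helper8
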