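import Mathlib
import Cfsg.Prelude
import Cfsg.Agent.Lib.Helper8.NilpCover

set_option autoImplicit false

namespace Cfsg.Agent.Lib.Helper8

open Cfsg

theorem nilcover_s3890_nc8 {G : Type*} [Group G] [Finite G] (hZ : Subgroup.center G = ⊥)
    (𝓐 : Finset (Subgroup G)) (h𝓐 : NilCover8 𝓐) {p : ℕ} [Fact p.Prime] (P : Sylow p G)
    (hab : IsMulCommutative ↥(P : Subgroup G))
    (hnn : ¬ (P : Subgroup G).Normal) :
    (Cfsg.IsElementaryAbelian p (P : Subgroup G) ∧ p < Nat.card ↥(P : Subgroup G)) ∨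
    (∃ A ∈ 𝓐, (P : Subgroup G) ≤ A ∧ ¬ p ∣ ((P : Subgroup G).subgroupOf A).index ∧
      IsCoatom (Subgroup.normalizer ((P : Subgroup G) : Set G)) ∧
      (∀ g : G, g ∉ Subgroup.normalizer ((P : Subgroup G) : Set G) →
        ¬ p ∣ Nat.card ↥(Subgroup.normalizer ((P : Subgroup G) : Set G) ⊓
          (Subgroup.normalizer ((P : Subgroup G) : Set G)).map (MulAut.conj g).toMonoidHom)) ∧
      Subgroup.centralizer ((P : Subgroup G) : Set G) = A) := by
  classical
  have hp := (Fact.out : p.Prime)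
  by_cases hE : Cfsg.IsElementaryAbelian p (P : Subgroup G) ∧ p < Nat.card ↥(P : Subgroup G)
  · exact Or.inl hE
  right
  have habe : ∀ a ∈ (P : Subgroup G), ∀ b ∈ (P : Subgroup G), a * b = b * a := by
    intro a ha b hb
    exact congrArg Subtype.val (hab.is_comm.comm (⟨a, ha⟩ : ↥(P : Subgroup G)) ⟨b, hb⟩)
  have hPbot : (P : Subgroup G) ≠ ⊥ := by
    intro h
    apply hnn
    rw [h]; infer_instance
  have hP' : IsCyclic ↥(P : Subgroup G) ∨ ¬ (∀ a ∈ (P : Subgroup G), a ^ p = 1) := by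
    by_cases hpow : ∀ a ∈ (P : Subgroup G), a ^ p = 1
    · left
      have hle : Nat.card ↥(P : Subgroup G) ≤ p := by
        by_contra hlt
        exact hE ⟨(show IsMulCommutative ↥(P : Subgroup G) ∧
          ∀ a ∈ (P : Subgroup G), a ^ p = 1 from ⟨hab, hpow⟩), not_le.mp hlt⟩
      obtain ⟨n, hn⟩ := IsPGroup.iff_card.mp P.isPGroup'
      have hn0 : n ≠ 0 := by
        intro h0
        rw [h0, pow_zero] at hn
        exact hPbot (Subgroup.eq_bot_of_card_eq _ hn)
      have hge : p ≤ p ^ n := Nat.le_self_pow hn0 p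
      have hcard : Nat.card ↥(P : Subgroup G) = p := le_antisymm hle (by rw [hn]; exact hge)
      exact isCyclic_of_prime_card hcard
    · exact Or.inr hpow
  have hS := nilcover_s3891_nc8 hZ 𝓐 h𝓐 P
    (hP'.imp id (fun h => ⟨hab, fun hEl => h hEl.2⟩)) hnn
  have hC := centralizer_mem_nc8 hZ 𝓐 h𝓐 p P habe hnn hP'
  have hPC : (P : Subgroup G) ≤ Subgroup.centralizer ((P : Subgroup G) : Set G) := by
    intro x hx
    rw [Subgroup.mem_centralizer_iff]
    intro y hy
    exact habe y hy x hx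
  have hmemP : ∀ (x : G) (k : ℕ), x ^ (p ^ k) = 1 →
      x ∈ Subgroup.centralizer ((P : Subgroup G) : Set G) → x ∈ (P : Subgroup G) := by
    intro x k hx hc
    exact Cfsg.Agent.Lib.Lead.mem_sylow_of_normalizes P (isPGroup_zpowers_nc8 p _ k hx)
      (Subgroup.centralizer_le_normalizer _ hc)
  have hmemN : ∀ (x : G), orderOf x = p →
      x ∈ Subgroup.normalizer ((P : Subgroup G) : Set G) → x ∈ (P : Subgroup G) := by
    intro x hx hn
    refine Cfsg.Agent.Lib.Lead.mem_sylow_of_normalizes P (isPGroup_zpowers_nc8 p _ 1 ?_) hn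
    rw [pow_one, ← hx]; exact pow_orderOf_eq_one x
  refine ⟨_, hC, hPC, ?_, hS.2.1, ?_, rfl⟩
  · intro hdvd
    have h1 : (P : Subgroup G).relIndex (Subgroup.centralizer ((P : Subgroup G) : Set G)) ∣
        (P : Subgroup G).index := Subgroup.relIndex_dvd_index_of_le hPC
    exact P.not_dvd_index (dvd_trans hdvd h1)
  · intro g hg hdvd
    obtain ⟨⟨w, hw⟩, hwo⟩ := exists_prime_orderOf_dvd_card' p hdvd
    have hw' := Subgroup.mem_inf.mp hw
    have hwo' : orderOf w = p := by rw [← hwo]; exact (Subgroup.orderOf_mk w hw).symm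
    have hw1 : w ≠ 1 := by
      intro h
      rw [h, orderOf_one] at hwo'
      exact hp.one_lt.ne hwo'
    have hwP : w ∈ (P : Subgroup G) := hmemN w hwo' hw'.1
    obtain ⟨n, hnN, hnw⟩ := Subgroup.mem_map.mp hw'.2
    have hnw' : g * n * g⁻¹ = w := by simpa [MulAut.conj_apply] using hnw
    have hno : orderOf n = p := by
      rw [← hwo', ← hnw']
      exact (Cfsg.Agent.Lib.Helper7.orderOf_conj_eq g n).symm
    have hnP : n ∈ (P : Subgroup G) := hmemN n hno hnN
    have h𝓐' := nilCover_conj_nc8 𝓐 h𝓐 g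
    have hC' := centralizer_mem_nc8 hZ _ h𝓐' p P habe hnn hP'
    have hmem2 : (Subgroup.centralizer ((P : Subgroup G) : Set G)).map
        (MulAut.conj g).toMonoidHom ∈ 𝓐.image (fun A => A.map (MulAut.conj g).toMonoidHom) :=
      Finset.mem_image.mpr ⟨_, hC, rfl⟩
    have hw2 : w ∈ (Subgroup.centralizer ((P : Subgroup G) : Set G)).map
        (MulAut.conj g).toMonoidHom := Subgroup.mem_map.mpr ⟨n, hPC hnP, hnw⟩
    have hwp1 : w ^ (p ^ 1) = 1 := by rw [pow_one, ← hwo']; exact pow_orderOf_eq_one w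
    have heq : (Subgroup.centralizer ((P : Subgroup G) : Set G)).map (MulAut.conj g).toMonoidHom =
        Subgroup.centralizer ((P : Subgroup G) : Set G) :=
      unique_member_nc8 hZ _ h𝓐' p P habe w 1 hwp1 hw1 _ _ hmem2 hC' hw2 (hPC hwP)
    apply hg
    rw [Subgroup.mem_normalizer_iff]
    intro x
    constructor
    · intro hx
      obtain ⟨k, hk⟩ := P.isPGroup' ⟨x, hx⟩
      have hk' : x ^ (p ^ k) = 1 := congrArg Subtype.val hk
      have h5 : (g * x * g⁻¹) ^ (p ^ k) = 1 := by rw [conj_pow, hk']; group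
      refine hmemP _ k h5 ?_
      rw [← heq]
      exact Subgroup.mem_map.mpr ⟨x, hPC hx, by simp [MulAut.conj_apply]⟩
    · intro hx
      have hx' : g * x * g⁻¹ ∈ (P : Subgroup G) := hx
      obtain ⟨k, hk⟩ := P.isPGroup' ⟨g * x * g⁻¹, hx'⟩
      have hk' : (g * x * g⁻¹) ^ (p ^ k) = 1 := congrArg Subtype.val hk
      have h5 : x ^ (p ^ k) = 1 := by
        rw [conj_pow] at hk'
        exact conj_eq_one_iff.mp hk'
      have h6 : g * x * g⁻¹ ∈ (Subgroup.centralizer ((P : Subgroup G) : Set G)).map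
          (MulAut.conj g).toMonoidHom := by
        rw [heq]; exact hPC hx'
      obtain ⟨c, hc, hcx⟩ := Subgroup.mem_map.mp h6
      have hcx' : c = x := (MulAut.conj g).injective (by simpa using hcx)
      rw [hcx'] at hc
      exact hmemP x k h5 hc

end Cfsg.Agent.Lib.Helper8
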