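import Mathlib
import Cfsg.Prelude.Def_Transfer

set_option autoImplicit false

namespace Cfsg.Agent.Lib.Helper8

open Cfsg
open scoped commutatorElement

/-- a characteristic chain with factors of order `p` -/
def HasCharChain8 (p : ℕ) (P : Type*) [Group P] : Prop :=
  ∃ C₁ C₂ : Subgroup P, C₁ ≤ C₂ ∧ Nat.card C₁ = p ∧ Nat.card C₂ = p ^ 2 ∧
      (∀ α : MulAut P, ∀ y ∈ C₁, α y ∈ C₁) ∧ (∀ α : MulAut P, ∀ y ∈ C₂, α y ∈ C₂)

theorem chain_of_powhom8 {P : Type*} [Group P] [Finite P] (p : ℕ) [hp : Fact p.Prime]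
    (hcard : Nat.card P = p ^ 3) (hmul : ∀ x y : P, (x * y) ^ p = x ^ p * y ^ p)
    (hne : ∃ x : P, x ^ p ≠ 1) : HasCharChain8 p P := by
  obtain ⟨φ, hφ⟩ : ∃ φ : P →* P, ∀ x, φ x = x ^ p :=
    ⟨MonoidHom.mk' (fun x => x ^ p) hmul, fun x => rfl⟩
  have hpp := hp.out
  have hKchar : ∀ α : MulAut P, ∀ y ∈ φ.ker, α y ∈ φ.ker := by
    intro α y hy
    rw [MonoidHom.mem_ker, hφ] at hy ⊢
    rw [← map_pow, hy, map_one]
  have hRchar : ∀ α : MulAut P, ∀ y ∈ φ.range, α y ∈ φ.range := by
    intro α y hy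
    obtain ⟨x, rfl⟩ := hy
    exact ⟨α x, by rw [hφ, hφ, map_pow]⟩
  have hmulc : Nat.card φ.ker * Nat.card φ.range = p ^ 3 := by
    rw [← Subgroup.index_ker, Subgroup.card_mul_index, hcard]
  have hKdvd : Nat.card φ.ker ∣ p ^ 3 := Dvd.intro _ hmulc
  obtain ⟨m, hm3, hKm⟩ := (Nat.dvd_prime_pow hpp).mp hKdvd
  have hm0 : m ≠ 0 := by
    rintro rfl
    rw [pow_zero, ← Subgroup.eq_bot_iff_card] at hKm
    obtain ⟨x, hx⟩ := exists_prime_orderOf_dvd_card' (G := P) p
      (by rw [hcard]; exact Dvd.intro_left (p ^ 2) (by ring))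
    have hxK : x ∈ φ.ker := by
      rw [MonoidHom.mem_ker, hφ, ← hx, pow_orderOf_eq_one]
    rw [hKm, Subgroup.mem_bot] at hxK
    rw [hxK, orderOf_one] at hx
    exact hpp.one_lt.ne hx
  have hm3' : m ≠ 3 := by
    rintro rfl
    rw [← hcard, Subgroup.card_eq_iff_eq_top] at hKm
    obtain ⟨x, hx⟩ := hne
    apply hx
    have : x ∈ φ.ker := by rw [hKm]; trivial
    rwa [MonoidHom.mem_ker, hφ] at this
  have hm12 : m = 1 ∨ m = 2 := by omega
  rcases hm12 with rfl | rfl
  · have hR : Nat.card φ.range = p ^ 2 := by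
      rw [hKm] at hmulc
      have : p ^ 1 * Nat.card φ.range = p ^ 1 * p ^ 2 := by rw [hmulc]; ring
      exact Nat.eq_of_mul_eq_mul_left (pow_pos hpp.pos 1) this
    refine ⟨φ.ker, φ.range, ?_, by rw [hKm, pow_one], hR, hKchar, hRchar⟩
    obtain ⟨w, hw⟩ := exists_prime_orderOf_dvd_card' (G := φ.range) p
      (by rw [hR]; exact Dvd.intro_left p (by ring))
    have hwK : (w : P) ∈ φ.ker := by
      rw [MonoidHom.mem_ker, hφ]
      have h1 := pow_orderOf_eq_one w
      rw [hw] at h1
      exact congrArg Subtype.val h1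
    have hw1 : (w : P) ≠ 1 := by
      intro h
      have h2 : w = 1 := Subtype.ext h
      rw [h2, orderOf_one] at hw
      exact hpp.one_lt.ne hw
    have hinf : Nat.card (φ.ker ⊓ φ.range : Subgroup P) = p := by
      have hd : Nat.card (φ.ker ⊓ φ.range : Subgroup P) ∣ Nat.card φ.ker :=
        Subgroup.card_dvd_of_le inf_le_left
      rw [hKm, pow_one] at hd
      rcases (Nat.dvd_prime hpp).mp hd with h | h
      · exfalso
        rw [← Subgroup.eq_bot_iff_card] at h
        have h3 : (w : P) ∈ (φ.ker ⊓ φ.range : Subgroup P) := ⟨hwK, w.2⟩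
        rw [h, Subgroup.mem_bot] at h3
        exact hw1 h3
      · exact h
    have heq : φ.ker ⊓ φ.range = φ.ker :=
      Subgroup.eq_of_le_of_card_ge inf_le_left (by rw [hinf, hKm, pow_one])
    rw [← heq]; exact inf_le_right
  · have hR : Nat.card φ.range = p := by
      rw [hKm] at hmulc
      have : p ^ 2 * Nat.card φ.range = p ^ 2 * p := by rw [hmulc]; ring
      exact Nat.eq_of_mul_eq_mul_left (pow_pos hpp.pos 2) this
    refine ⟨φ.range, φ.ker, ?_, hR, hKm, hRchar, hKchar⟩
    intro y hy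
    rw [MonoidHom.mem_ker, hφ]
    have h1 : (⟨y, hy⟩ : φ.range) ^ Nat.card φ.range = 1 := pow_card_eq_one'
    rw [hR] at h1
    exact congrArg Subtype.val h1

theorem class2_conj_pow8 {P : Type*} [Group P] (x y c : P) (hc : ∀ g : P, c * g = g * c)
    (hyx : y * x = x * y * c) (n : ℕ) : y ^ n * x = x * y ^ n * c ^ n := by
  induction n with
  | zero => simp
  | succ n ih =>
    have hcn : c * y ^ n = y ^ n * c := hc _
    calc y ^ (n + 1) * x = y * (y ^ n * x) := by rw [pow_succ', mul_assoc]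
      _ = y * (x * y ^ n * c ^ n) := by rw [ih]
      _ = (y * x) * y ^ n * c ^ n := by group
      _ = (x * y * c) * y ^ n * c ^ n := by rw [hyx]
      _ = x * y * (c * y ^ n) * c ^ n := by group
      _ = x * y * (y ^ n * c) * c ^ n := by rw [hcn]
      _ = x * y ^ (n + 1) * c ^ (n + 1) := by rw [pow_succ' y n, pow_succ' c n]; group

theorem class2_mul_pow8 {P : Type*} [Group P] (x y c : P) (hc : ∀ g : P, c * g = g * c)
    (hyx : y * x = x * y * c) (n : ℕ) : (x * y) ^ n = x ^ n * y ^ n * c ^ (n.choose 2) := by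
  induction n with
  | zero => simp
  | succ n ih =>
    have h1 := class2_conj_pow8 x y c hc hyx n
    have hck : c ^ (n.choose 2) * (x * y) = (x * y) * c ^ (n.choose 2) :=
      ((show Commute c (x * y) from hc _).pow_left _).eq
    have hcy : c ^ n * y = y * c ^ n := ((show Commute c y from hc _).pow_left _).eq
    have hch : (n + 1).choose 2 = n + n.choose 2 := by
      have h := Nat.choose_succ_succ' n 1
      rw [Nat.choose_one_right] at h
      exact h
    calc (x * y) ^ (n + 1) = (x * y) ^ n * (x * y) := pow_succ _ _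
      _ = x ^ n * y ^ n * (c ^ (n.choose 2) * (x * y)) := by rw [ih]; group
      _ = x ^ n * y ^ n * ((x * y) * c ^ (n.choose 2)) := by rw [hck]
      _ = x ^ n * (y ^ n * x) * y * c ^ (n.choose 2) := by group
      _ = x ^ n * (x * y ^ n * c ^ n) * y * c ^ (n.choose 2) := by rw [h1]
      _ = x ^ n * x * y ^ n * (c ^ n * y) * c ^ (n.choose 2) := by group
      _ = x ^ n * x * y ^ n * (y * c ^ n) * c ^ (n.choose 2) := by rw [hcy]
      _ = x ^ (n + 1) * y ^ (n + 1) * c ^ ((n + 1).choose 2) := by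
        rw [hch, pow_succ x n, pow_succ y n, pow_add c n]; group

theorem p3_nonab_facts8 {P : Type*} [Group P] [Finite P] (p : ℕ) [hp : Fact p.Prime]
    (hcard : Nat.card P = p ^ 3) (hnab : ¬ ∀ a b : P, a * b = b * a) :
    Nat.card (Subgroup.center P) = p ∧ (∀ x y : P, x⁻¹ * y⁻¹ * x * y ∈ Subgroup.center P) ∧
      (∀ x : P, x ^ p ∈ Subgroup.center P) := by
  have hpp := hp.out
  have hPG : IsPGroup p P := IsPGroup.of_card hcard
  haveI : Nontrivial P := by
    rw [← Finite.one_lt_card_iff_nontrivial, hcard]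
    exact Nat.one_lt_pow (by norm_num) hpp.one_lt
  have hZnt : Nontrivial (Subgroup.center P) := hPG.center_nontrivial
  have hZdvd : Nat.card (Subgroup.center P) ∣ p ^ 3 := by
    rw [← hcard]; exact Subgroup.card_subgroup_dvd_card _
  obtain ⟨m, hm3, hZm⟩ := (Nat.dvd_prime_pow hpp).mp hZdvd
  have hquot : Nat.card (P ⧸ Subgroup.center P) * Nat.card (Subgroup.center P) = p ^ 3 := by
    rw [← Subgroup.card_eq_card_quotient_mul_card_subgroup, hcard]
  have hker : (QuotientGroup.mk' (Subgroup.center P)).ker ≤ Subgroup.center P := by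
    rw [QuotientGroup.ker_mk']
  have hncyc : ¬ IsCyclic (P ⧸ Subgroup.center P) := by
    intro h
    exact hnab (commutative_of_cyclic_center_quotient (QuotientGroup.mk' (Subgroup.center P)) hker)
  have hm0 : m ≠ 0 := by
    rintro rfl
    rw [pow_zero, ← Subgroup.eq_bot_iff_card] at hZm
    exact (Subgroup.nontrivial_iff_ne_bot _).mp hZnt hZm
  have hm3' : m ≠ 3 := by
    rintro rfl
    rw [← hcard, Subgroup.card_eq_iff_eq_top] at hZm
    apply hnab
    intro a b
    have h1 : b ∈ Subgroup.center P := by rw [hZm]; trivial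
    exact Subgroup.mem_center_iff.mp h1 a
  have hm2 : m ≠ 2 := by
    rintro rfl
    rw [hZm] at hquot
    have h1 : Nat.card (P ⧸ Subgroup.center P) = p := by
      have h2 : Nat.card (P ⧸ Subgroup.center P) * p ^ 2 = p * p ^ 2 := by rw [hquot]; ring
      exact Nat.eq_of_mul_eq_mul_right (pow_pos hpp.pos 2) h2
    exact hncyc (isCyclic_of_prime_card h1)
  have hm1 : m = 1 := by omega
  subst hm1
  rw [pow_one] at hZm
  have hQ : Nat.card (P ⧸ Subgroup.center P) = p ^ 2 := by
    rw [hZm] at hquot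
    have h2 : Nat.card (P ⧸ Subgroup.center P) * p = p ^ 2 * p := by rw [hquot]; ring
    exact Nat.eq_of_mul_eq_mul_right hpp.pos h2
  have hQcomm := IsPGroup.commutative_of_card_eq_prime_sq hQ
  refine ⟨hZm, ?_, ?_⟩
  · intro x y
    rw [← QuotientGroup.eq_one_iff]
    have h := hQcomm (QuotientGroup.mk x) (QuotientGroup.mk y)
    have e : ((x⁻¹ * y⁻¹ * x * y : P) : P ⧸ Subgroup.center P) =
        (QuotientGroup.mk x)⁻¹ * (QuotientGroup.mk y)⁻¹ *
          (QuotientGroup.mk x * QuotientGroup.mk y) := by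
      simp only [QuotientGroup.mk_mul, QuotientGroup.mk_inv, mul_assoc]
    rw [e, h]; group
  · intro x
    rw [← QuotientGroup.eq_one_iff, QuotientGroup.mk_pow]
    have hd : orderOf (QuotientGroup.mk x : P ⧸ Subgroup.center P) ∣ p ^ 2 := by
      rw [← hQ]; exact orderOf_dvd_natCard _
    obtain ⟨k, hk2, hk⟩ := (Nat.dvd_prime_pow hpp).mp hd
    have hk2' : k ≠ 2 := by
      rintro rfl
      exact hncyc (isCyclic_of_orderOf_eq_card _ (hk.trans hQ.symm))
    have hk1 : k ≤ 1 := by omega
    have h3 : orderOf (QuotientGroup.mk x : P ⧸ Subgroup.center P) ∣ p := by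
      rw [hk]
      calc p ^ k ∣ p ^ 1 := pow_dvd_pow p hk1
        _ = p := pow_one p
    exact orderOf_dvd_iff_pow_eq_one.mp h3

theorem frattini_elem8 {Q : Type*} [Group Q] [Finite Q] (p : ℕ) [hp : Fact p.Prime]
    (hQ : Nat.card Q = p ^ 2) (hexp : ∀ q : Q, q ^ p = 1) : frattini Q = ⊥ := by
  have hpp := hp.out
  have hord : ∀ q : Q, q ≠ 1 → orderOf q = p := by
    intro q hq
    rcases (Nat.dvd_prime hpp).mp (orderOf_dvd_of_pow_eq_one (hexp q)) with h | h
    · exact absurd (orderOf_eq_one_iff.mp h) hq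
    · exact h
  have hpne : p ^ 2 ≠ p := by
    intro h
    have h2 : p * p = p * 1 := by rw [mul_one, ← sq]; exact h
    exact hpp.one_lt.ne' (Nat.eq_of_mul_eq_mul_left hpp.pos h2)
  rw [eq_bot_iff]
  intro q hq
  rw [Subgroup.mem_bot]
  by_contra hq1
  have hcq : Nat.card (Subgroup.zpowers q) = p := by rw [Nat.card_zpowers, hord q hq1]
  obtain ⟨r, hr⟩ : ∃ r : Q, r ∉ Subgroup.zpowers q := by
    by_contra h
    push_neg at h
    have htop : Subgroup.zpowers q = ⊤ := (Subgroup.eq_top_iff' _).mpr h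
    rw [htop, Subgroup.card_top, hQ] at hcq
    exact hpne hcq
  have hr1 : r ≠ 1 := fun h => hr (by rw [h]; exact Subgroup.one_mem _)
  have hcr : Nat.card (Subgroup.zpowers r) = p := by rw [Nat.card_zpowers, hord r hr1]
  have hcoatom : IsCoatom (Subgroup.zpowers r) := by
    refine ⟨?_, ?_⟩
    · intro htop
      rw [htop, Subgroup.card_top, hQ] at hcr
      exact hpne hcr
    · intro b hb
      have hd : Nat.card b ∣ p ^ 2 := by rw [← hQ]; exact Subgroup.card_subgroup_dvd_card b
      obtain ⟨k, hk2, hk⟩ := (Nat.dvd_prime_pow hpp).mp hd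
      have hk2' : k = 2 := by
        by_contra hne
        have hk1 : k ≤ 1 := by omega
        have hle : Nat.card b ≤ Nat.card (Subgroup.zpowers r) := by
          rw [hk, hcr]
          calc p ^ k ≤ p ^ 1 := Nat.pow_le_pow_right hpp.pos hk1
            _ = p := pow_one p
        exact hb.ne (Subgroup.eq_of_le_of_card_ge hb.le hle)
      rw [← Subgroup.card_eq_iff_eq_top, hk, hk2', hQ]
  have hqr : q ∈ Subgroup.zpowers r := frattini_le_coatom hcoatom hq
  have hle : Subgroup.zpowers q ≤ Subgroup.zpowers r := Subgroup.zpowers_le.mpr hqr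
  have heq : Subgroup.zpowers q = Subgroup.zpowers r :=
    Subgroup.eq_of_le_of_card_ge hle (by rw [hcq, hcr])
  exact hr (by rw [heq]; exact Subgroup.mem_zpowers r)

theorem p3_nonab_extraspecial8 {P : Type*} [Group P] [Finite P] (p : ℕ) [hp : Fact p.Prime]
    (hcard : Nat.card P = p ^ 3) (hnab : ¬ ∀ a b : P, a * b = b * a) : IsExtraspecial p P := by
  obtain ⟨hZ, hcomm, hpow⟩ := p3_nonab_facts8 p hcard hnab
  have hpp := hp.out
  have hcZ : commutator P = Subgroup.center P := by
    have hle : commutator P ≤ Subgroup.center P := by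
      rw [commutator_def, Subgroup.commutator_le]
      intro g₁ _ g₂ _
      have h1 := hcomm g₁⁻¹ g₂⁻¹
      rw [inv_inv, inv_inv] at h1
      rw [commutatorElement_def]
      exact h1
    refine Subgroup.eq_of_le_of_card_ge hle ?_
    have hd : Nat.card (commutator P) ∣ p := by rw [← hZ]; exact Subgroup.card_dvd_of_le hle
    rcases (Nat.dvd_prime hpp).mp hd with h | h
    · exfalso
      rw [← Subgroup.eq_bot_iff_card] at h
      apply hnab
      intro a b
      have hm : ⁅a, b⁆ ∈ commutator P := by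
        rw [commutator_def]
        exact Subgroup.commutator_mem_commutator (Subgroup.mem_top a) (Subgroup.mem_top b)
      rw [h, Subgroup.mem_bot] at hm
      exact commutatorElement_eq_one_iff_mul_comm.mp hm
    · rw [h, hZ]
  have hfZ : frattini P = Subgroup.center P := by
    apply le_antisymm
    · have hQ : Nat.card (P ⧸ Subgroup.center P) = p ^ 2 := by
        have hquot : Nat.card (P ⧸ Subgroup.center P) * Nat.card (Subgroup.center P) = p ^ 3 := by
          rw [← Subgroup.card_eq_card_quotient_mul_card_subgroup, hcard]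
        rw [hZ] at hquot
        have h2 : Nat.card (P ⧸ Subgroup.center P) * p = p ^ 2 * p := by rw [hquot]; ring
        exact Nat.eq_of_mul_eq_mul_right hpp.pos h2
      have hQexp : ∀ q : P ⧸ Subgroup.center P, q ^ p = 1 := by
        intro q
        obtain ⟨x, rfl⟩ := QuotientGroup.mk_surjective q
        rw [← QuotientGroup.mk_pow, QuotientGroup.eq_one_iff]
        exact hpow x
      have hfr : frattini (P ⧸ Subgroup.center P) = ⊥ := frattini_elem8 p hQ hQexp
      intro g hg
      have h1 := frattini_le_comap_frattini_of_surjective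
        (QuotientGroup.mk'_surjective (Subgroup.center P)) hg
      rw [hfr, Subgroup.mem_comap, Subgroup.mem_bot, QuotientGroup.mk'_apply,
        QuotientGroup.eq_one_iff] at h1
      exact h1
    · unfold frattini Order.radical
      refine le_iInf₂ (fun M hM => ?_)
      have hM' : IsCoatom M := hM
      by_contra hZM
      have hsup : M ⊔ Subgroup.center P = ⊤ := by
        apply hM'.2
        exact lt_of_le_of_ne le_sup_left (fun h => hZM (by rw [h]; exact le_sup_right))
      have hdec : ∀ g : P, ∃ m ∈ M, ∃ z ∈ Subgroup.center P, m * z = g := by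
        intro g
        have hg : g ∈ ((M ⊔ Subgroup.center P : Subgroup P) : Set P) := by rw [hsup]; trivial
        rw [Subgroup.mul_normal] at hg
        exact Set.mem_mul.mp hg
      have hcM : commutator P ≤ M := by
        rw [commutator_def, Subgroup.commutator_le]
        intro a _ b _
        obtain ⟨m₁, hm₁, z₁, hz₁, rfl⟩ := hdec a
        obtain ⟨m₂, hm₂, z₂, hz₂, rfl⟩ := hdec b
        have h1 : ∀ g : P, g * z₁ = z₁ * g := Subgroup.mem_center_iff.mp hz₁
        have h2 : ∀ g : P, g * z₂ = z₂ * g := Subgroup.mem_center_iff.mp hz₂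
        have c1 : z₁ * (m₂ * z₂) * z₁⁻¹ = m₂ * z₂ := by
          rw [← h1 (m₂ * z₂), mul_inv_cancel_right]
        have c2 : z₂ * m₁⁻¹ * z₂⁻¹ = m₁⁻¹ := by rw [← h2 m₁⁻¹, mul_inv_cancel_right]
        have e : ⁅m₁ * z₁, m₂ * z₂⁆ = m₁ * m₂ * m₁⁻¹ * m₂⁻¹ := by
          rw [commutatorElement_def]
          calc m₁ * z₁ * (m₂ * z₂) * (m₁ * z₁)⁻¹ * (m₂ * z₂)⁻¹
              = m₁ * (z₁ * (m₂ * z₂) * z₁⁻¹) * m₁⁻¹ * (m₂ * z₂)⁻¹ := by group
            _ = m₁ * (m₂ * z₂) * m₁⁻¹ * (m₂ * z₂)⁻¹ := by rw [c1]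
            _ = m₁ * m₂ * (z₂ * m₁⁻¹ * z₂⁻¹) * m₂⁻¹ := by group
            _ = m₁ * m₂ * m₁⁻¹ * m₂⁻¹ := by rw [c2]
        rw [e]
        exact M.mul_mem (M.mul_mem (M.mul_mem hm₁ hm₂) (M.inv_mem hm₁)) (M.inv_mem hm₂)
      exact hZM (by rw [← hcZ]; exact hcM)
  exact ⟨⟨IsPGroup.of_card hcard, hfZ, hcZ⟩, hZ⟩

theorem center_char8 {P : Type*} [Group P] (α : MulAut P) (z : P)
    (hz : z ∈ Subgroup.center P) : α z ∈ Subgroup.center P := by
  rw [Subgroup.mem_center_iff] at hz ⊢
  intro g
  have h := hz (α⁻¹ g)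
  have h2 := congrArg α h
  rw [map_mul, map_mul, MulAut.apply_inv_self] at h2
  exact h2

/-- the map from the quaternion group determined by generators -/
def quatMap8 {P : Type*} [Group P] (x y : P) : QuaternionGroup 2 → P
  | QuaternionGroup.a i => x ^ i.val
  | QuaternionGroup.xa i => y * x ^ i.val

theorem quat_hom8 {P : Type*} [Group P] (x y : P) (hx4 : x ^ 4 = 1) (hy2 : y * y = x ^ 2)
    (hconj : y * x * y⁻¹ = x⁻¹) (q r : QuaternionGroup 2) :
    quatMap8 x y (q * r) = quatMap8 x y q * quatMap8 x y r := by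
  have he : ∀ i j : ZMod (2 * 2), x ^ (i + j).val = x ^ i.val * x ^ j.val := by
    intro i j
    rw [ZMod.val_add, ← pow_add]
    exact (pow_eq_pow_mod _ hx4).symm
  have e0 : x ^ (0 : ZMod (2 * 2)).val = 1 := by rw [ZMod.val_zero, pow_zero]
  have he_neg : ∀ i : ZMod (2 * 2), x ^ (-i).val = (x ^ i.val)⁻¹ := fun i =>
    eq_inv_of_mul_eq_one_left (by rw [← he, neg_add_cancel, e0])
  have he_sub : ∀ i j : ZMod (2 * 2), x ^ (j - i).val = (x ^ i.val)⁻¹ * x ^ j.val := by
    intro i j
    rw [sub_eq_neg_add, he, he_neg]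
  have e2 : (((2 : ℕ) : ZMod (2 * 2))).val = 2 := by
    rw [ZMod.val_natCast]
  have hcj : ∀ k : ℕ, x ^ k * y = y * (x ^ k)⁻¹ := by
    intro k
    have h1 : y * x ^ k * y⁻¹ = (x ^ k)⁻¹ := by rw [← conj_pow, hconj, inv_pow]
    have h2 : x ^ k = (y * x ^ k * y⁻¹)⁻¹ := by rw [h1, inv_inv]
    calc x ^ k * y = (y * x ^ k * y⁻¹)⁻¹ * y := by rw [← h2]
      _ = y * (x ^ k)⁻¹ := by group
  cases q with
  | a i =>
    cases r with
    | a j =>
      rw [QuaternionGroup.a_mul_a]
      exact he i j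
    | xa j =>
      rw [QuaternionGroup.a_mul_xa]
      show y * x ^ (j - i).val = x ^ i.val * (y * x ^ j.val)
      rw [he_sub, ← mul_assoc (x ^ i.val), hcj, mul_assoc]
  | xa i =>
    cases r with
    | a j =>
      rw [QuaternionGroup.xa_mul_a]
      show y * x ^ (i + j).val = y * x ^ i.val * x ^ j.val
      rw [he, mul_assoc]
    | xa j =>
      rw [QuaternionGroup.xa_mul_xa]
      show x ^ (((2 : ℕ) : ZMod (2 * 2)) + j - i).val = y * x ^ i.val * (y * x ^ j.val)
      have e3 : ((2 : ℕ) : ZMod (2 * 2)) + j - i = ((2 : ℕ) : ZMod (2 * 2)) + (j - i) := by ring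
      rw [e3, he, e2, he_sub]
      symm
      calc y * x ^ i.val * (y * x ^ j.val) = y * (x ^ i.val * y) * x ^ j.val := by group
        _ = y * (y * (x ^ i.val)⁻¹) * x ^ j.val := by rw [hcj]
        _ = (y * y) * ((x ^ i.val)⁻¹ * x ^ j.val) := by group
        _ = x ^ 2 * ((x ^ i.val)⁻¹ * x ^ j.val) := by rw [hy2]

theorem p3_two8 {P : Type*} [Group P] [Finite P] (hcard : Nat.card P = 2 ^ 3)
    (hnab : ¬ ∀ a b : P, a * b = b * a) :
    Nonempty (P ≃* QuaternionGroup 2) ∨ HasCharChain8 2 P := by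
  obtain ⟨hZ, hcomm, hpow⟩ := p3_nonab_facts8 2 hcard hnab
  obtain ⟨x, hx2⟩ : ∃ x : P, x ^ 2 ≠ 1 := by
    by_contra h
    push_neg at h
    apply hnab
    intro a b
    have ha : a⁻¹ = a := inv_eq_of_mul_eq_one_left (by rw [← sq]; exact h a)
    have hb : b⁻¹ = b := inv_eq_of_mul_eq_one_left (by rw [← sq]; exact h b)
    have hab : (a * b)⁻¹ = a * b := inv_eq_of_mul_eq_one_left (by rw [← sq]; exact h (a * b))
    calc a * b = (a * b)⁻¹ := hab.symm
      _ = b⁻¹ * a⁻¹ := mul_inv_rev a b
      _ = b * a := by rw [ha, hb]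
  have hx2Z : x ^ 2 ∈ Subgroup.center P := hpow x
  have hZel : ∀ z ∈ Subgroup.center P, z = 1 ∨ z = x ^ 2 := by
    intro z hz
    by_cases hz1 : z = 1
    · exact Or.inl hz1
    · right
      have hu := (Nat.card_eq_two_iff' (1 : Subgroup.center P)).mp hZ
      have h1 : (⟨z, hz⟩ : Subgroup.center P) ≠ 1 := fun h => hz1 (congrArg Subtype.val h)
      have h2 : (⟨x ^ 2, hx2Z⟩ : Subgroup.center P) ≠ 1 := fun h => hx2 (congrArg Subtype.val h)
      exact congrArg Subtype.val (hu.unique h1 h2)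
  have hx4 : x ^ 4 = 1 := by
    have h1 : (⟨x ^ 2, hx2Z⟩ : Subgroup.center P) ^ Nat.card (Subgroup.center P) = 1 :=
      pow_card_eq_one'
    rw [hZ] at h1
    have h2 : (x ^ 2) ^ 2 = 1 := congrArg Subtype.val h1
    rw [← pow_mul] at h2
    exact h2
  have hord : orderOf x = 4 :=
    orderOf_eq_prime_pow (p := 2) (n := 1) (x := x) (by rw [pow_one]; exact hx2) hx4
  have hXc : Nat.card (Subgroup.zpowers x) = 4 := by rw [Nat.card_zpowers, hord]
  have h8 : (2 : ℕ) ^ 3 = 8 := by norm_num
  have hXi : (Subgroup.zpowers x).index = 2 := by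
    have h := Subgroup.card_mul_index (Subgroup.zpowers x)
    rw [hXc, hcard, h8] at h
    omega
  have hcoset : ∀ y g : P, y ∉ Subgroup.zpowers x → g ∉ Subgroup.zpowers x →
      ∃ k : ℕ, g = y * x ^ k := by
    intro y g hy hg
    have h1 : y⁻¹ * g ∈ Subgroup.zpowers x := by
      rw [Subgroup.mul_mem_iff_of_index_two hXi, Subgroup.inv_mem_iff]
      exact ⟨fun h => absurd h hy, fun h => absurd h hg⟩
    obtain ⟨k, hk⟩ := (Submonoid.mem_powers_iff _ _).mp (mem_powers_iff_mem_zpowers.mpr h1)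
    exact ⟨k, by rw [hk]; group⟩
  have hconj : ∀ y : P, y ∉ Subgroup.zpowers x → y * x * y⁻¹ = x⁻¹ := by
    intro y hy
    have hc : y * x * y⁻¹ * x⁻¹ ∈ Subgroup.center P := by
      have h1 := hcomm y⁻¹ x⁻¹
      rwa [inv_inv, inv_inv] at h1
    rcases hZel _ hc with h | h
    · exfalso
      have hyx : y * x = x * y := by
        have h3 : y * x = (y * x * y⁻¹ * x⁻¹) * x * y := by group
        rw [h3, h, one_mul]
      have hxZ : x ∈ Subgroup.center P := by
        rw [Subgroup.mem_center_iff]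
        intro g
        by_cases hg : g ∈ Subgroup.zpowers x
        · obtain ⟨k, hk⟩ := (Submonoid.mem_powers_iff _ _).mp (mem_powers_iff_mem_zpowers.mpr hg)
          rw [← hk]
          exact (Commute.pow_self x k).eq
        · obtain ⟨k, hk⟩ := hcoset y g hy hg
          rw [hk]
          calc y * x ^ k * x = y * (x ^ k * x) := mul_assoc _ _ _
            _ = y * (x * x ^ k) := by rw [(Commute.pow_self x k).eq]
            _ = (y * x) * x ^ k := (mul_assoc _ _ _).symm
            _ = x * y * x ^ k := by rw [hyx]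
            _ = x * (y * x ^ k) := mul_assoc _ _ _
      rcases hZel x hxZ with h' | h'
      · apply hx2; rw [h', one_pow]
      · apply hx2
        have h4 : x = 1 := by
          have h3 : x * 1 = x * x := by rw [mul_one, ← sq]; exact h'
          exact (mul_left_cancel h3).symm
        rw [h4, one_pow]
    · have h3 : y * x * y⁻¹ = (y * x * y⁻¹ * x⁻¹) * x := by group
      rw [h3, h]
      apply eq_inv_of_mul_eq_one_left
      rw [← pow_succ, ← pow_succ]; exact hx4
  have hconjk : ∀ (y : P) (k : ℕ), y ∉ Subgroup.zpowers x →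
      y * x ^ k * y⁻¹ = (x ^ k)⁻¹ := by
    intro y k hy
    rw [← conj_pow, hconj y hy, inv_pow]
  obtain ⟨y, hy⟩ : ∃ y : P, y ∉ Subgroup.zpowers x := by
    by_contra h
    push_neg at h
    have htop : Subgroup.zpowers x = ⊤ := (Subgroup.eq_top_iff' _).mpr h
    rw [htop, Subgroup.card_top, hcard, h8] at hXc
    omega
  by_cases hinv : ∃ y' : P, y' ∉ Subgroup.zpowers x ∧ y' ^ 2 = 1
  · right
    obtain ⟨y', hy', hy2⟩ := hinv
    have hall : ∀ g : P, g ∉ Subgroup.zpowers x → g ^ 2 = 1 := by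
      intro g hg
      obtain ⟨k, rfl⟩ := hcoset y' g hy' hg
      have hyi : y'⁻¹ = y' := inv_eq_of_mul_eq_one_left (by rw [← sq]; exact hy2)
      have h1 := hconjk y' k hy'
      rw [hyi] at h1
      rw [sq]
      calc y' * x ^ k * (y' * x ^ k) = (y' * x ^ k * y') * x ^ k := by group
        _ = 1 := by rw [h1, inv_mul_cancel]
    have hXchar : ∀ α : MulAut P, ∀ g ∈ Subgroup.zpowers x, α g ∈ Subgroup.zpowers x := by
      intro α g hg
      have hαx : α x ∈ Subgroup.zpowers x := by
        by_contra hn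
        have h1 := hall _ hn
        rw [← map_pow] at h1
        have h2 : α (x ^ 2) = α 1 := by rw [h1, map_one]
        exact hx2 (α.injective h2)
      obtain ⟨k, hk⟩ := (Submonoid.mem_powers_iff _ _).mp (mem_powers_iff_mem_zpowers.mpr hg)
      rw [← hk, map_pow]
      exact Subgroup.pow_mem _ hαx k
    refine ⟨Subgroup.center P, Subgroup.zpowers x, ?_, hZ, ?_, center_char8, hXchar⟩
    · intro z hz
      rcases hZel z hz with h | h
      · rw [h]; exact Subgroup.one_mem _
      · rw [h]; exact Subgroup.pow_mem _ (Subgroup.mem_zpowers x) 2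
    · rw [hXc]; norm_num
  · left
    push_neg at hinv
    have hy2 : y * y = x ^ 2 := by
      rcases hZel (y ^ 2) (hpow y) with h | h
      · exact absurd h (hinv y hy)
      · rw [← sq]; exact h
    have hhom := quat_hom8 x y hx4 hy2 (hconj y hy)
    obtain ⟨f, hf⟩ : ∃ f : QuaternionGroup 2 →* P, ∀ q, f q = quatMap8 x y q :=
      ⟨MonoidHom.mk' (quatMap8 x y) hhom, fun q => rfl⟩
    have hinj : Function.Injective f := by
      rw [injective_iff_map_eq_one]
      intro q hq
      rw [hf] at hq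
      cases q with
      | a i =>
        have h1 : x ^ i.val = 1 := hq
        have h2 : orderOf x ∣ i.val := orderOf_dvd_of_pow_eq_one h1
        rw [hord] at h2
        have h3 : i.val < 4 := ZMod.val_lt i
        have h4 : i.val = 0 := by omega
        have h5 : i = 0 := (ZMod.val_eq_zero i).mp h4
        rw [h5, QuaternionGroup.a_zero]
      | xa i =>
        exfalso
        have h1 : y * x ^ i.val = 1 := hq
        apply hy
        have h2 : y = (x ^ i.val)⁻¹ := eq_inv_of_mul_eq_one_left h1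
        rw [h2]
        exact Subgroup.inv_mem _ (Subgroup.pow_mem _ (Subgroup.mem_zpowers x) _)
    have hq8 : Nat.card (QuaternionGroup 2) = 4 * 2 := by
      rw [Nat.card_eq_fintype_card, QuaternionGroup.card]
    have hbij : Function.Bijective f := by
      rw [Nat.bijective_iff_injective_and_card]
      exact ⟨hinj, hq8.trans (hcard.trans (by norm_num)).symm⟩
    exact ⟨(MulEquiv.ofBijective f hbij).symm⟩

theorem p3_classify8 {P : Type*} [Group P] [Finite P] (p : ℕ) [hp : Fact p.Prime]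
    (hcard : Nat.card P = p ^ 3) :
    ((∀ a b : P, a * b = b * a) ∧ ∀ x : P, x ^ p = 1) ∨
    (Odd p ∧ IsExtraspecial p P ∧ ∀ x : P, x ^ p = 1) ∨
    (p = 2 ∧ Nonempty (P ≃* QuaternionGroup 2)) ∨ HasCharChain8 p P := by
  have hpp := hp.out
  by_cases hab : ∀ a b : P, a * b = b * a
  · by_cases hexp : ∀ x : P, x ^ p = 1
    · exact Or.inl ⟨hab, hexp⟩
    · push_neg at hexp
      exact Or.inr (Or.inr (Or.inr (chain_of_powhom8 p hcard
        (fun x y => (show Commute x y from hab x y).mul_pow p) hexp)))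
  · rcases hpp.eq_two_or_odd' with h2 | hodd
    · subst h2
      rcases p3_two8 hcard hab with h | h
      · exact Or.inr (Or.inr (Or.inl ⟨rfl, h⟩))
      · exact Or.inr (Or.inr (Or.inr h))
    · by_cases hexp : ∀ x : P, x ^ p = 1
      · exact Or.inr (Or.inl ⟨hodd, p3_nonab_extraspecial8 p hcard hab, hexp⟩)
      · push_neg at hexp
        refine Or.inr (Or.inr (Or.inr (chain_of_powhom8 p hcard ?_ hexp)))
        obtain ⟨hZ, hcomm, hpow⟩ := p3_nonab_facts8 p hcard hab
        intro x y
        have hcZ : y⁻¹ * x⁻¹ * y * x ∈ Subgroup.center P := hcomm y x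
        have hc : ∀ g : P, (y⁻¹ * x⁻¹ * y * x) * g = g * (y⁻¹ * x⁻¹ * y * x) :=
          fun g => (Subgroup.mem_center_iff.mp hcZ g).symm
        have hyx : y * x = x * y * (y⁻¹ * x⁻¹ * y * x) := by group
        have h1 := class2_mul_pow8 x y _ hc hyx p
        have hcp : (y⁻¹ * x⁻¹ * y * x) ^ p = 1 := by
          have h2 : (⟨_, hcZ⟩ : Subgroup.center P) ^ Nat.card (Subgroup.center P) = 1 :=
            pow_card_eq_one'
          rw [hZ] at h2
          exact congrArg Subtype.val h2
        have hdvd : p ∣ p.choose 2 := hpp.dvd_choose_self (by norm_num) (by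
          rcases hodd with ⟨k, hk⟩
          have := hpp.two_le
          omega)
        obtain ⟨t, ht⟩ := hdvd
        rw [h1, ht, pow_mul, hcp, one_pow, mul_one]

end Cfsg.Agent.Lib.Helper8
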