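import Mathlib
import Cfsg.Agent.Lib.Helper8.P3a
import Cfsg.Agent.Lib.Helper8.P3b

set_option autoImplicit false

namespace Cfsg.Agent.Lib.Helper8

/-- a chain of characteristic subgroups of orders `p`, `p²`, `p³` -/
def HasCharChain4_8 (p : ℕ) (P : Type*) [Group P] : Prop :=
  ∃ C₁ C₂ C₃ : Subgroup P, C₁ ≤ C₂ ∧ C₂ ≤ C₃ ∧ Nat.card C₁ = p ∧ Nat.card C₂ = p ^ 2 ∧
    Nat.card C₃ = p ^ 3 ∧ (∀ α : MulAut P, ∀ y ∈ C₁, α y ∈ C₁) ∧
    (∀ α : MulAut P, ∀ y ∈ C₂, α y ∈ C₂) ∧ (∀ α : MulAut P, ∀ y ∈ C₃, α y ∈ C₃)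

theorem relStab8 {H : Type*} [Group H] (N C : Subgroup H)
    (hN : ∀ α : MulAut H, ∀ y ∈ N, α y ∈ N) (hC : ∀ α : MulAut H, ∀ y ∈ C, α y ∈ C) :
    ∃ U : Subgroup (MulAut H), U.Normal ∧ ∀ α : MulAut H, α ∈ U ↔ ∀ y ∈ C, y⁻¹ * α y ∈ N := by
  obtain ⟨U, hU⟩ : ∃ U : Subgroup (MulAut H), ∀ α : MulAut H, α ∈ U ↔
      ∀ y ∈ C, y⁻¹ * α y ∈ N := by
    refine ⟨{ carrier := {α | ∀ y ∈ C, y⁻¹ * α y ∈ N}
              one_mem' := ?_
              mul_mem' := ?_
              inv_mem' := ?_ }, fun α => Iff.rfl⟩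
    · intro α β ha hb
      show ∀ y ∈ C, y⁻¹ * (α * β) y ∈ N
      intro y hy
      have e : y⁻¹ * (α * β) y = (y⁻¹ * α y) * α (y⁻¹ * β y) := by
        rw [MulAut.mul_apply, map_mul, map_inv]; group
      rw [e]
      exact N.mul_mem (ha y hy) (hN α _ (hb y hy))
    · show ∀ y ∈ C, y⁻¹ * (1 : MulAut H) y ∈ N
      intro y _
      have : y⁻¹ * (1 : MulAut H) y = 1 := by rw [MulAut.one_apply, inv_mul_cancel]
      rw [this]; exact N.one_mem
    · intro α ha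
      show ∀ y ∈ C, y⁻¹ * α⁻¹ y ∈ N
      intro y hy
      have hw : α⁻¹ y ∈ C := hC α⁻¹ y hy
      have h1 := ha _ hw
      rw [MulAut.apply_inv_self] at h1
      have e : y⁻¹ * α⁻¹ y = ((α⁻¹ y)⁻¹ * y)⁻¹ := by group
      rw [e]; exact N.inv_mem h1
  refine ⟨U, ⟨fun α hα γ => ?_⟩, hU⟩
  rw [hU] at hα ⊢
  intro y hy
  have e : y⁻¹ * (γ * α * γ⁻¹) y = γ ((γ⁻¹ y)⁻¹ * α (γ⁻¹ y)) := by
    rw [MulAut.mul_apply, MulAut.mul_apply, map_mul, map_inv, MulAut.apply_inv_self]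
  rw [e]
  exact hN γ _ (hα _ (hC γ⁻¹ y hy))

theorem fix_step8 {H : Type*} [Group H] (γ : MulAut H) (N C : Subgroup H) (n : ℕ)
    (hexp : ∀ z ∈ N, z ^ n = 1) (hfix : ∀ z ∈ N, γ z = z)
    (hrel : ∀ y ∈ C, y⁻¹ * γ y ∈ N) : ∀ y ∈ C, (γ ^ n) y = y := by
  intro y hy
  rw [pow_fix8 γ y (hfix _ (hrel y hy)) n, hexp _ (hrel y hy), mul_one]

theorem chain4_pclosed8 {H : Type*} [Group H] [Finite H] (p : ℕ) [hp : Fact p.Prime]
    (hcH : Nat.card H = p ^ 4) (hch : HasCharChain4_8 p H) :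
    ∃ U : Subgroup (MulAut H), U.Normal ∧ IsPGroup p U ∧
      ∀ (β : MulAut H) (k : ℕ), β ^ (p ^ k) = 1 → β ∈ U := by
  obtain ⟨C₁, C₂, C₃, h12, h23, hc1, hc2, hc3, hchar1, hchar2, hchar3⟩ := hch
  have hbot : ∀ α : MulAut H, ∀ y ∈ (⊥ : Subgroup H), α y ∈ (⊥ : Subgroup H) := by
    intro α y hy; rw [Subgroup.mem_bot] at hy ⊢; rw [hy, map_one]
  have htop : ∀ α : MulAut H, ∀ y ∈ (⊤ : Subgroup H), α y ∈ (⊤ : Subgroup H) :=
    fun _ _ _ => Subgroup.mem_top _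
  obtain ⟨U₁, hn1, hU1⟩ := relStab8 ⊥ C₁ hbot hchar1
  obtain ⟨U₂, hn2, hU2⟩ := relStab8 C₁ C₂ hchar1 hchar2
  obtain ⟨U₃, hn3, hU3⟩ := relStab8 C₂ C₃ hchar2 hchar3
  obtain ⟨U₄, hn4, hU4⟩ := relStab8 C₃ ⊤ hchar3 htop
  haveI := hn1
  haveI := hn2
  haveI := hn3
  haveI := hn4
  have hexp : ∀ (C : Subgroup H) (n : ℕ), Nat.card C = n → ∀ z ∈ C, z ^ n = 1 := by
    intro C n hn z hz
    have h1 : (⟨z, hz⟩ : C) ^ Nat.card C = 1 := pow_card_eq_one'
    rw [hn] at h1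
    exact congrArg Subtype.val h1
  refine ⟨U₁ ⊓ U₂ ⊓ U₃ ⊓ U₄, inferInstance, ?_, ?_⟩
  · intro g
    refine ⟨6, Subtype.ext ?_⟩
    have hmem : ∀ n : ℕ, ((g : MulAut H) ^ n) ∈ U₁ ⊓ U₂ ⊓ U₃ ⊓ U₄ :=
      fun n => Subgroup.pow_mem _ g.2 n
    have hm : ∀ n : ℕ, ((g : MulAut H) ^ n ∈ U₁ ∧ (g : MulAut H) ^ n ∈ U₂ ∧
        (g : MulAut H) ^ n ∈ U₃ ∧ (g : MulAut H) ^ n ∈ U₄) := by
      intro n
      obtain ⟨⟨⟨a, b⟩, c⟩, d⟩ := hmem n
      exact ⟨a, b, c, d⟩
    have hg1 : (g : MulAut H) ∈ U₁ := by have := (hm 1).1; rwa [pow_one] at this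
    have hg2 : (g : MulAut H) ∈ U₂ := by have := (hm 1).2.1; rwa [pow_one] at this
    have f1 : ∀ z ∈ C₁, (g : MulAut H) z = z := by
      intro z hz
      have h := (hU1 _).mp hg1 z hz
      rw [Subgroup.mem_bot] at h
      exact (inv_mul_eq_one.mp h).symm
    have f2 : ∀ y ∈ C₂, ((g : MulAut H) ^ p) y = y :=
      fix_step8 _ C₁ C₂ p (hexp C₁ p hc1) f1 ((hU2 _).mp hg2)
    have f3 : ∀ y ∈ C₃, (((g : MulAut H) ^ p) ^ (p ^ 2)) y = y :=
      fix_step8 _ C₂ C₃ (p ^ 2) (hexp C₂ _ hc2) f2 ((hU3 _).mp (hm p).2.2.1)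
    have f4 : ∀ y ∈ (⊤ : Subgroup H), ((((g : MulAut H) ^ p) ^ (p ^ 2)) ^ (p ^ 3)) y = y :=
      fix_step8 _ C₃ ⊤ (p ^ 3) (hexp C₃ _ hc3) f3
        ((hU4 _).mp (by rw [← pow_mul]; exact (hm _).2.2.2))
    have e : ((g ^ p ^ 6 : (U₁ ⊓ U₂ ⊓ U₃ ⊓ U₄ : Subgroup (MulAut H))) : MulAut H) =
        (((g : MulAut H) ^ p) ^ (p ^ 2)) ^ (p ^ 3) := by
      rw [Subgroup.coe_pow, ← pow_mul, ← pow_mul]
      congr 1
      ring
    rw [e]
    exact MulEquiv.ext fun x => f4 x (Subgroup.mem_top x)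
  · intro β k hβ
    refine ⟨⟨⟨?_, ?_⟩, ?_⟩, ?_⟩
    · refine (hU1 β).mpr ?_
      exact stab_step8 p ⊥ C₁ bot_le (fun c _ n hn => by
          rw [Subgroup.mem_bot] at hn ⊢; rw [hn]; group) (by rw [Subgroup.card_bot, mul_one, hc1])
        β (hchar1 β) (hbot β) k hβ
    · refine (hU2 β).mpr ?_
      exact stab_step8 p C₁ C₂ h12 (fun c _ n hn => by
          have := hchar1 (MulAut.conj c) n hn
          rwa [MulAut.conj_apply] at this) (by rw [hc1, hc2]; ring)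
        β (hchar2 β) (hchar1 β) k hβ
    · refine (hU3 β).mpr ?_
      exact stab_step8 p C₂ C₃ h23 (fun c _ n hn => by
          have := hchar2 (MulAut.conj c) n hn
          rwa [MulAut.conj_apply] at this) (by rw [hc2, hc3]; ring)
        β (hchar3 β) (hchar2 β) k hβ
    · refine (hU4 β).mpr ?_
      exact stab_step8 p C₃ ⊤ le_top (fun c _ n hn => by
          have := hchar3 (MulAut.conj c) n hn
          rwa [MulAut.conj_apply] at this) (by rw [Subgroup.card_top, hc3, hcH]; ring)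
        β (htop β) (hchar3 β) k hβ

theorem sub_card8 {G : Type*} [Group G] [Finite G] {p : ℕ} (hp : p.Prime) {a : ℕ}
    (hG : Nat.card G = p ^ a) (K : Subgroup G) : ∃ m, m ≤ a ∧ Nat.card K = p ^ m := by
  have hd : Nat.card K ∣ p ^ a := by rw [← hG]; exact Subgroup.card_subgroup_dvd_card K
  exact (Nat.dvd_prime_pow hp).mp hd

theorem sub_lt_card8 {G : Type*} [Group G] [Finite G] {K L : Subgroup G} (hKL : K ≤ L)
    (x : G) (hxL : x ∈ L) (hxK : x ∉ K) : Nat.card K < Nat.card L := by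
  by_contra h
  push_neg at h
  have h1 := Subgroup.eq_of_le_of_card_ge hKL h
  exact hxK (h1 ▸ hxL)

/-- the centralizer of `y` in `K` has index at most `p` when all commutators with `y`
lie in a central subgroup of order `p` -/
theorem cent_card8 {G : Type*} [Group G] [Finite G] (p : ℕ) (N : Subgroup G)
    (hNZ : N ≤ Subgroup.center G) (hN : Nat.card N = p) (K : Subgroup G) (y : G)
    (hy : ∀ g ∈ K, g * y * g⁻¹ * y⁻¹ ∈ N) :
    ∃ L : Subgroup G, (∀ g : G, g ∈ L ↔ g ∈ K ∧ g * y = y * g) ∧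
      Nat.card K ≤ p * Nat.card L := by
  obtain ⟨τ, hτ⟩ : ∃ τ : K →* N, ∀ g : K, ((τ g : N) : G) = (g : G) * y * (g : G)⁻¹ * y⁻¹ := by
    refine ⟨MonoidHom.mk' (fun g => ⟨(g : G) * y * (g : G)⁻¹ * y⁻¹, hy g g.2⟩) ?_, fun g => rfl⟩
    intro g h
    apply Subtype.ext
    show ((g * h : K) : G) * y * ((g * h : K) : G)⁻¹ * y⁻¹ =
      ((g : G) * y * (g : G)⁻¹ * y⁻¹) * ((h : G) * y * (h : G)⁻¹ * y⁻¹)
    have hc := Subgroup.mem_center_iff.mp (hNZ (hy h h.2))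
    rw [Subgroup.coe_mul]
    calc (g : G) * h * y * ((g : G) * h)⁻¹ * y⁻¹
        = (g : G) * ((h : G) * y * (h : G)⁻¹ * y⁻¹) * (y * (g : G)⁻¹ * y⁻¹) := by group
      _ = ((h : G) * y * (h : G)⁻¹ * y⁻¹) * (g : G) * (y * (g : G)⁻¹ * y⁻¹) := by
          rw [hc (g : G)]
      _ = ((h : G) * y * (h : G)⁻¹ * y⁻¹) * ((g : G) * y * (g : G)⁻¹ * y⁻¹) := by group
      _ = ((g : G) * y * (g : G)⁻¹ * y⁻¹) * ((h : G) * y * (h : G)⁻¹ * y⁻¹) := (hc _).symm
  refine ⟨τ.ker.map K.subtype, ?_, ?_⟩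
  · intro g
    constructor
    · rintro ⟨k, hk, rfl⟩
      refine ⟨k.2, ?_⟩
      show (k : G) * y = y * (k : G)
      have h1 : ((τ k : N) : G) = 1 := by rw [MonoidHom.mem_ker.mp hk]; rfl
      rw [hτ] at h1
      have h2 : (k : G) * y = ((k : G) * y * (k : G)⁻¹ * y⁻¹) * (y * k) := by group
      rw [h2, h1, one_mul]
    · rintro ⟨hgK, hgy⟩
      refine ⟨⟨g, hgK⟩, MonoidHom.mem_ker.mpr ?_, rfl⟩
      apply Subtype.ext
      rw [hτ]
      show g * y * g⁻¹ * y⁻¹ = 1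
      rw [hgy]; group
  · have h1 : Nat.card τ.ker * Nat.card τ.range = Nat.card K := by
      rw [← Subgroup.index_ker]; exact Subgroup.card_mul_index _
    have h2 : Nat.card τ.range ≤ p := by rw [← hN]; exact Subgroup.card_le_card_group _
    have h3 : Nat.card (τ.ker.map K.subtype) = Nat.card τ.ker :=
      Subgroup.card_map_of_injective K.subtype_injective
    rw [h3, ← h1, mul_comm]
    exact Nat.mul_le_mul_right _ h2

theorem mem_comap_center8 {G : Type*} [Group G] (N : Subgroup G) [N.Normal] (x : G) :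
    x ∈ (Subgroup.center (G ⧸ N)).comap (QuotientGroup.mk' N) ↔
      ∀ g : G, x * g * x⁻¹ * g⁻¹ ∈ N := by
  rw [Subgroup.mem_comap, Subgroup.mem_center_iff]
  have e : ∀ g : G, ((x * g * x⁻¹ * g⁻¹ : G) : G ⧸ N) = (QuotientGroup.mk' N x) *
      (QuotientGroup.mk g) * (QuotientGroup.mk' N x)⁻¹ * (QuotientGroup.mk g)⁻¹ := fun g => rfl
  constructor
  · intro h g
    have h1 := h (QuotientGroup.mk g)
    rw [← QuotientGroup.eq_one_iff, e, ← h1]; group
  · intro h q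
    obtain ⟨g, rfl⟩ := QuotientGroup.mk_surjective q
    have h1 := h g
    rw [← QuotientGroup.eq_one_iff, e] at h1
    have e2 : (QuotientGroup.mk g : G ⧸ N) * QuotientGroup.mk' N x =
        (QuotientGroup.mk' N x * QuotientGroup.mk g * (QuotientGroup.mk' N x)⁻¹ *
          (QuotientGroup.mk g)⁻¹)⁻¹ * (QuotientGroup.mk' N x * QuotientGroup.mk g) := by group
    rw [e2, h1, inv_one, one_mul]

/-- order `p⁴` with centre of order `p`: a characteristic chain exists -/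
theorem p4_center_p8 {G : Type*} [Group G] [Finite G] (p : ℕ) [hp : Fact p.Prime]
    (hcard : Nat.card G = p ^ 4) (hZ : Nat.card (Subgroup.center G) = p) :
    HasCharChain4_8 p G := by
  have hpp := hp.out
  have h1p : 1 < p := hpp.one_lt
  have hcQ : Nat.card (G ⧸ Subgroup.center G) = p ^ 3 := by
    have h := Subgroup.card_eq_card_quotient_mul_card_subgroup (Subgroup.center G)
    rw [hcard, hZ] at h
    have h2 : Nat.card (G ⧸ Subgroup.center G) * p = p ^ 3 * p := by rw [← h]; ring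
    exact Nat.eq_of_mul_eq_mul_right hpp.pos h2
  have hexZ : ∀ K : Subgroup G, p < Nat.card K → ∃ x ∈ K, x ∉ Subgroup.center G := by
    intro K hK
    by_contra hcon
    push_neg at hcon
    have h1 : Nat.card K ≤ Nat.card (Subgroup.center G) := Subgroup.card_le_of_le hcon
    rw [hZ] at h1
    omega
  have hnc : ∀ x : G, x ∉ Subgroup.center G → ∃ g : G, g * x ≠ x * g := by
    intro x hx
    by_contra hcon
    push_neg at hcon
    exact hx (Subgroup.mem_center_iff.mpr hcon)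
  by_cases hQ : ∀ a b : G ⧸ Subgroup.center G, a * b = b * a
  · exfalso
    have hcomm : ∀ x y : G, x * y * x⁻¹ * y⁻¹ ∈ Subgroup.center G := by
      intro x y
      rw [← QuotientGroup.eq_one_iff]
      have e : ((x * y * x⁻¹ * y⁻¹ : G) : G ⧸ Subgroup.center G) =
          (QuotientGroup.mk x) * (QuotientGroup.mk y) * (QuotientGroup.mk x)⁻¹ *
            (QuotientGroup.mk y)⁻¹ := rfl
      rw [e, hQ (QuotientGroup.mk x) (QuotientGroup.mk y)]; group
    obtain ⟨a, -, ha⟩ := hexZ ⊤ (by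
      rw [Subgroup.card_top, hcard]
      calc p = p ^ 1 := (pow_one p).symm
        _ < p ^ 4 := Nat.pow_lt_pow_right h1p (by norm_num))
    obtain ⟨A, hA, hAcard⟩ := cent_card8 p (Subgroup.center G) le_rfl hZ ⊤ a
      (fun g _ => hcomm g a)
    rw [Subgroup.card_top, hcard] at hAcard
    obtain ⟨b, hb⟩ := hnc a ha
    obtain ⟨L, hL, hLcard⟩ := cent_card8 p (Subgroup.center G) le_rfl hZ A b
      (fun g _ => hcomm g b)
    have hL2 : p < Nat.card L := by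
      have h1 : p ^ 4 ≤ p * (p * Nat.card L) :=
        hAcard.trans (Nat.mul_le_mul_left p hLcard)
      have h2 : p * (p * (p * p)) ≤ p * (p * Nat.card L) := by
        calc p * (p * (p * p)) = p ^ 4 := by ring
          _ ≤ p * (p * Nat.card L) := h1
      have h3 : p * p ≤ Nat.card L :=
        Nat.le_of_mul_le_mul_left (Nat.le_of_mul_le_mul_left h2 hpp.pos) hpp.pos
      nlinarith
    obtain ⟨x, hxL, hxZ⟩ := hexZ L hL2
    obtain ⟨hxA, hxb⟩ := (hL x).mp hxL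
    have hxa : x * a = a * x := ((hA x).mp hxA).2
    obtain ⟨N, hN, hNcard⟩ := cent_card8 p (Subgroup.center G) le_rfl hZ ⊤ x
      (fun g _ => hcomm g x)
    rw [Subgroup.card_top, hcard] at hNcard
    have haN : a ∈ N := (hN a).mpr ⟨Subgroup.mem_top _, hxa.symm⟩
    have hbN : b ∈ N := (hN b).mpr ⟨Subgroup.mem_top _, hxb.symm⟩
    obtain ⟨g₀, hg₀⟩ := hnc x hxZ
    have hg₀N : g₀ ∉ N := fun h => hg₀ ((hN g₀).mp h).2
    obtain ⟨m, hm4, hcm⟩ := sub_card8 hpp hcard N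
    have hm3 : m = 3 := by
      have h1 : Nat.card N < Nat.card (⊤ : Subgroup G) :=
        sub_lt_card8 le_top g₀ (Subgroup.mem_top _) hg₀N
      rw [Subgroup.card_top, hcard, hcm] at h1
      have h2 := (Nat.pow_lt_pow_iff_right h1p).mp h1
      rw [hcm] at hNcard
      have h3 : p ^ 4 ≤ p ^ (m + 1) := by
        calc p ^ 4 ≤ p * p ^ m := hNcard
          _ = p ^ (m + 1) := by ring
      have h4 := (Nat.pow_le_pow_iff_right h1p).mp h3
      omega
    rw [hm3] at hcm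
    have hnabN : ¬ ∀ u v : N, u * v = v * u := by
      intro h
      have h1 := congrArg Subtype.val (h ⟨b, hbN⟩ ⟨a, haN⟩)
      exact hb h1
    obtain ⟨hZN, -, -⟩ := p3_nonab_facts8 p hcm hnabN
    have hW : Nat.card ((Subgroup.center N).map N.subtype) = p := by
      rw [Subgroup.card_map_of_injective N.subtype_injective, hZN]
    have hZW : Subgroup.center G ≤ (Subgroup.center N).map N.subtype := by
      intro z hz
      have hzN : z ∈ N := (hN z).mpr ⟨Subgroup.mem_top _, Subgroup.mem_center_iff.mp hz x |>.symm⟩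
      refine ⟨⟨z, hzN⟩, Subgroup.mem_center_iff.mpr ?_, rfl⟩
      intro g
      exact Subtype.ext (Subgroup.mem_center_iff.mp hz g)
    have hZeq := Subgroup.eq_of_le_of_card_ge hZW (by rw [hW, hZ])
    apply hxZ
    rw [hZeq]
    have hxN : x ∈ N := (hN x).mpr ⟨Subgroup.mem_top _, rfl⟩
    refine ⟨⟨x, hxN⟩, Subgroup.mem_center_iff.mpr ?_, rfl⟩
    intro g
    exact Subtype.ext ((hN g).mp g.2).2
  · obtain ⟨hZQ, -, -⟩ := p3_nonab_facts8 p hcQ hQ
    obtain ⟨Z₂, hZ₂def⟩ : ∃ Z₂ : Subgroup G, Z₂ =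
        (Subgroup.center (G ⧸ Subgroup.center G)).comap (QuotientGroup.mk' (Subgroup.center G)) :=
      ⟨_, rfl⟩
    have hZ₂ : ∀ x : G, x ∈ Z₂ ↔ ∀ g : G, x * g * x⁻¹ * g⁻¹ ∈ Subgroup.center G := by
      intro x; rw [hZ₂def]; exact mem_comap_center8 _ x
    have hcZ₂ : Nat.card Z₂ = p ^ 2 := by
      have h1 : Z₂.index = (Subgroup.center (G ⧸ Subgroup.center G)).index := by
        rw [hZ₂def]
        exact Subgroup.index_comap_of_surjective _ (QuotientGroup.mk'_surjective _)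
      have h2 := Subgroup.card_mul_index (Subgroup.center (G ⧸ Subgroup.center G))
      rw [hZQ, hcQ] at h2
      have h3 : (Subgroup.center (G ⧸ Subgroup.center G)).index = p ^ 2 := by
        have h4 : p * (Subgroup.center (G ⧸ Subgroup.center G)).index = p * p ^ 2 := by
          rw [h2]; ring
        exact Nat.eq_of_mul_eq_mul_left hpp.pos h4
      have h5 := Subgroup.card_mul_index Z₂
      rw [h1, h3, hcard] at h5
      have h6 : Nat.card Z₂ * p ^ 2 = p ^ 2 * p ^ 2 := by rw [h5]; ring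
      exact Nat.eq_of_mul_eq_mul_right (pow_pos hpp.pos 2) h6
    have hZZ₂ : Subgroup.center G ≤ Z₂ := by
      intro z hz
      rw [hZ₂]
      intro g
      have h1 := Subgroup.mem_center_iff.mp hz g
      have e : z * g * z⁻¹ * g⁻¹ = 1 := by rw [← h1]; group
      rw [e]; exact Subgroup.one_mem _
    have hZ₂char : ∀ α : MulAut G, ∀ y ∈ Z₂, α y ∈ Z₂ := by
      intro α y hy
      rw [hZ₂] at hy ⊢
      intro g
      have h1 := center_char8 α _ (hy (α⁻¹ g))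
      rw [map_mul, map_mul, map_mul, map_inv, map_inv, MulAut.apply_inv_self] at h1
      exact h1
    have hZ₂comm : ∀ u v : G, u ∈ Z₂ → v ∈ Z₂ → u * v = v * u := by
      intro u v hu hv
      have h := IsPGroup.commutative_of_card_eq_prime_sq hcZ₂ ⟨u, hu⟩ ⟨v, hv⟩
      exact congrArg Subtype.val h
    obtain ⟨C₃, hC₃def⟩ : ∃ C₃ : Subgroup G, C₃ = Subgroup.centralizer (Z₂ : Set G) := ⟨_, rfl⟩
    have hC₃ : ∀ g : G, g ∈ C₃ ↔ ∀ h ∈ Z₂, h * g = g * h := by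
      intro g; rw [hC₃def]; exact Subgroup.mem_centralizer_iff
    have hC₃char : ∀ α : MulAut G, ∀ y ∈ C₃, α y ∈ C₃ := by
      intro α y hy
      rw [hC₃] at hy ⊢
      intro h hh
      have h1 := hy (α⁻¹ h) (hZ₂char α⁻¹ h hh)
      have h2 := congrArg α h1
      rw [map_mul, map_mul, MulAut.apply_inv_self] at h2
      exact h2
    have hZ₂C₃ : Z₂ ≤ C₃ := by
      intro u hu
      rw [hC₃]
      intro h hh
      exact hZ₂comm h u hh hu
    obtain ⟨y, hyZ₂, hyZ⟩ := hexZ Z₂ (by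
      rw [hcZ₂]
      calc p = p ^ 1 := (pow_one p).symm
        _ < p ^ 2 := Nat.pow_lt_pow_right h1p (by norm_num))
    obtain ⟨L, hL, hLcard⟩ := cent_card8 p (Subgroup.center G) le_rfl hZ ⊤ y (fun g _ => by
      have h1 := (hZ₂ y).mp hyZ₂ g
      have e : g * y * g⁻¹ * y⁻¹ = (y * g * y⁻¹ * g⁻¹)⁻¹ := by group
      rw [e]; exact Subgroup.inv_mem _ h1)
    rw [Subgroup.card_top, hcard] at hLcard
    have hLC₃ : L ≤ C₃ := by
      intro g hg
      have hgy : g * y = y * g := ((hL g).mp hg).2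
      have hM1 : Subgroup.center G ≤ Z₂ ⊓ Subgroup.centralizer {g} := by
        intro z hz
        refine ⟨hZZ₂ hz, Subgroup.mem_centralizer_iff.mpr ?_⟩
        intro h hh
        rw [Set.mem_singleton_iff] at hh
        rw [hh]
        exact Subgroup.mem_center_iff.mp hz g
      have hyM : y ∈ Z₂ ⊓ Subgroup.centralizer {g} := by
        refine ⟨hyZ₂, Subgroup.mem_centralizer_iff.mpr ?_⟩
        intro h hh
        rw [Set.mem_singleton_iff] at hh
        rw [hh]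
        exact hgy
      have hlt := sub_lt_card8 hM1 y hyM hyZ
      rw [hZ] at hlt
      obtain ⟨m, hm4, hcm⟩ := sub_card8 hpp hcard (Z₂ ⊓ Subgroup.centralizer {g})
      have hle : Nat.card ↥(Z₂ ⊓ Subgroup.centralizer {g}) ≤ Nat.card Z₂ :=
        Subgroup.card_le_of_le inf_le_left
      have hm2 : m = 2 := by
        rw [hcm] at hlt hle
        rw [hcZ₂] at hle
        have h1 : p ^ 1 < p ^ m := by rw [pow_one]; exact hlt
        have h2 := (Nat.pow_lt_pow_iff_right h1p).mp h1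
        have h3 := (Nat.pow_le_pow_iff_right h1p).mp hle
        omega
      have hMeq : Z₂ ⊓ Subgroup.centralizer {g} = Z₂ :=
        Subgroup.eq_of_le_of_card_ge inf_le_left (by rw [hcm, hm2, hcZ₂])
      rw [hC₃]
      intro h hh
      have h1 : h ∈ Z₂ ⊓ Subgroup.centralizer {g} := by rw [hMeq]; exact hh
      have h2 := Subgroup.mem_centralizer_iff.mp h1.2 g (Set.mem_singleton g)
      exact h2.symm
    obtain ⟨g₀, hg₀⟩ := hnc y hyZ
    have hg₀C : g₀ ∉ C₃ := by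
      intro h
      exact hg₀ (((hC₃ g₀).mp h y hyZ₂).symm)
    have hcC₃ : Nat.card C₃ = p ^ 3 := by
      obtain ⟨m, hm4, hcm⟩ := sub_card8 hpp hcard C₃
      have h1 : Nat.card C₃ < Nat.card (⊤ : Subgroup G) :=
        sub_lt_card8 le_top g₀ (Subgroup.mem_top _) hg₀C
      rw [Subgroup.card_top, hcard, hcm] at h1
      have h2 := (Nat.pow_lt_pow_iff_right h1p).mp h1
      have h3 : p ^ 4 ≤ p ^ (m + 1) := by
        calc p ^ 4 ≤ p * Nat.card C₃ :=
              hLcard.trans (Nat.mul_le_mul_left p (Subgroup.card_le_of_le hLC₃))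
          _ = p ^ (m + 1) := by rw [hcm]; ring
      have h4 := (Nat.pow_le_pow_iff_right h1p).mp h3
      have h5 : m = 3 := by omega
      rw [hcm, h5]
    exact ⟨Subgroup.center G, Z₂, C₃, hZZ₂, hZ₂C₃, hZ, hcZ₂, hcC₃, center_char8, hZ₂char,
      hC₃char⟩

end Cfsg.Agent.Lib.Helper8
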