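import Mathlib
import Cfsg.Agent.Lib.Helper8.P4a
import Cfsg.Agent.Lib.Helper8.Ab2a

set_option autoImplicit false

namespace Cfsg.Agent.Lib.Helper8

theorem dvd_of_pow_mem8 {G : Type*} [Group G] (p : ℕ) [hp : Fact p.Prime] (K : Subgroup G)
    (y : G) (hy : y ^ p = 1) (hyK : y ∉ K) (b : ℕ) (h : y ^ b ∈ K) : p ∣ b := by
  by_contra hpb
  have hcop : IsCoprime (p : ℤ) (b : ℤ) :=
    (Prime.coprime_iff_not_dvd (Nat.prime_iff_prime_int.mp hp.out)).mpr
      (fun h => hpb (Int.natCast_dvd_natCast.mp h))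
  obtain ⟨u, v, huv⟩ := hcop
  apply hyK
  have e2 : y = (y ^ b) ^ v := by
    have h' : y ^ (u * (p : ℤ) + v * (b : ℤ)) = y := by rw [huv, zpow_one]
    rw [zpow_add, zpow_mul', zpow_natCast, hy, one_zpow, one_mul, mul_comm v, zpow_mul,
      zpow_natCast] at h'
    exact h'.symm
  rw [e2]
  exact Subgroup.zpow_mem _ h v

theorem exists_not_mem_of_card_lt8 {G : Type*} [Group G] [Finite G] {K L : Subgroup G}
    (h : Nat.card L < Nat.card K) : ∃ x ∈ K, x ∉ L := by
  by_contra hcon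
  push_neg at hcon
  have h1 : Nat.card K ≤ Nat.card L := Subgroup.card_le_of_le hcon
  omega

theorem frattini_exp8 {Q : Type*} [Group Q] [Finite Q] (p : ℕ) [hp : Fact p.Prime]
    (hc : ∀ a b : Q, a * b = b * a) (hexp : ∀ x : Q, x ^ p = 1) : frattini Q = ⊥ := by
  letI : CommGroup Q := { ‹Group Q› with mul_comm := hc }
  have h := frattini_le_Mh8 (H := Q) p
  rw [eq_bot_iff]
  intro x hx
  have h1 := h hx
  rw [mem_Mh8] at h1
  obtain ⟨y, rfl⟩ := h1
  rw [pow_one, hexp]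
  exact Subgroup.one_mem _

/-- splitting off a central element of order `p` outside a subgroup containing all commutators
and `p`-th powers -/
theorem split_central8 {G : Type*} [Group G] [Finite G] (p : ℕ) [hp : Fact p.Prime]
    (N : Subgroup G) (hcommN : ∀ x y : G, x * y * x⁻¹ * y⁻¹ ∈ N) (hpowN : ∀ x : G, x ^ p ∈ N)
    (c : G) (hcZ : c ∈ Subgroup.center G) (hcp : c ^ p = 1) (hcN : c ∉ N) :
    ∃ E : Subgroup G, Nonempty (G ≃* E × Multiplicative (ZMod p)) := by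
  have hpp := hp.out
  haveI hNn : N.Normal := by
    refine ⟨fun n hn g => ?_⟩
    have e : g * n * g⁻¹ = (g * n * g⁻¹ * n⁻¹) * n := by group
    rw [e]
    exact N.mul_mem (hcommN g n) hn
  have hQc : ∀ a b : G ⧸ N, a * b = b * a := by
    intro a b
    obtain ⟨x, rfl⟩ := QuotientGroup.mk_surjective a
    obtain ⟨y, rfl⟩ := QuotientGroup.mk_surjective b
    have h1 := hcommN x y
    rw [← QuotientGroup.eq_one_iff] at h1
    have e : ((x * y * x⁻¹ * y⁻¹ : G) : G ⧸ N) = (QuotientGroup.mk x) * (QuotientGroup.mk y) *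
        (QuotientGroup.mk x)⁻¹ * (QuotientGroup.mk y)⁻¹ := rfl
    rw [e] at h1
    have e2 : (QuotientGroup.mk x : G ⧸ N) * QuotientGroup.mk y =
        ((QuotientGroup.mk x) * (QuotientGroup.mk y) * (QuotientGroup.mk x)⁻¹ *
          (QuotientGroup.mk y)⁻¹) * (QuotientGroup.mk y * QuotientGroup.mk x) := by group
    rw [e2, h1, one_mul]
  have hQe : ∀ a : G ⧸ N, a ^ p = 1 := by
    intro a
    obtain ⟨x, rfl⟩ := QuotientGroup.mk_surjective a
    rw [← QuotientGroup.mk_pow, QuotientGroup.eq_one_iff]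
    exact hpowN x
  have hfQ := frattini_exp8 p hQc hQe
  have hfG : frattini G ≤ N := by
    intro x hx
    have h1 := frattini_le_comap_frattini_of_surjective (QuotientGroup.mk'_surjective N) hx
    rw [Subgroup.mem_comap, hfQ, Subgroup.mem_bot, QuotientGroup.mk'_apply,
      QuotientGroup.eq_one_iff] at h1
    exact h1
  obtain ⟨E, hE, hcE⟩ : ∃ E : Subgroup G, IsCoatom E ∧ c ∉ E := by
    by_contra hcon
    push_neg at hcon
    apply hcN
    apply hfG
    unfold frattini Order.radical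
    simp only [Subgroup.mem_iInf]
    intro E hE
    exact hcon E hE
  haveI : NeZero p := ⟨hpp.ne_zero⟩
  have hcc : ∀ g : G, g * c = c * g := Subgroup.mem_center_iff.mp hcZ
  obtain ⟨f, hf⟩ : ∃ f : (E × Multiplicative (ZMod p)) →* G,
      ∀ x, f x = (x.1 : G) * c ^ (Multiplicative.toAdd x.2).val := by
    refine ⟨MonoidHom.mk' (fun x => (x.1 : G) * c ^ (Multiplicative.toAdd x.2).val) ?_,
      fun x => rfl⟩
    intro x y
    show ((x * y).1 : G) * c ^ (Multiplicative.toAdd (x * y).2).val =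
      ((x.1 : G) * c ^ (Multiplicative.toAdd x.2).val) *
        ((y.1 : G) * c ^ (Multiplicative.toAdd y.2).val)
    rw [Prod.fst_mul, Prod.snd_mul, toAdd_mul, ZMod.val_add, ← pow_eq_pow_mod _ hcp, pow_add,
      Subgroup.coe_mul]
    have h1 : c ^ (Multiplicative.toAdd x.2).val * (y.1 : G) =
        (y.1 : G) * c ^ (Multiplicative.toAdd x.2).val :=
      ((Commute.pow_right (show Commute (y.1 : G) c from hcc _) _).eq).symm
    calc (x.1 : G) * (y.1 : G) * (c ^ (Multiplicative.toAdd x.2).val *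
          c ^ (Multiplicative.toAdd y.2).val)
        = (x.1 : G) * ((y.1 : G) * c ^ (Multiplicative.toAdd x.2).val) *
          c ^ (Multiplicative.toAdd y.2).val := by
          simp only [mul_assoc]
      _ = (x.1 : G) * (c ^ (Multiplicative.toAdd x.2).val * (y.1 : G)) *
          c ^ (Multiplicative.toAdd y.2).val := by rw [h1]
      _ = _ := by simp only [mul_assoc]
  have hinj : Function.Injective f := by
    rw [injective_iff_map_eq_one]
    intro x hx
    rw [hf] at hx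
    have h1 : c ^ (Multiplicative.toAdd x.2).val ∈ E := by
      have h0 : c ^ (Multiplicative.toAdd x.2).val = ((x.1 : G))⁻¹ :=
        eq_inv_of_mul_eq_one_right hx
      rw [h0]; exact E.inv_mem x.1.2
    have h2 := dvd_of_pow_mem8 p E c hcp hcE _ h1
    have h3 : (Multiplicative.toAdd x.2).val = 0 := Nat.eq_zero_of_dvd_of_lt h2 (ZMod.val_lt _)
    have h4 : Multiplicative.toAdd x.2 = 0 := (ZMod.val_eq_zero _).mp h3
    rw [h3, pow_zero, mul_one] at hx
    exact Prod.ext (Subtype.ext hx) (toAdd_eq_zero.mp h4)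
  have hsurj : Function.Surjective f := by
    have hEr : E ≤ f.range := by
      intro e he
      refine ⟨(⟨e, he⟩, 1), ?_⟩
      rw [hf]
      show e * c ^ (Multiplicative.toAdd (1 : Multiplicative (ZMod p))).val = e
      rw [toAdd_one, ZMod.val_zero, pow_zero, mul_one]
    have hcr : c ∈ f.range := by
      refine ⟨(1, Multiplicative.ofAdd 1), ?_⟩
      rw [hf]
      show ((1 : E) : G) * c ^ (1 : ZMod p).val = c
      rw [ZMod.val_one_eq_one_mod, ← pow_eq_pow_mod _ hcp, pow_one, Subgroup.coe_one, one_mul]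
    have hlt : E < f.range := lt_of_le_of_ne hEr (fun h => hcE (by rw [h]; exact hcr))
    have htop := hE.2 _ hlt
    intro g
    have h1 : g ∈ f.range := by rw [htop]; exact Subgroup.mem_top g
    exact MonoidHom.mem_range.mp h1
  exact ⟨E, ⟨(MulEquiv.ofBijective f ⟨hinj, hsurj⟩).symm⟩⟩

theorem p4_A_facts8 {G : Type*} [Group G] [Finite G] (p : ℕ) [hp : Fact p.Prime]
    (hcard : Nat.card G = p ^ 4) (hZ : Nat.card (Subgroup.center G) = p ^ 2)
    (hnab : ¬ ∀ a b : G, a * b = b * a) :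
    (∀ x y : G, x * y * x⁻¹ * y⁻¹ ∈ Subgroup.center G) ∧
      (∀ x : G, x ^ p ∈ Subgroup.center G) := by
  have hpp := hp.out
  have hQ : Nat.card (G ⧸ Subgroup.center G) = p ^ 2 := by
    have h := Subgroup.card_eq_card_quotient_mul_card_subgroup (Subgroup.center G)
    rw [hcard, hZ] at h
    have h2 : Nat.card (G ⧸ Subgroup.center G) * p ^ 2 = p ^ 2 * p ^ 2 := by rw [← h]; ring
    exact Nat.eq_of_mul_eq_mul_right (pow_pos hpp.pos 2) h2
  have hker : (QuotientGroup.mk' (Subgroup.center G)).ker ≤ Subgroup.center G := by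
    rw [QuotientGroup.ker_mk']
  have hncyc : ¬ IsCyclic (G ⧸ Subgroup.center G) := by
    intro h
    exact hnab (commutative_of_cyclic_center_quotient (QuotientGroup.mk' (Subgroup.center G)) hker)
  have hQcomm := IsPGroup.commutative_of_card_eq_prime_sq hQ
  refine ⟨?_, ?_⟩
  · intro x y
    rw [← QuotientGroup.eq_one_iff]
    have e : ((x * y * x⁻¹ * y⁻¹ : G) : G ⧸ Subgroup.center G) =
        (QuotientGroup.mk x) * (QuotientGroup.mk y) * (QuotientGroup.mk x)⁻¹ *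
          (QuotientGroup.mk y)⁻¹ := rfl
    rw [e, hQcomm (QuotientGroup.mk x) (QuotientGroup.mk y)]; group
  · intro x
    rw [← QuotientGroup.eq_one_iff, QuotientGroup.mk_pow]
    have hd : orderOf (QuotientGroup.mk x : G ⧸ Subgroup.center G) ∣ p ^ 2 := by
      rw [← hQ]; exact orderOf_dvd_natCard _
    obtain ⟨k, hk2, hk⟩ := (Nat.dvd_prime_pow hpp).mp hd
    have hk2' : k ≠ 2 := by
      rintro rfl
      exact hncyc (isCyclic_of_orderOf_eq_card _ (hk.trans hQ.symm))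
    have hk1 : k ≤ 1 := by omega
    have h3 : orderOf (QuotientGroup.mk x : G ⧸ Subgroup.center G) ∣ p := by
      rw [hk]
      calc p ^ k ∣ p ^ 1 := pow_dvd_pow p hk1
        _ = p := pow_one p
    exact orderOf_dvd_iff_pow_eq_one.mp h3

/-- centre of order `p²`: the commutators lie in a characteristic central subgroup of order `p` -/
theorem p4_A_comm8 {G : Type*} [Group G] [Finite G] (p : ℕ) [hp : Fact p.Prime]
    (hcard : Nat.card G = p ^ 4) (hZ : Nat.card (Subgroup.center G) = p ^ 2)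
    (hnab : ¬ ∀ a b : G, a * b = b * a) :
    ∃ N : Subgroup G, N ≤ Subgroup.center G ∧ Nat.card N = p ∧
      (∀ x y : G, x * y * x⁻¹ * y⁻¹ ∈ N) ∧ (∀ α : MulAut G, ∀ y ∈ N, α y ∈ N) := by
  have hpp := hp.out
  have h1p := hpp.one_lt
  obtain ⟨hcomm, hpow⟩ := p4_A_facts8 p hcard hZ hnab
  obtain ⟨b, -, hbZ⟩ : ∃ b ∈ (⊤ : Subgroup G), b ∉ Subgroup.center G := by
    apply exists_not_mem_of_card_lt8
    rw [Subgroup.card_top, hcard, hZ]
    exact Nat.pow_lt_pow_right h1p (by norm_num)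
  obtain ⟨g₀, hg₀⟩ : ∃ g : G, g * b ≠ b * g := by
    by_contra hcon
    push_neg at hcon
    exact hbZ (Subgroup.mem_center_iff.mpr hcon)
  obtain ⟨τ, hτ⟩ : ∃ τ : G →* G, ∀ g : G, τ g = g * b * g⁻¹ * b⁻¹ := by
    refine ⟨MonoidHom.mk' (fun g => g * b * g⁻¹ * b⁻¹) ?_, fun g => rfl⟩
    intro g h
    have hc := Subgroup.mem_center_iff.mp (hcomm h b)
    calc g * h * b * (g * h)⁻¹ * b⁻¹
        = g * (h * b * h⁻¹ * b⁻¹) * (b * g⁻¹ * b⁻¹) := by group
      _ = (h * b * h⁻¹ * b⁻¹) * g * (b * g⁻¹ * b⁻¹) := by rw [hc g]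
      _ = (h * b * h⁻¹ * b⁻¹) * (g * b * g⁻¹ * b⁻¹) := by group
      _ = (g * b * g⁻¹ * b⁻¹) * (h * b * h⁻¹ * b⁻¹) := (hc _).symm
  have hker : ∀ g : G, g ∈ τ.ker ↔ g * b = b * g := by
    intro g
    rw [MonoidHom.mem_ker, hτ]
    constructor
    · intro h
      have h2 : g * b = (g * b * g⁻¹ * b⁻¹) * (b * g) := by group
      rw [h2, h, one_mul]
    · intro h
      rw [h]; group
  have hNZ : τ.range ≤ Subgroup.center G := by
    rintro _ ⟨g, rfl⟩
    rw [hτ]; exact hcomm g b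
  have hZk : Subgroup.center G ≤ τ.ker := by
    intro z hz
    rw [hker]
    exact Subgroup.mem_center_iff.mp hz b |>.symm
  have hbk : b ∈ τ.ker := by rw [hker]
  have hg₀k : g₀ ∉ τ.ker := by rw [hker]; exact hg₀
  obtain ⟨m, hm4, hcm⟩ := sub_card8 hpp hcard τ.ker
  have hm3 : m = 3 := by
    have h1 : Nat.card τ.ker < Nat.card (⊤ : Subgroup G) :=
      sub_lt_card8 le_top g₀ (Subgroup.mem_top _) hg₀k
    rw [Subgroup.card_top, hcard, hcm] at h1
    have h2 := (Nat.pow_lt_pow_iff_right h1p).mp h1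
    have h3 := sub_lt_card8 hZk b hbk hbZ
    rw [hZ, hcm] at h3
    have h4 := (Nat.pow_lt_pow_iff_right h1p).mp h3
    omega
  rw [hm3] at hcm
  have hmulc : Nat.card τ.ker * Nat.card τ.range = p ^ 4 := by
    rw [← Subgroup.index_ker, Subgroup.card_mul_index, hcard]
  have hcN : Nat.card τ.range = p := by
    rw [hcm] at hmulc
    have h5 : p ^ 3 * Nat.card τ.range = p ^ 3 * p := by rw [hmulc]; ring
    exact Nat.eq_of_mul_eq_mul_left (pow_pos hpp.pos 3) h5
  haveI hNn : τ.range.Normal := by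
    refine ⟨fun n hn g => ?_⟩
    have h1 := Subgroup.mem_center_iff.mp (hNZ hn) g
    have e : g * n * g⁻¹ = n := by rw [h1]; group
    rw [e]; exact hn
  have hcQ : Nat.card (G ⧸ τ.range) = p ^ 3 := by
    have h := Subgroup.card_eq_card_quotient_mul_card_subgroup τ.range
    rw [hcard, hcN] at h
    have h2 : Nat.card (G ⧸ τ.range) * p = p ^ 3 * p := by rw [← h]; ring
    exact Nat.eq_of_mul_eq_mul_right hpp.pos h2
  have hQc : ∀ u v : G ⧸ τ.range, u * v = v * u := by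
    by_contra hQn
    obtain ⟨hZQ, -, -⟩ := p3_nonab_facts8 p hcQ hQn
    obtain ⟨Y, hYdef⟩ : ∃ Y : Subgroup G, Y =
        (Subgroup.center (G ⧸ τ.range)).comap (QuotientGroup.mk' τ.range) := ⟨_, rfl⟩
    have hY : ∀ x : G, x ∈ Y ↔ ∀ g : G, x * g * x⁻¹ * g⁻¹ ∈ τ.range := by
      intro x; rw [hYdef]; exact mem_comap_center8 _ x
    have hcY : Nat.card Y = p ^ 2 := by
      have h1 : Y.index = (Subgroup.center (G ⧸ τ.range)).index := by
        rw [hYdef]
        exact Subgroup.index_comap_of_surjective _ (QuotientGroup.mk'_surjective _)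
      have h2 := Subgroup.card_mul_index (Subgroup.center (G ⧸ τ.range))
      rw [hZQ, hcQ] at h2
      have h3 : (Subgroup.center (G ⧸ τ.range)).index = p ^ 2 := by
        have h4 : p * (Subgroup.center (G ⧸ τ.range)).index = p * p ^ 2 := by rw [h2]; ring
        exact Nat.eq_of_mul_eq_mul_left hpp.pos h4
      have h5 := Subgroup.card_mul_index Y
      rw [h1, h3, hcard] at h5
      have h6 : Nat.card Y * p ^ 2 = p ^ 2 * p ^ 2 := by rw [h5]; ring
      exact Nat.eq_of_mul_eq_mul_right (pow_pos hpp.pos 2) h6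
    have hZY : Subgroup.center G ≤ Y := by
      intro z hz
      rw [hY]
      intro g
      have h1 := Subgroup.mem_center_iff.mp hz g
      have e : z * g * z⁻¹ * g⁻¹ = 1 := by rw [← h1]; group
      rw [e]; exact Subgroup.one_mem _
    have hbY : b ∈ Y := by
      rw [hY]
      intro g
      have e : b * g * b⁻¹ * g⁻¹ = (g * b * g⁻¹ * b⁻¹)⁻¹ := by group
      rw [e]
      exact Subgroup.inv_mem _ ⟨g, hτ g⟩
    have h7 := sub_lt_card8 hZY b hbY hbZ
    rw [hZ, hcY] at h7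
    exact lt_irrefl _ h7
  have hcommN : ∀ x y : G, x * y * x⁻¹ * y⁻¹ ∈ τ.range := by
    intro x y
    rw [← QuotientGroup.eq_one_iff]
    have e : ((x * y * x⁻¹ * y⁻¹ : G) : G ⧸ τ.range) =
        (QuotientGroup.mk x) * (QuotientGroup.mk y) * (QuotientGroup.mk x)⁻¹ *
          (QuotientGroup.mk y)⁻¹ := rfl
    rw [e, hQc (QuotientGroup.mk x) (QuotientGroup.mk y)]; group
  refine ⟨τ.range, hNZ, hcN, hcommN, ?_⟩
  rintro α _ ⟨g, rfl⟩
  rw [hτ, map_mul, map_mul, map_mul, map_inv, map_inv]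
  exact hcommN (α g) (α b)

theorem class2_pow_mul8 {G : Type*} [Group G] (p : ℕ) (N : Subgroup G)
    (hNZ : N ≤ Subgroup.center G) (hNp : ∀ n ∈ N, n ^ p = 1)
    (hcommN : ∀ x y : G, x * y * x⁻¹ * y⁻¹ ∈ N) (n : ℕ) (hn : p ∣ n.choose 2) (x y : G) :
    (x * y) ^ n = x ^ n * y ^ n := by
  have hcN : y⁻¹ * x⁻¹ * y * x ∈ N := by
    have := hcommN y⁻¹ x⁻¹
    rwa [inv_inv, inv_inv] at this
  have hc : ∀ g : G, (y⁻¹ * x⁻¹ * y * x) * g = g * (y⁻¹ * x⁻¹ * y * x) :=
    fun g => (Subgroup.mem_center_iff.mp (hNZ hcN) g).symm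
  have hyx : y * x = x * y * (y⁻¹ * x⁻¹ * y * x) := by group
  rw [class2_mul_pow8 x y _ hc hyx n]
  obtain ⟨k, hk⟩ := hn
  rw [hk, pow_mul, hNp _ hcN, one_pow, mul_one]

theorem dvd_choose_sq8 (p : ℕ) : p ∣ (p ^ 2).choose 2 := by
  rw [Nat.choose_two_right]
  have h2 : 2 ∣ p * (p ^ 2 - 1) := by
    rcases Nat.even_or_odd p with he | ho
    · exact (even_iff_two_dvd.mp he).mul_right _
    · have h3 : Even (p ^ 2 - 1) := Nat.Odd.sub_odd ho.pow odd_one
      exact (even_iff_two_dvd.mp h3).mul_left _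
  obtain ⟨k, hk⟩ := h2
  refine ⟨k, ?_⟩
  have h4 : p ^ 2 * (p ^ 2 - 1) = 2 * (p * k) := by
    calc p ^ 2 * (p ^ 2 - 1) = p * (p * (p ^ 2 - 1)) := by ring
      _ = p * (2 * k) := by rw [hk]
      _ = 2 * (p * k) := by ring
  rw [h4, Nat.mul_div_cancel_left _ (by norm_num : 0 < 2)]

theorem p4_A_theta8 {G : Type*} [Group G] [Finite G] (p : ℕ) [hp : Fact p.Prime]
    (hcard : Nat.card G = p ^ 4) (hZ : Nat.card (Subgroup.center G) = p ^ 2)
    (hpow : ∀ x : G, x ^ p ∈ Subgroup.center G)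
    (hmul : ∀ x y : G, (x * y) ^ (p ^ 2) = x ^ (p ^ 2) * y ^ (p ^ 2))
    (hx : ∃ x : G, x ^ (p ^ 2) ≠ 1) : HasCharChain4_8 p G := by
  have hpp := hp.out
  have h1p := hpp.one_lt
  obtain ⟨θ, hθ⟩ : ∃ θ : G →* G, ∀ x, θ x = x ^ (p ^ 2) :=
    ⟨MonoidHom.mk' (fun x => x ^ (p ^ 2)) hmul, fun x => rfl⟩
  have hZexp : ∀ z ∈ Subgroup.center G, z ^ (p ^ 2) = 1 := by
    intro z hz
    have h1 : (⟨z, hz⟩ : Subgroup.center G) ^ Nat.card (Subgroup.center G) = 1 :=
      pow_card_eq_one'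
    rw [hZ] at h1
    exact congrArg Subtype.val h1
  have hx3 : ∀ x : G, x ^ (p ^ 3) = 1 := by
    intro x
    have h1 := hZexp _ (hpow x)
    rw [← pow_mul] at h1
    have e : p ^ 3 = p * p ^ 2 := by ring
    rw [e]; exact h1
  have hrZ : θ.range ≤ Subgroup.center G := by
    rintro _ ⟨x, rfl⟩
    rw [hθ, pow_two, pow_mul]
    exact Subgroup.pow_mem _ (hpow x) p
  have hZk : Subgroup.center G ≤ θ.ker := by
    intro z hz
    rw [MonoidHom.mem_ker, hθ]; exact hZexp z hz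
  have hKchar : ∀ α : MulAut G, ∀ y ∈ θ.ker, α y ∈ θ.ker := by
    intro α y hy
    rw [MonoidHom.mem_ker, hθ] at hy ⊢
    rw [← map_pow, hy, map_one]
  have hRchar : ∀ α : MulAut G, ∀ y ∈ θ.range, α y ∈ θ.range := by
    intro α y hy
    obtain ⟨x, rfl⟩ := hy
    exact ⟨α x, by rw [hθ, hθ, map_pow]⟩
  have hmulc : Nat.card θ.ker * Nat.card θ.range = p ^ 4 := by
    rw [← Subgroup.index_ker, Subgroup.card_mul_index, hcard]
  obtain ⟨x₀, hx₀⟩ := hx
  have hx₀k : x₀ ∉ θ.ker := by rw [MonoidHom.mem_ker, hθ]; exact hx₀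
  obtain ⟨m, hm4, hcm⟩ := sub_card8 hpp hcard θ.ker
  have hm_lt : m < 4 := by
    have h1 : Nat.card θ.ker < Nat.card (⊤ : Subgroup G) :=
      sub_lt_card8 le_top x₀ (Subgroup.mem_top _) hx₀k
    rw [Subgroup.card_top, hcard, hcm] at h1
    exact (Nat.pow_lt_pow_iff_right h1p).mp h1
  have hm_ge : 2 ≤ m := by
    have h1 := Subgroup.card_le_of_le hZk
    rw [hZ, hcm] at h1
    exact (Nat.pow_le_pow_iff_right h1p).mp h1
  have hm3 : m = 3 := by
    by_contra hne
    have hm2 : m = 2 := by omega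
    rw [hm2] at hcm
    have hr : Nat.card θ.range = p ^ 2 := by
      rw [hcm] at hmulc
      have h5 : p ^ 2 * Nat.card θ.range = p ^ 2 * p ^ 2 := by rw [hmulc]; ring
      exact Nat.eq_of_mul_eq_mul_left (pow_pos hpp.pos 2) h5
    have hrZeq : θ.range = Subgroup.center G :=
      Subgroup.eq_of_le_of_card_ge hrZ (by rw [hr, hZ])
    apply hx₀
    have h1 : x₀ ^ p ∈ θ.range := by rw [hrZeq]; exact hpow x₀
    obtain ⟨w, hw⟩ := h1
    rw [hθ] at hw
    rw [pow_two, pow_mul, ← hw, ← pow_mul, ← pow_succ]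
    exact hx3 w
  rw [hm3] at hcm
  have hr : Nat.card θ.range = p := by
    rw [hcm] at hmulc
    have h5 : p ^ 3 * Nat.card θ.range = p ^ 3 * p := by rw [hmulc]; ring
    exact Nat.eq_of_mul_eq_mul_left (pow_pos hpp.pos 3) h5
  exact ⟨θ.range, Subgroup.center G, θ.ker, hrZ, hZk, hr, hZ, hcm, hRchar, center_char8, hKchar⟩

theorem p4_A_pi8 {G : Type*} [Group G] [Finite G] (p : ℕ) [hp : Fact p.Prime]
    (hcard : Nat.card G = p ^ 4) (hZ : Nat.card (Subgroup.center G) = p ^ 2)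
    (hpow : ∀ x : G, x ^ p ∈ Subgroup.center G)
    (hZel : ∀ z ∈ Subgroup.center G, z ^ p = 1) (N : Subgroup G)
    (hNZ : N ≤ Subgroup.center G) (hN : Nat.card N = p)
    (hNchar : ∀ α : MulAut G, ∀ y ∈ N, α y ∈ N)
    (hmul : ∀ x y : G, (x * y) ^ p = x ^ p * y ^ p)
    (hx : ∃ x : G, x ^ p ≠ 1) : HasCharChain4_8 p G := by
  have hpp := hp.out
  have h1p := hpp.one_lt
  obtain ⟨π, hπ⟩ : ∃ π : G →* G, ∀ x, π x = x ^ p :=
    ⟨MonoidHom.mk' (fun x => x ^ p) hmul, fun x => rfl⟩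
  have hrZ : π.range ≤ Subgroup.center G := by
    rintro _ ⟨x, rfl⟩
    rw [hπ]; exact hpow x
  have hZk : Subgroup.center G ≤ π.ker := by
    intro z hz
    rw [MonoidHom.mem_ker, hπ]; exact hZel z hz
  have hKchar : ∀ α : MulAut G, ∀ y ∈ π.ker, α y ∈ π.ker := by
    intro α y hy
    rw [MonoidHom.mem_ker, hπ] at hy ⊢
    rw [← map_pow, hy, map_one]
  have hmulc : Nat.card π.ker * Nat.card π.range = p ^ 4 := by
    rw [← Subgroup.index_ker, Subgroup.card_mul_index, hcard]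
  obtain ⟨x₀, hx₀⟩ := hx
  have hx₀k : x₀ ∉ π.ker := by rw [MonoidHom.mem_ker, hπ]; exact hx₀
  obtain ⟨m, hm4, hcm⟩ := sub_card8 hpp hcard π.ker
  have hm_lt : m < 4 := by
    have h1 : Nat.card π.ker < Nat.card (⊤ : Subgroup G) :=
      sub_lt_card8 le_top x₀ (Subgroup.mem_top _) hx₀k
    rw [Subgroup.card_top, hcard, hcm] at h1
    exact (Nat.pow_lt_pow_iff_right h1p).mp h1
  have hm_ge : 2 ≤ m := by
    have h1 := Subgroup.card_le_of_le hZk
    rw [hZ, hcm] at h1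
    exact (Nat.pow_le_pow_iff_right h1p).mp h1
  have hm23 : m = 3 ∨ m = 2 := by omega
  rcases hm23 with hm3 | hm2
  · rw [hm3] at hcm
    exact ⟨N, Subgroup.center G, π.ker, hNZ, hZk, hN, hZ, hcm, hNchar, center_char8, hKchar⟩
  · rw [hm2] at hcm
    have hr : Nat.card π.range = p ^ 2 := by
      rw [hcm] at hmulc
      have h5 : p ^ 2 * Nat.card π.range = p ^ 2 * p ^ 2 := by rw [hmulc]; ring
      exact Nat.eq_of_mul_eq_mul_left (pow_pos hpp.pos 2) h5
    have hrZeq : π.range = Subgroup.center G :=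
      Subgroup.eq_of_le_of_card_ge hrZ (by rw [hr, hZ])
    obtain ⟨C₃, hC₃def⟩ : ∃ C₃ : Subgroup G, C₃ = N.comap π := ⟨_, rfl⟩
    have hC₃ : ∀ x : G, x ∈ C₃ ↔ x ^ p ∈ N := by
      intro x; rw [hC₃def, Subgroup.mem_comap, hπ]
    have hZC₃ : Subgroup.center G ≤ C₃ := by
      intro z hz
      rw [hC₃, hZel z hz]; exact N.one_mem
    have hC₃char : ∀ α : MulAut G, ∀ y ∈ C₃, α y ∈ C₃ := by
      intro α y hy
      rw [hC₃] at hy ⊢
      rw [← map_pow]; exact hNchar α _ hy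
    obtain ⟨n₀, hn₀N, hn₀1⟩ : ∃ n₀ ∈ N, n₀ ≠ 1 := by
      by_contra hcon
      push_neg at hcon
      have h1 : N = ⊥ := (Subgroup.eq_bot_iff_forall N).mpr hcon
      rw [h1, Subgroup.card_bot] at hN
      omega
    obtain ⟨x₁, hx₁⟩ : n₀ ∈ π.range := by rw [hrZeq]; exact hNZ hn₀N
    rw [hπ] at hx₁
    have hx₁C : x₁ ∈ C₃ := by rw [hC₃, hx₁]; exact hn₀N
    have hx₁Z : x₁ ∉ Subgroup.center G := by
      intro h
      exact hn₀1 (by rw [← hx₁]; exact hZel x₁ h)
    obtain ⟨c₀, hc₀Z, hc₀N⟩ : ∃ c ∈ Subgroup.center G, c ∉ N := by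
      apply exists_not_mem_of_card_lt8
      rw [hN, hZ]
      calc p = p ^ 1 := (pow_one p).symm
        _ < p ^ 2 := Nat.pow_lt_pow_right h1p (by norm_num)
    obtain ⟨w, hw⟩ : c₀ ∈ π.range := by rw [hrZeq]; exact hc₀Z
    rw [hπ] at hw
    have hwC : w ∉ C₃ := by rw [hC₃, hw]; exact hc₀N
    have hcC₃ : Nat.card C₃ = p ^ 3 := by
      obtain ⟨k, hk4, hck⟩ := sub_card8 hpp hcard C₃
      have h1 : Nat.card C₃ < Nat.card (⊤ : Subgroup G) :=
        sub_lt_card8 le_top w (Subgroup.mem_top _) hwC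
      rw [Subgroup.card_top, hcard, hck] at h1
      have h2 := (Nat.pow_lt_pow_iff_right h1p).mp h1
      have h3 := sub_lt_card8 hZC₃ x₁ hx₁C hx₁Z
      rw [hZ, hck] at h3
      have h4 := (Nat.pow_lt_pow_iff_right h1p).mp h3
      have h5 : k = 3 := by omega
      rw [hck, h5]
    exact ⟨N, Subgroup.center G, C₃, hNZ, hZC₃, hN, hZ, hcC₃, hNchar, center_char8, hC₃char⟩

end Cfsg.Agent.Lib.Helper8
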