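import Mathlib
import Cfsg.Agent.Lib.Helper8.P4b

set_option autoImplicit false

namespace Cfsg.Agent.Lib.Helper8

theorem q8_of_noinv8 {P : Type*} [Group P] [Finite P] (hcard : Nat.card P = 2 ^ 3)
    (hnab : ¬ ∀ a b : P, a * b = b * a)
    (hni : ∀ g : P, g ^ 2 = 1 → g ∈ Subgroup.center P) :
    Nonempty (P ≃* QuaternionGroup 2) := by
  obtain ⟨hZ, hcomm, hpow⟩ := p3_nonab_facts8 2 hcard hnab
  obtain ⟨x, hx2⟩ : ∃ x : P, x ^ 2 ≠ 1 := by
    by_contra h
    push_neg at h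
    apply hnab
    intro a b
    have ha : a⁻¹ = a := inv_eq_of_mul_eq_one_left (by rw [← sq]; exact h a)
    have hb : b⁻¹ = b := inv_eq_of_mul_eq_one_left (by rw [← sq]; exact h b)
    have hab : (a * b)⁻¹ = a * b := inv_eq_of_mul_eq_one_left (by rw [← sq]; exact h (a * b))
    calc a * b = (a * b)⁻¹ := hab.symm
      _ = b⁻¹ * a⁻¹ := mul_inv_rev a b
      _ = b * a := by rw [ha, hb]
  have hx2Z : x ^ 2 ∈ Subgroup.center P := hpow x
  have hZel : ∀ z ∈ Subgroup.center P, z = 1 ∨ z = x ^ 2 := by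
    intro z hz
    by_cases hz1 : z = 1
    · exact Or.inl hz1
    · right
      have hu := (Nat.card_eq_two_iff' (1 : Subgroup.center P)).mp hZ
      have h1 : (⟨z, hz⟩ : Subgroup.center P) ≠ 1 := fun h => hz1 (congrArg Subtype.val h)
      have h2 : (⟨x ^ 2, hx2Z⟩ : Subgroup.center P) ≠ 1 := fun h => hx2 (congrArg Subtype.val h)
      exact congrArg Subtype.val (hu.unique h1 h2)
  have hx4 : x ^ 4 = 1 := by
    have h1 : (⟨x ^ 2, hx2Z⟩ : Subgroup.center P) ^ Nat.card (Subgroup.center P) = 1 :=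
      pow_card_eq_one'
    rw [hZ] at h1
    have h2 : (x ^ 2) ^ 2 = 1 := congrArg Subtype.val h1
    rw [← pow_mul] at h2
    exact h2
  have hord : orderOf x = 4 :=
    orderOf_eq_prime_pow (p := 2) (n := 1) (x := x) (by rw [pow_one]; exact hx2) hx4
  have hXc : Nat.card (Subgroup.zpowers x) = 4 := by rw [Nat.card_zpowers, hord]
  have h8 : (2 : ℕ) ^ 3 = 8 := by norm_num
  have hXi : (Subgroup.zpowers x).index = 2 := by
    have h := Subgroup.card_mul_index (Subgroup.zpowers x)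
    rw [hXc, hcard, h8] at h
    omega
  have hcoset : ∀ y g : P, y ∉ Subgroup.zpowers x → g ∉ Subgroup.zpowers x →
      ∃ k : ℕ, g = y * x ^ k := by
    intro y g hy hg
    have h1 : y⁻¹ * g ∈ Subgroup.zpowers x := by
      rw [Subgroup.mul_mem_iff_of_index_two hXi, Subgroup.inv_mem_iff]
      exact ⟨fun h => absurd h hy, fun h => absurd h hg⟩
    obtain ⟨k, hk⟩ := (Submonoid.mem_powers_iff _ _).mp (mem_powers_iff_mem_zpowers.mpr h1)
    exact ⟨k, by rw [hk]; group⟩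
  have hconj : ∀ y : P, y ∉ Subgroup.zpowers x → y * x * y⁻¹ = x⁻¹ := by
    intro y hy
    have hc : y * x * y⁻¹ * x⁻¹ ∈ Subgroup.center P := by
      have h1 := hcomm y⁻¹ x⁻¹
      rwa [inv_inv, inv_inv] at h1
    rcases hZel _ hc with h | h
    · exfalso
      have hyx : y * x = x * y := by
        have h3 : y * x = (y * x * y⁻¹ * x⁻¹) * x * y := by group
        rw [h3, h, one_mul]
      have hxZ : x ∈ Subgroup.center P := by
        rw [Subgroup.mem_center_iff]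
        intro g
        by_cases hg : g ∈ Subgroup.zpowers x
        · obtain ⟨k, hk⟩ := (Submonoid.mem_powers_iff _ _).mp (mem_powers_iff_mem_zpowers.mpr hg)
          rw [← hk]
          exact (Commute.pow_self x k).eq
        · obtain ⟨k, hk⟩ := hcoset y g hy hg
          rw [hk]
          calc y * x ^ k * x = y * (x ^ k * x) := mul_assoc _ _ _
            _ = y * (x * x ^ k) := by rw [(Commute.pow_self x k).eq]
            _ = (y * x) * x ^ k := (mul_assoc _ _ _).symm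
            _ = x * y * x ^ k := by rw [hyx]
            _ = x * (y * x ^ k) := mul_assoc _ _ _
      rcases hZel x hxZ with h' | h'
      · apply hx2; rw [h', one_pow]
      · apply hx2
        have h4 : x = 1 := by
          have h3 : x * 1 = x * x := by rw [mul_one, ← sq]; exact h'
          exact (mul_left_cancel h3).symm
        rw [h4, one_pow]
    · have h3 : y * x * y⁻¹ = (y * x * y⁻¹ * x⁻¹) * x := by group
      rw [h3, h]
      apply eq_inv_of_mul_eq_one_left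
      rw [← pow_succ, ← pow_succ]; exact hx4
  have hconjk : ∀ (y : P) (k : ℕ), y ∉ Subgroup.zpowers x →
      y * x ^ k * y⁻¹ = (x ^ k)⁻¹ := by
    intro y k hy
    rw [← conj_pow, hconj y hy, inv_pow]
  obtain ⟨y, hy⟩ : ∃ y : P, y ∉ Subgroup.zpowers x := by
    by_contra h
    push_neg at h
    have htop : Subgroup.zpowers x = ⊤ := (Subgroup.eq_top_iff' _).mpr h
    rw [htop, Subgroup.card_top, hcard, h8] at hXc
    omega
  have hinv : ∀ y' : P, y' ∉ Subgroup.zpowers x → y' ^ 2 ≠ 1 := by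
    intro y' hy' hy2
    rcases hZel y' (hni y' hy2) with h | h
    · apply hy'; rw [h]; exact Subgroup.one_mem _
    · apply hy'; rw [h]; exact Subgroup.pow_mem _ (Subgroup.mem_zpowers x) 2
  have hy2 : y * y = x ^ 2 := by
    rcases hZel (y ^ 2) (hpow y) with h | h
    · exact absurd h (hinv y hy)
    · rw [← sq]; exact h
  have hhom := quat_hom8 x y hx4 hy2 (hconj y hy)
  obtain ⟨f, hf⟩ : ∃ f : QuaternionGroup 2 →* P, ∀ q, f q = quatMap8 x y q :=
    ⟨MonoidHom.mk' (quatMap8 x y) hhom, fun q => rfl⟩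
  have hinj : Function.Injective f := by
    rw [injective_iff_map_eq_one]
    intro q hq
    rw [hf] at hq
    cases q with
    | a i =>
      have h1 : x ^ i.val = 1 := hq
      have h2 : orderOf x ∣ i.val := orderOf_dvd_of_pow_eq_one h1
      rw [hord] at h2
      have h3 : i.val < 4 := ZMod.val_lt i
      have h4 : i.val = 0 := by omega
      have h5 : i = 0 := (ZMod.val_eq_zero i).mp h4
      rw [h5, QuaternionGroup.a_zero]
    | xa i =>
      exfalso
      have h1 : y * x ^ i.val = 1 := hq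
      apply hy
      have h2 : y = (x ^ i.val)⁻¹ := eq_inv_of_mul_eq_one_left h1
      rw [h2]
      exact Subgroup.inv_mem _ (Subgroup.pow_mem _ (Subgroup.mem_zpowers x) _)
  have hq8 : Nat.card (QuaternionGroup 2) = 4 * 2 := by
    rw [Nat.card_eq_fintype_card, QuaternionGroup.card]
  have hbij : Function.Bijective f := by
    rw [Nat.bijective_iff_injective_and_card]
    exact ⟨hinj, hq8.trans (hcard.trans (by norm_num)).symm⟩
  exact ⟨(MulEquiv.ofBijective f hbij).symm⟩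

theorem idx2_8 {G : Type*} [Group G] [Finite G] {A B : Subgroup G} (hAB : A ≤ B)
    (hcard : Nat.card B = 2 * Nat.card A) (u v : G) (hu : u ∈ B) (hv : v ∈ B) (huA : u ∉ A)
    (hvA : v ∉ A) : u * v ∈ A := by
  have h1 : Nat.card (A.subgroupOf B) = Nat.card A :=
    Nat.card_congr (Subgroup.subgroupOfEquivOfLe hAB).toEquiv
  have h2 := Subgroup.card_mul_index (A.subgroupOf B)
  rw [h1, hcard] at h2
  have hpos : 0 < Nat.card A := Nat.card_pos
  have h3 : (A.subgroupOf B).index = 2 := by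
    have h5 : Nat.card A * (A.subgroupOf B).index = Nat.card A * 2 := by rw [h2, mul_comm]
    exact Nat.eq_of_mul_eq_mul_left hpos h5
  have h4 := Subgroup.mul_mem_iff_of_index_two h3 (a := (⟨u, hu⟩ : B)) (b := ⟨v, hv⟩)
  rw [Subgroup.mem_subgroupOf, Subgroup.mem_subgroupOf, Subgroup.mem_subgroupOf] at h4
  exact h4.mpr ⟨fun h => absurd h huA, fun h => absurd h hvA⟩

theorem sq_mul8 {G : Type*} [Group G] (N : Subgroup G) (hNZ : N ≤ Subgroup.center G)
    (hcommN : ∀ x y : G, x * y * x⁻¹ * y⁻¹ ∈ N) (x y : G) :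
    (x * y) ^ 2 = x ^ 2 * y ^ 2 * (y⁻¹ * x⁻¹ * y * x) ∧ y⁻¹ * x⁻¹ * y * x ∈ N := by
  have hcN : y⁻¹ * x⁻¹ * y * x ∈ N := by
    have := hcommN y⁻¹ x⁻¹
    rwa [inv_inv, inv_inv] at this
  have hc : ∀ g : G, (y⁻¹ * x⁻¹ * y * x) * g = g * (y⁻¹ * x⁻¹ * y * x) :=
    fun g => (Subgroup.mem_center_iff.mp (hNZ hcN) g).symm
  have hyx : y * x = x * y * (y⁻¹ * x⁻¹ * y * x) := by group
  have h := class2_mul_pow8 x y _ hc hyx 2
  rw [Nat.choose_self, pow_one] at h
  exact ⟨h, hcN⟩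

theorem p4_two_sq8 {G : Type*} [Group G] [Finite G]
    (hcard : Nat.card G = 2 ^ 4) (hZ : Nat.card (Subgroup.center G) = 2 ^ 2)
    (hpow : ∀ x : G, x ^ 2 ∈ Subgroup.center G)
    (hZel : ∀ z ∈ Subgroup.center G, z ^ 2 = 1) (N : Subgroup G)
    (hNZ : N ≤ Subgroup.center G) (hN : Nat.card N = 2)
    (hcommN : ∀ x y : G, x * y * x⁻¹ * y⁻¹ ∈ N)
    (hNchar : ∀ α : MulAut G, ∀ y ∈ N, α y ∈ N)
    (hsq : ¬ ∀ x : G, x ^ 2 ∈ N) : HasCharChain4_8 2 G := by
  obtain ⟨C₃, hC₃⟩ : ∃ C₃ : Subgroup G, ∀ x : G, x ∈ C₃ ↔ x ^ 2 ∈ N := by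
    refine ⟨{ carrier := {x | x ^ 2 ∈ N}
              mul_mem' := ?_
              one_mem' := ?_
              inv_mem' := ?_ }, fun x => Iff.rfl⟩
    · intro x y hx hy
      show (x * y) ^ 2 ∈ N
      rw [(sq_mul8 N hNZ hcommN x y).1]
      exact N.mul_mem (N.mul_mem hx hy) (sq_mul8 N hNZ hcommN x y).2
    · show (1 : G) ^ 2 ∈ N
      rw [one_pow]; exact N.one_mem
    · intro x hx
      show (x⁻¹) ^ 2 ∈ N
      rw [inv_pow]; exact N.inv_mem hx
  have hZC₃ : Subgroup.center G ≤ C₃ := by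
    intro z hz; rw [hC₃, hZel z hz]; exact N.one_mem
  have hC₃char : ∀ α : MulAut G, ∀ y ∈ C₃, α y ∈ C₃ := by
    intro α y hy
    rw [hC₃] at hy ⊢
    rw [← map_pow]; exact hNchar α _ hy
  push_neg at hsq
  obtain ⟨x₀, hx₀⟩ := hsq
  have hx₀C : x₀ ∉ C₃ := by rw [hC₃]; exact hx₀
  obtain ⟨x₁, hx₁C, hx₁Z⟩ : ∃ x ∈ C₃, x ∉ Subgroup.center G := by
    obtain ⟨a, -, haZ⟩ : ∃ a ∈ (⊤ : Subgroup G), a ∉ Subgroup.center G := by
      apply exists_not_mem_of_card_lt8
      rw [Subgroup.card_top, hcard, hZ]; norm_num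
    by_cases ha : a ^ 2 ∈ N
    · exact ⟨a, (hC₃ a).mpr ha, haZ⟩
    obtain ⟨b, hb⟩ : ∃ b : G, b * a ≠ a * b := by
      by_contra hcon
      push_neg at hcon
      exact haZ (Subgroup.mem_center_iff.mpr hcon)
    have hbZ : b ∉ Subgroup.center G := fun h => hb (Subgroup.mem_center_iff.mp h a).symm
    by_cases hb2 : b ^ 2 ∈ N
    · exact ⟨b, (hC₃ b).mpr hb2, hbZ⟩
    refine ⟨a * b, ?_, ?_⟩
    · rw [hC₃, (sq_mul8 N hNZ hcommN a b).1]
      refine N.mul_mem ?_ (sq_mul8 N hNZ hcommN a b).2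
      exact idx2_8 hNZ (by rw [hZ, hN]; norm_num) _ _ (hpow a) (hpow b) ha hb2
    · intro h
      apply hb
      have h1 := Subgroup.mem_center_iff.mp h a
      have h2 : a * (b * a) = a * (a * b) := by rw [h1, mul_assoc]
      exact mul_left_cancel h2
  have hcC₃ : Nat.card C₃ = 2 ^ 3 := by
    obtain ⟨k, hk4, hck⟩ := sub_card8 Nat.prime_two hcard C₃
    have h1 : Nat.card C₃ < Nat.card (⊤ : Subgroup G) :=
      sub_lt_card8 le_top x₀ (Subgroup.mem_top _) hx₀C
    rw [Subgroup.card_top, hcard, hck] at h1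
    have h2 := (Nat.pow_lt_pow_iff_right (by norm_num : 1 < 2)).mp h1
    have h3 := sub_lt_card8 hZC₃ x₁ hx₁C hx₁Z
    rw [hZ, hck] at h3
    have h4 := (Nat.pow_lt_pow_iff_right (by norm_num : 1 < 2)).mp h3
    have h5 : k = 3 := by omega
    rw [hck, h5]
  exact ⟨N, Subgroup.center G, C₃, hNZ, hZC₃, hN, hZ, hcC₃, hNchar, center_char8, hC₃char⟩

theorem p4_two_d8 {G : Type*} [Group G] [Finite G]
    (hcard : Nat.card G = 2 ^ 4) (hZ : Nat.card (Subgroup.center G) = 2 ^ 2)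
    (hnab : ¬ ∀ a b : G, a * b = b * a)
    (hZel : ∀ z ∈ Subgroup.center G, z ^ 2 = 1) (N : Subgroup G)
    (hNZ : N ≤ Subgroup.center G) (hN : Nat.card N = 2)
    (hcommN : ∀ x y : G, x * y * x⁻¹ * y⁻¹ ∈ N)
    (hNchar : ∀ α : MulAut G, ∀ y ∈ N, α y ∈ N)
    (hsq : ∀ x : G, x ^ 2 ∈ N) (hinv : ∃ t : G, t ∉ Subgroup.center G ∧ t ^ 2 = 1) :
    HasCharChain4_8 2 G := by
  obtain ⟨t, htZ, ht2⟩ := hinv
  obtain ⟨u, hu2⟩ : ∃ u : G, u ^ 2 ≠ 1 := by
    by_contra h
    push_neg at h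
    apply hnab
    intro a b
    have ha : a⁻¹ = a := inv_eq_of_mul_eq_one_left (by rw [← sq]; exact h a)
    have hb : b⁻¹ = b := inv_eq_of_mul_eq_one_left (by rw [← sq]; exact h b)
    have hab : (a * b)⁻¹ = a * b := inv_eq_of_mul_eq_one_left (by rw [← sq]; exact h (a * b))
    calc a * b = (a * b)⁻¹ := hab.symm
      _ = b⁻¹ * a⁻¹ := mul_inv_rev a b
      _ = b * a := by rw [ha, hb]
  have hNel : ∀ n ∈ N, n = 1 ∨ n = u ^ 2 := by
    intro n hn
    by_cases hn1 : n = 1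
    · exact Or.inl hn1
    · right
      have hu := (Nat.card_eq_two_iff' (1 : N)).mp hN
      have h1 : (⟨n, hn⟩ : N) ≠ 1 := fun h => hn1 (congrArg Subtype.val h)
      have h2 : (⟨u ^ 2, hsq u⟩ : N) ≠ 1 := fun h => hu2 (congrArg Subtype.val h)
      exact congrArg Subtype.val (hu.unique h1 h2)
  have huZ : u ∉ Subgroup.center G := fun h => hu2 (hZel u h)
  have hz2 : (u ^ 2) ^ 2 = 1 := hZel _ (hNZ (hsq u))
  obtain ⟨C₃, hC₃def⟩ : ∃ C₃ : Subgroup G, C₃ = Subgroup.centralizer {u} := ⟨_, rfl⟩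
  have hC₃ : ∀ g : G, g ∈ C₃ ↔ u * g = g * u := by
    intro g
    rw [hC₃def, Subgroup.mem_centralizer_iff]
    constructor
    · intro h; exact h u (Set.mem_singleton u)
    · intro h x hx
      rw [Set.mem_singleton_iff] at hx
      rw [hx]; exact h
  have hZC₃ : Subgroup.center G ≤ C₃ := by
    intro z hz
    rw [hC₃]
    exact Subgroup.mem_center_iff.mp hz u
  have huC : u ∈ C₃ := by rw [hC₃]
  obtain ⟨g₀, hg₀⟩ : ∃ g : G, g * u ≠ u * g := by
    by_contra hcon
    push_neg at hcon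
    exact huZ (Subgroup.mem_center_iff.mpr hcon)
  have hg₀C : g₀ ∉ C₃ := by
    rw [hC₃]; exact fun h => hg₀ h.symm
  have hcC₃ : Nat.card C₃ = 2 ^ 3 := by
    obtain ⟨k, hk4, hck⟩ := sub_card8 Nat.prime_two hcard C₃
    have h1 : Nat.card C₃ < Nat.card (⊤ : Subgroup G) :=
      sub_lt_card8 le_top g₀ (Subgroup.mem_top _) hg₀C
    rw [Subgroup.card_top, hcard, hck] at h1
    have h2 := (Nat.pow_lt_pow_iff_right (by norm_num : 1 < 2)).mp h1
    have h3 := sub_lt_card8 hZC₃ u huC huZ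
    rw [hZ, hck] at h3
    have h4 := (Nat.pow_lt_pow_iff_right (by norm_num : 1 < 2)).mp h3
    have h5 : k = 3 := by omega
    rw [hck, h5]
  have hcos : ∀ x y : G, x ∈ C₃ → y ∈ C₃ → x ∉ Subgroup.center G →
      y ∉ Subgroup.center G → x⁻¹ * y ∈ Subgroup.center G := by
    intro x y hx hy hxZ hyZ
    exact idx2_8 hZC₃ (by rw [hcC₃, hZ]; norm_num) _ _ (C₃.inv_mem hx) hy
      (fun h => hxZ (by have h' := Subgroup.inv_mem _ h; rwa [inv_inv] at h')) hyZ
  have hcosG : ∀ x y : G, x ∉ C₃ → y ∉ C₃ → x * y ∈ C₃ := by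
    intro x y hx hy
    exact idx2_8 le_top (by rw [Subgroup.card_top, hcard, hcC₃]; norm_num) _ _
      (Subgroup.mem_top x) (Subgroup.mem_top y) hx hy
  have hsqC : ∀ w : G, w ∈ C₃ → w ∉ Subgroup.center G →
      ∃ z' ∈ Subgroup.center G, w = u * z' := by
    intro w hw hwZ
    exact ⟨u⁻¹ * w, hcos u w huC hw huZ hwZ, by group⟩
  have htC : t ∉ C₃ := by
    intro h
    obtain ⟨z', hz', hz'e⟩ := hsqC t h htZ
    have hcomm' : Commute u z' := Subgroup.mem_center_iff.mp hz' u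
    rw [hz'e, hcomm'.mul_pow, hZel z' hz', mul_one] at ht2
    exact hu2 ht2
  have hvC : ∀ v : G, v ^ 2 = u ^ 2 → v ∈ C₃ := by
    intro v hv
    by_contra hvn
    have hw : t * v ∈ C₃ := hcosG t v htC hvn
    have e0 : v = t * (t * v) := by rw [← mul_assoc, ← sq, ht2, one_mul]
    by_cases hwZ : t * v ∈ Subgroup.center G
    · have hcomm' : Commute t (t * v) := Subgroup.mem_center_iff.mp hwZ t
      have h1 : v ^ 2 = 1 := by
        rw [e0, hcomm'.mul_pow, ht2, hZel _ hwZ, one_mul]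
      exact hu2 (hv.symm.trans h1)
    · obtain ⟨z', hz', hwz⟩ := hsqC (t * v) hw hwZ
      have e : v = (t * u) * z' := by
        rw [e0, hwz, mul_assoc]
      have hcomm' : Commute (t * u) z' := Subgroup.mem_center_iff.mp hz' (t * u)
      obtain ⟨hsm, hcN⟩ := sq_mul8 N hNZ hcommN t u
      have hc1 : u⁻¹ * t⁻¹ * u * t ≠ 1 := by
        intro h
        apply htC
        rw [hC₃]
        have h' : u * t = t * u * (u⁻¹ * t⁻¹ * u * t) := by group
        rw [h', h, mul_one]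
      have hc2 : u⁻¹ * t⁻¹ * u * t = u ^ 2 := by
        rcases hNel _ hcN with h | h
        · exact absurd h hc1
        · exact h
      have h1 : v ^ 2 = 1 := by
        rw [e, hcomm'.mul_pow, hZel z' hz', mul_one, hsm, hc2, ht2, one_mul, ← pow_two, hz2]
      exact hu2 (hv.symm.trans h1)
  have hC₃char : ∀ α : MulAut G, ∀ y ∈ C₃, α y ∈ C₃ := by
    intro α y hy
    have hαz : α⁻¹ (u ^ 2) = u ^ 2 := by
      rcases hNel _ (hNchar α⁻¹ _ (hsq u)) with h | h
      · exfalso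
        apply hu2
        have h1 : α⁻¹ (u ^ 2) = α⁻¹ 1 := by rw [h, map_one]
        exact α⁻¹.injective h1
      · exact h
    have hv2 : (α⁻¹ u) ^ 2 = u ^ 2 := by rw [← map_pow, hαz]
    have hvC' := hvC _ hv2
    have hvZ : α⁻¹ u ∉ Subgroup.center G := fun h => hu2 (hv2.symm.trans (hZel _ h))
    obtain ⟨z', hz', hvz⟩ := hsqC _ hvC' hvZ
    have h1 : (α⁻¹ u) * y = y * (α⁻¹ u) := by
      rw [hvz]
      have hy' := (hC₃ y).mp hy
      have hzy := Subgroup.mem_center_iff.mp hz' y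
      calc u * z' * y = u * (z' * y) := mul_assoc _ _ _
        _ = u * (y * z') := by rw [← hzy]
        _ = (u * y) * z' := (mul_assoc _ _ _).symm
        _ = y * u * z' := by rw [hy']
        _ = y * (u * z') := mul_assoc _ _ _
    rw [hC₃]
    have h2 := congrArg α h1
    rw [map_mul, map_mul, MulAut.apply_inv_self] at h2
    exact h2
  exact ⟨N, Subgroup.center G, C₃, hNZ, hZC₃, hN, hZ, hcC₃, hNchar, center_char8, hC₃char⟩

theorem p4_two_q8 {G : Type*} [Group G] [Finite G]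
    (hcard : Nat.card G = 2 ^ 4)
    (hnab : ¬ ∀ a b : G, a * b = b * a)
    (hZel : ∀ z ∈ Subgroup.center G, z ^ 2 = 1) (N : Subgroup G)
    (hcommN : ∀ x y : G, x * y * x⁻¹ * y⁻¹ ∈ N)
    (hsq : ∀ x : G, x ^ 2 ∈ N) (hinv : ∀ t : G, t ^ 2 = 1 → t ∈ Subgroup.center G)
    (c₀ : G) (hc₀Z : c₀ ∈ Subgroup.center G) (hc₀N : c₀ ∉ N) :
    Nonempty (G ≃* QuaternionGroup 2 × Multiplicative (ZMod 2)) := by
  obtain ⟨E, ⟨e⟩⟩ := split_central8 2 N hcommN hsq c₀ hc₀Z (hZel c₀ hc₀Z) hc₀N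
  have hcE : Nat.card E = 2 ^ 3 := by
    have h1 : Nat.card G = Nat.card (E × Multiplicative (ZMod 2)) := Nat.card_congr e.toEquiv
    rw [Nat.card_prod, hcard] at h1
    have h2 : Nat.card (Multiplicative (ZMod 2)) = 2 := by
      show Nat.card (ZMod 2) = 2
      exact Nat.card_zmod 2
    rw [h2] at h1
    have h3 : Nat.card ↥E * 2 = 8 * 2 := by rw [← h1]; norm_num
    exact (Nat.eq_of_mul_eq_mul_right (by norm_num) h3).trans (by norm_num)
  have hnabE : ¬ ∀ a b : E, a * b = b * a := by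
    intro h
    apply hnab
    intro a b
    apply e.injective
    rw [map_mul, map_mul]
    exact Prod.ext (h (e a).1 (e b).1) (mul_comm (e a).2 (e b).2)
  have hni : ∀ g : E, g ^ 2 = 1 → g ∈ Subgroup.center E := by
    intro g hg
    have h1 : (g : G) ^ 2 = 1 := by
      have h' := congrArg Subtype.val hg
      rwa [Subgroup.coe_pow] at h'
    have h2 := hinv _ h1
    rw [Subgroup.mem_center_iff]
    intro k
    exact Subtype.ext (Subgroup.mem_center_iff.mp h2 (k : G))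
  obtain ⟨eq⟩ := q8_of_noinv8 hcE hnabE hni
  exact ⟨e.trans (MulEquiv.prodCongr eq (MulEquiv.refl _))⟩

/-- nonabelian of order `p⁴` with centre of order `p²` -/
theorem p4_center_p2_8 {G : Type*} [Group G] [Finite G] (p : ℕ) [hp : Fact p.Prime]
    (hcard : Nat.card G = p ^ 4) (hZ : Nat.card (Subgroup.center G) = p ^ 2)
    (hnab : ¬ ∀ a b : G, a * b = b * a) :
    HasCharChain4_8 p G ∨
    ((∀ x : G, x ^ (p ^ 2) = 1) ∧ IsCyclic (Subgroup.center G)) ∨
    (Odd p ∧ (∀ x : G, x ^ p = 1) ∧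
      ∃ E : Subgroup G, Nonempty (G ≃* E × Multiplicative (ZMod p))) ∨
    (p = 2 ∧ Nonempty (G ≃* QuaternionGroup 2 × Multiplicative (ZMod 2))) := by
  have hpp := hp.out
  have h1p := hpp.one_lt
  obtain ⟨hcomm, hpow⟩ := p4_A_facts8 p hcard hZ hnab
  obtain ⟨N, hNZ, hN, hcommN, hNchar⟩ := p4_A_comm8 p hcard hZ hnab
  have hNp : ∀ n ∈ N, n ^ p = 1 := by
    intro n hn
    have h1 : (⟨n, hn⟩ : N) ^ Nat.card N = 1 := pow_card_eq_one'
    rw [hN] at h1
    exact congrArg Subtype.val h1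
  have hmul2 : ∀ x y : G, (x * y) ^ (p ^ 2) = x ^ (p ^ 2) * y ^ (p ^ 2) :=
    class2_pow_mul8 p N hNZ hNp hcommN (p ^ 2) (dvd_choose_sq8 p)
  by_cases hx2 : ∃ x : G, x ^ (p ^ 2) ≠ 1
  · left; exact p4_A_theta8 p hcard hZ hpow hmul2 hx2
  push_neg at hx2
  by_cases hcyc : IsCyclic (Subgroup.center G)
  · right; left; exact ⟨hx2, hcyc⟩
  have hZel : ∀ z ∈ Subgroup.center G, z ^ p = 1 := by
    intro z hz
    have hd : orderOf (⟨z, hz⟩ : Subgroup.center G) ∣ p ^ 2 := by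
      rw [← hZ]; exact orderOf_dvd_natCard _
    obtain ⟨k, hk2, hk⟩ := (Nat.dvd_prime_pow hpp).mp hd
    have hk2' : k ≠ 2 := by
      rintro rfl
      exact hcyc (isCyclic_of_orderOf_eq_card _ (hk.trans hZ.symm))
    have hk1 : k ≤ 1 := by omega
    have h3 : orderOf (⟨z, hz⟩ : Subgroup.center G) ∣ p := by
      rw [hk]
      calc p ^ k ∣ p ^ 1 := pow_dvd_pow p hk1
        _ = p := pow_one p
    have h4 := orderOf_dvd_iff_pow_eq_one.mp h3
    exact congrArg Subtype.val h4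
  obtain ⟨c₀, hc₀Z, hc₀N⟩ : ∃ c ∈ Subgroup.center G, c ∉ N := by
    apply exists_not_mem_of_card_lt8
    rw [hN, hZ]
    calc p = p ^ 1 := (pow_one p).symm
      _ < p ^ 2 := Nat.pow_lt_pow_right h1p (by norm_num)
  rcases hpp.eq_two_or_odd' with h2 | hodd
  · subst h2
    by_cases hsq : ∀ x : G, x ^ 2 ∈ N
    · by_cases hinv : ∃ t : G, t ∉ Subgroup.center G ∧ t ^ 2 = 1
      · left; exact p4_two_d8 hcard hZ hnab hZel N hNZ hN hcommN hNchar hsq hinv
      · right; right; right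
        push_neg at hinv
        exact ⟨rfl, p4_two_q8 hcard hnab hZel N hcommN hsq
          (fun t ht => by_contra fun h => hinv t h ht) c₀ hc₀Z hc₀N⟩
    · left; exact p4_two_sq8 hcard hZ hpow hZel N hNZ hN hcommN hNchar hsq
  · have hp3 : 2 < p := by
      rcases hodd with ⟨k, hk⟩
      have := hpp.two_le
      omega
    have hmulp : ∀ x y : G, (x * y) ^ p = x ^ p * y ^ p :=
      class2_pow_mul8 p N hNZ hNp hcommN p (hpp.dvd_choose_self (by norm_num) hp3)
    by_cases hexp : ∀ x : G, x ^ p = 1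
    · right; right; left
      refine ⟨hodd, hexp, ?_⟩
      exact split_central8 p N hcommN (fun x => by rw [hexp x]; exact N.one_mem) c₀ hc₀Z
        (hZel c₀ hc₀Z) hc₀N
    · left
      push_neg at hexp
      exact p4_A_pi8 p hcard hZ hpow hZel N hNZ hN hNchar hmulp hexp

end Cfsg.Agent.Lib.Helper8
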