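import Mathlib
import Cfsg.Agent.Lib.Helper8.P4b
import Cfsg.Agent.Lib.Helper8.Ab2a

set_option autoImplicit false

namespace Cfsg.Agent.Lib.Helper8

section abel4
variable {H : Type*} [CommGroup H]

theorem card_Om_succ_le8 [Finite H] (p j : ℕ) :
    Nat.card (Om8 (H := H) p (j + 1)) ≤
      Nat.card (Om8 (H := H) p j) * Nat.card (Om8 (H := H) p 1) := by
  have hmem : ∀ x : Om8 (H := H) p (j + 1), (x : H) ^ (p ^ j) ∈ Om8 (H := H) p 1 := by
    intro x
    rw [mem_Om8, pow_one, ← pow_mul, ← pow_succ]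
    exact (mem_Om8 p (j + 1) _).mp x.2
  obtain ⟨φ, hφ⟩ : ∃ φ : Om8 (H := H) p (j + 1) →* Om8 (H := H) p 1,
      ∀ x, ((φ x : Om8 (H := H) p 1) : H) = (x : H) ^ (p ^ j) := by
    refine ⟨MonoidHom.mk' (fun x => ⟨(x : H) ^ (p ^ j), hmem x⟩) ?_, fun x => rfl⟩
    intro x y
    apply Subtype.ext
    show ((x * y : Om8 (H := H) p (j + 1)) : H) ^ (p ^ j) = (x : H) ^ (p ^ j) * (y : H) ^ (p ^ j)
    rw [Subgroup.coe_mul, mul_pow]
  have h1 : Nat.card φ.ker * Nat.card φ.range = Nat.card (Om8 (H := H) p (j + 1)) := by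
    rw [← Subgroup.index_ker]; exact Subgroup.card_mul_index _
  have h2 : Nat.card φ.range ≤ Nat.card (Om8 (H := H) p 1) := Subgroup.card_le_card_group _
  have h3 : Nat.card φ.ker ≤ Nat.card (Om8 (H := H) p j) := by
    have hle : φ.ker.map (Om8 (H := H) p (j + 1)).subtype ≤ Om8 (H := H) p j := by
      rintro _ ⟨k, hk, rfl⟩
      rw [mem_Om8]
      have h4 := congrArg Subtype.val (MonoidHom.mem_ker.mp hk)
      rw [hφ] at h4
      exact h4
    rw [← Subgroup.card_map_of_injective (Om8 (H := H) p (j + 1)).subtype_injective]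
    exact Subgroup.card_le_of_le hle
  rw [← h1]
  exact Nat.mul_le_mul h3 h2

theorem Om_stable8 (p j : ℕ) (h : ∀ x : H, x ^ (p ^ (j + 1)) = 1 → x ^ (p ^ j) = 1) :
    ∀ k : ℕ, ∀ x : H, x ^ (p ^ (j + k)) = 1 → x ^ (p ^ j) = 1 := by
  intro k
  induction k with
  | zero => intro x hx; exact hx
  | succ k ih =>
    intro x hx
    apply h
    have h1 : (x ^ p) ^ (p ^ (j + k)) = 1 := by
      rw [← pow_mul, ← pow_succ']; exact hx
    have h2 := ih (x ^ p) h1
    rw [← pow_mul, ← pow_succ'] at h2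
    exact h2

theorem Om_strict8 [Finite H] (p : ℕ) (N : ℕ) (hN : Nat.card H = p ^ N) (j : ℕ)
    (hne : ∃ x : H, x ^ (p ^ j) ≠ 1) : ∃ x : H, x ^ (p ^ (j + 1)) = 1 ∧ x ^ (p ^ j) ≠ 1 := by
  by_contra hcon
  push_neg at hcon
  obtain ⟨x, hx⟩ := hne
  apply hx
  apply Om_stable8 p j hcon N x
  have h1 : x ^ (p ^ N) = 1 := by rw [← hN]; exact pow_card_eq_one'
  rw [pow_add, mul_comm, pow_mul, h1, one_pow]

theorem abel_p4_211_8 [Finite H] (p : ℕ) [hp : Fact p.Prime] (hcard : Nat.card H = p ^ 4)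
    (hOm : Nat.card (Om8 (H := H) p 1) = p ^ 3) :
    Nonempty (H ≃* Multiplicative (ZMod (p ^ 2) × ZMod p × ZMod p)) := by
  have hpp := hp.out
  have h1p := hpp.one_lt
  have hMh : Nat.card (Mh8 (H := H) p 1) = p := by
    have h := card_Om_Mh8 (H := H) p 1
    rw [hOm, hcard] at h
    have h2 : p ^ 3 * Nat.card (Mh8 (H := H) p 1) = p ^ 3 * p := by rw [h]; ring
    exact Nat.eq_of_mul_eq_mul_left (pow_pos hpp.pos 3) h2
  obtain ⟨z, hzM, hz1⟩ : ∃ z ∈ Mh8 (H := H) p 1, z ≠ 1 := by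
    by_contra hcon
    push_neg at hcon
    have h1 : Mh8 (H := H) p 1 = ⊥ := (Subgroup.eq_bot_iff_forall _).mpr hcon
    rw [h1, Subgroup.card_bot] at hMh
    omega
  obtain ⟨w, hw⟩ := (mem_Mh8 p 1 z).mp hzM
  rw [pow_one] at hw
  have hzp : z ^ p = 1 := by
    have h1 : (⟨z, hzM⟩ : Mh8 (H := H) p 1) ^ Nat.card (Mh8 (H := H) p 1) = 1 :=
      pow_card_eq_one'
    rw [hMh] at h1
    exact congrArg Subtype.val h1
  have hw2 : w ^ (p ^ 2) = 1 := by rw [pow_two, pow_mul, hw]; exact hzp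
  have hoz : orderOf z = p := orderOf_eq_prime hzp hz1
  have hcZ : Nat.card (Subgroup.zpowers z) = p := by rw [Nat.card_zpowers, hoz]
  obtain ⟨y₂, hy₂O, hy₂n⟩ : ∃ y ∈ Om8 (H := H) p 1, y ∉ Subgroup.zpowers z := by
    apply exists_not_mem_of_card_lt8
    rw [hcZ, hOm]
    calc p = p ^ 1 := (pow_one p).symm
      _ < p ^ 3 := Nat.pow_lt_pow_right h1p (by norm_num)
  have hy₂p : y₂ ^ p = 1 := by
    have h := (mem_Om8 p 1 y₂).mp hy₂O
    rwa [pow_one] at h
  haveI : NeZero p := ⟨hpp.ne_zero⟩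
  obtain ⟨ψ, hψ⟩ : ∃ ψ : Multiplicative (ZMod p × ZMod p) →* H,
      ∀ x, ψ x = z ^ (Multiplicative.toAdd x).1.val * y₂ ^ (Multiplicative.toAdd x).2.val := by
    refine ⟨MonoidHom.mk' (fun x => z ^ (Multiplicative.toAdd x).1.val *
      y₂ ^ (Multiplicative.toAdd x).2.val) ?_, fun x => rfl⟩
    intro x y
    show z ^ (Multiplicative.toAdd (x * y)).1.val * y₂ ^ (Multiplicative.toAdd (x * y)).2.val =
      (z ^ (Multiplicative.toAdd x).1.val * y₂ ^ (Multiplicative.toAdd x).2.val) *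
      (z ^ (Multiplicative.toAdd y).1.val * y₂ ^ (Multiplicative.toAdd y).2.val)
    rw [toAdd_mul, Prod.fst_add, Prod.snd_add, ZMod.val_add, ZMod.val_add,
      ← pow_eq_pow_mod _ hzp, ← pow_eq_pow_mod _ hy₂p, pow_add z, pow_add y₂, mul_mul_mul_comm]
  have hcψ : Nat.card ψ.range ≤ p ^ 2 := by
    have h1 : Nat.card ψ.range ≤ Nat.card (Multiplicative (ZMod p × ZMod p)) :=
      Nat.card_le_card_of_surjective ψ.rangeRestrict ψ.rangeRestrict_surjective
    have h2 : Nat.card (Multiplicative (ZMod p × ZMod p)) = p ^ 2 := by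
      show Nat.card (ZMod p × ZMod p) = p ^ 2
      rw [Nat.card_prod, Nat.card_zmod]; ring
    rw [h2] at h1; exact h1
  have hzψ : z ∈ ψ.range := by
    refine ⟨Multiplicative.ofAdd (1, 0), ?_⟩
    rw [hψ]
    show z ^ (1 : ZMod p).val * y₂ ^ (0 : ZMod p).val = z
    rw [ZMod.val_one_eq_one_mod, ← pow_eq_pow_mod _ hzp, ZMod.val_zero, pow_one, pow_zero,
      mul_one]
  have hy₂ψ : y₂ ∈ ψ.range := by
    refine ⟨Multiplicative.ofAdd (0, 1), ?_⟩
    rw [hψ]
    show z ^ (0 : ZMod p).val * y₂ ^ (1 : ZMod p).val = y₂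
    rw [ZMod.val_one_eq_one_mod, ← pow_eq_pow_mod _ hy₂p, ZMod.val_zero, pow_one, pow_zero,
      one_mul]
  obtain ⟨y₃, hy₃O, hy₃n⟩ : ∃ y ∈ Om8 (H := H) p 1, y ∉ ψ.range := by
    apply exists_not_mem_of_card_lt8
    rw [hOm]
    calc Nat.card ψ.range ≤ p ^ 2 := hcψ
      _ < p ^ 3 := Nat.pow_lt_pow_right h1p (by norm_num)
  have hy₃p : y₃ ^ p = 1 := by
    have h := (mem_Om8 p 1 y₃).mp hy₃O
    rwa [pow_one] at h
  haveI : NeZero (p ^ 2) := ⟨pow_ne_zero _ hpp.ne_zero⟩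
  obtain ⟨f, hf⟩ : ∃ f : Multiplicative (ZMod (p ^ 2) × ZMod p × ZMod p) →* H,
      ∀ x, f x = w ^ (Multiplicative.toAdd x).1.val *
        (y₂ ^ (Multiplicative.toAdd x).2.1.val * y₃ ^ (Multiplicative.toAdd x).2.2.val) := by
    refine ⟨MonoidHom.mk' (fun x => w ^ (Multiplicative.toAdd x).1.val *
      (y₂ ^ (Multiplicative.toAdd x).2.1.val * y₃ ^ (Multiplicative.toAdd x).2.2.val)) ?_,
      fun x => rfl⟩
    intro x y
    show w ^ (Multiplicative.toAdd (x * y)).1.val *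
        (y₂ ^ (Multiplicative.toAdd (x * y)).2.1.val *
          y₃ ^ (Multiplicative.toAdd (x * y)).2.2.val) =
      (w ^ (Multiplicative.toAdd x).1.val *
        (y₂ ^ (Multiplicative.toAdd x).2.1.val * y₃ ^ (Multiplicative.toAdd x).2.2.val)) *
      (w ^ (Multiplicative.toAdd y).1.val *
        (y₂ ^ (Multiplicative.toAdd y).2.1.val * y₃ ^ (Multiplicative.toAdd y).2.2.val))
    rw [toAdd_mul, Prod.fst_add, Prod.snd_add, Prod.fst_add, Prod.snd_add, ZMod.val_add,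
      ZMod.val_add, ZMod.val_add, ← pow_eq_pow_mod _ hw2, ← pow_eq_pow_mod _ hy₂p,
      ← pow_eq_pow_mod _ hy₃p, pow_add w, pow_add y₂, pow_add y₃,
      mul_mul_mul_comm (y₂ ^ (Multiplicative.toAdd x).2.1.val),
      mul_mul_mul_comm (w ^ (Multiplicative.toAdd x).1.val)]
  have hinj : Function.Injective f := by
    rw [injective_iff_map_eq_one]
    intro x hx
    rw [hf] at hx
    obtain ⟨a, ha⟩ : ∃ a, a = (Multiplicative.toAdd x).1.val := ⟨_, rfl⟩
    obtain ⟨b, hb⟩ : ∃ b, b = (Multiplicative.toAdd x).2.1.val := ⟨_, rfl⟩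
    obtain ⟨c, hc⟩ : ∃ c, c = (Multiplicative.toAdd x).2.2.val := ⟨_, rfl⟩
    rw [← ha, ← hb, ← hc] at hx
    have ha_lt : a < p ^ 2 := by rw [ha]; exact ZMod.val_lt _
    have hb_lt : b < p := by rw [hb]; exact ZMod.val_lt _
    have hc_lt : c < p := by rw [hc]; exact ZMod.val_lt _
    have h1 : z ^ a = 1 := by
      have h2 : (w ^ a * (y₂ ^ b * y₃ ^ c)) ^ p = 1 := by rw [hx, one_pow]
      rw [mul_pow, mul_pow, pow_right_comm w, pow_right_comm y₂, pow_right_comm y₃, hw, hy₂p,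
        hy₃p, one_pow, one_pow, mul_one, mul_one] at h2
      exact h2
    have hpa : p ∣ a := by rw [← hoz]; exact orderOf_dvd_of_pow_eq_one h1
    obtain ⟨a', ha'⟩ := hpa
    have hwa : w ^ a = z ^ a' := by rw [ha', pow_mul, hw]
    rw [hwa] at hx
    have hc0 : c = 0 := by
      have h3 : y₃ ^ c ∈ ψ.range := by
        have h4 : y₃ ^ c = (z ^ a' * y₂ ^ b)⁻¹ := by
          apply eq_inv_of_mul_eq_one_right
          rw [mul_assoc]; exact hx
        rw [h4]
        exact Subgroup.inv_mem _ (Subgroup.mul_mem _ (Subgroup.pow_mem _ hzψ _)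
          (Subgroup.pow_mem _ hy₂ψ _))
      exact Nat.eq_zero_of_dvd_of_lt (dvd_of_pow_mem8 p ψ.range y₃ hy₃p hy₃n c h3) hc_lt
    rw [hc0, pow_zero, mul_one] at hx
    have hb0 : b = 0 := by
      have h3 : y₂ ^ b ∈ Subgroup.zpowers z := by
        have h4 : y₂ ^ b = (z ^ a')⁻¹ := eq_inv_of_mul_eq_one_right hx
        rw [h4]
        exact Subgroup.inv_mem _ (Subgroup.pow_mem _ (Subgroup.mem_zpowers z) _)
      exact Nat.eq_zero_of_dvd_of_lt (dvd_of_pow_mem8 p _ y₂ hy₂p hy₂n b h3) hb_lt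
    rw [hb0, pow_zero, mul_one] at hx
    have hpa' : p ∣ a' := by rw [← hoz]; exact orderOf_dvd_of_pow_eq_one hx
    have ha0 : a = 0 := by
      obtain ⟨a'', ha''⟩ := hpa'
      have h5 : p ^ 2 ∣ a := ⟨a'', by rw [ha', ha'']; ring⟩
      exact Nat.eq_zero_of_dvd_of_lt h5 ha_lt
    have e1 : (Multiplicative.toAdd x).1 = 0 := (ZMod.val_eq_zero _).mp (ha.symm.trans ha0)
    have e2 : (Multiplicative.toAdd x).2.1 = 0 := (ZMod.val_eq_zero _).mp (hb.symm.trans hb0)
    have e3 : (Multiplicative.toAdd x).2.2 = 0 := (ZMod.val_eq_zero _).mp (hc.symm.trans hc0)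
    have e4 : Multiplicative.toAdd x = 0 := Prod.ext e1 (Prod.ext e2 e3)
    exact toAdd_eq_zero.mp e4
  have hcardM : Nat.card (Multiplicative (ZMod (p ^ 2) × ZMod p × ZMod p)) = Nat.card H := by
    show Nat.card (ZMod (p ^ 2) × ZMod p × ZMod p) = Nat.card H
    rw [Nat.card_prod, Nat.card_prod, Nat.card_zmod, Nat.card_zmod, hcard]; ring
  have hbij : Function.Bijective f := by
    rw [Nat.bijective_iff_injective_and_card]
    exact ⟨hinj, hcardM⟩
  exact ⟨(MulEquiv.ofBijective f hbij).symm⟩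

theorem abel_p4_cases8 [Finite H] (p : ℕ) [hp : Fact p.Prime] (hcard : Nat.card H = p ^ 4) :
    (∃ K : Subgroup (MulAut H), K.Normal ∧ IsPGroup p K ∧ ∀ β : MulAut H, β ^ p = 1 → β ∈ K) ∨
    (∀ x : H, x ^ p = 1) ∨
    Nonempty (H ≃* Multiplicative (ZMod (p ^ 2) × ZMod p × ZMod p)) ∨
    ((p = 2 ∨ p = 3) ∧ Nonempty (H ≃* Multiplicative (ZMod (p ^ 2) × ZMod (p ^ 2)))) := by
  have hpp := hp.out
  have h1p := hpp.one_lt
  have hchain : HasCharChain4_8 p H → ∃ K : Subgroup (MulAut H), K.Normal ∧ IsPGroup p K ∧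
      ∀ β : MulAut H, β ^ p = 1 → β ∈ K := by
    intro hch
    obtain ⟨U, hUn, hUp, hU⟩ := chain4_pclosed8 p hcard hch
    exact ⟨U, hUn, hUp, fun β hβ => hU β 1 (by rw [pow_one]; exact hβ)⟩
  obtain ⟨m, hm4, hcm⟩ := sub_card8 hpp hcard (Om8 (H := H) p 1)
  have hOmchar : ∀ j : ℕ, ∀ α : MulAut H, ∀ y ∈ Om8 (H := H) p j, α y ∈ Om8 (H := H) p j :=
    fun j => Om_char8 p j
  have hOmle : ∀ j : ℕ, Om8 (H := H) p j ≤ Om8 (H := H) p (j + 1) := by
    intro j x hx
    rw [mem_Om8] at hx ⊢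
    rw [pow_succ, pow_mul, hx, one_pow]
  have hstrict : ∀ j : ℕ, (∃ x : H, x ^ (p ^ j) ≠ 1) →
      Nat.card (Om8 (H := H) p j) < Nat.card (Om8 (H := H) p (j + 1)) := by
    intro j hne
    obtain ⟨x, hx1, hx2⟩ := Om_strict8 p 4 hcard j hne
    exact sub_lt_card8 (hOmle j) x ((mem_Om8 p (j + 1) x).mpr hx1)
      (fun h => hx2 ((mem_Om8 p j x).mp h))
  have hex : ∀ j : ℕ, Nat.card (Om8 (H := H) p j) < p ^ 4 → ∃ x : H, x ^ (p ^ j) ≠ 1 := by
    intro j hj
    obtain ⟨x, -, hx⟩ : ∃ x ∈ (⊤ : Subgroup H), x ∉ Om8 (H := H) p j := by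
      apply exists_not_mem_of_card_lt8
      rw [Subgroup.card_top, hcard]; exact hj
    exact ⟨x, fun h => hx ((mem_Om8 p j x).mpr h)⟩
  have hm0 : m ≠ 0 := by
    rintro rfl
    rw [pow_zero, ← Subgroup.eq_bot_iff_card] at hcm
    obtain ⟨x, hx⟩ := exists_prime_orderOf_dvd_card' (G := H) p
      (by rw [hcard]; exact Dvd.intro_left (p ^ 3) (by ring))
    have hxO : x ∈ Om8 (H := H) p 1 := by
      rw [mem_Om8, pow_one, ← hx]; exact pow_orderOf_eq_one x
    rw [hcm, Subgroup.mem_bot] at hxO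
    rw [hxO, orderOf_one] at hx
    exact hpp.one_lt.ne hx
  have hm_cases : m = 1 ∨ m = 2 ∨ m = 3 ∨ m = 4 := by omega
  rcases hm_cases with rfl | rfl | rfl | rfl
  · left; apply hchain
    rw [pow_one] at hcm
    have hle12 : Om8 (H := H) p 1 ≤ Om8 (H := H) p 2 := hOmle 1
    have hle23 : Om8 (H := H) p 2 ≤ Om8 (H := H) p 3 := hOmle 2
    have hc2 : Nat.card (Om8 (H := H) p 2) = p ^ 2 := by
      obtain ⟨k, hk4, hck⟩ := sub_card8 hpp hcard (Om8 (H := H) p 2)
      have h1 : Nat.card (Om8 (H := H) p 1) < Nat.card (Om8 (H := H) p 2) :=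
        hstrict 1 (hex 1 (by
          rw [hcm]
          calc p = p ^ 1 := (pow_one p).symm
            _ < p ^ 4 := Nat.pow_lt_pow_right h1p (by norm_num)))
      have h2 : Nat.card (Om8 (H := H) p 2) ≤
          Nat.card (Om8 (H := H) p 1) * Nat.card (Om8 (H := H) p 1) :=
        card_Om_succ_le8 (H := H) p 1
      rw [hcm, hck] at h1
      rw [hcm, hck] at h2
      have h3 : p ^ 1 < p ^ k := by rw [pow_one]; exact h1
      have h4 : p ^ k ≤ p ^ 2 := by rw [pow_two]; exact h2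
      have h5 := (Nat.pow_lt_pow_iff_right h1p).mp h3
      have h6 := (Nat.pow_le_pow_iff_right h1p).mp h4
      have h7 : k = 2 := by omega
      rw [hck, h7]
    have hc3 : Nat.card (Om8 (H := H) p 3) = p ^ 3 := by
      obtain ⟨k, hk4, hck⟩ := sub_card8 hpp hcard (Om8 (H := H) p 3)
      have h1 : Nat.card (Om8 (H := H) p 2) < Nat.card (Om8 (H := H) p 3) :=
        hstrict 2 (hex 2 (by rw [hc2]; exact Nat.pow_lt_pow_right h1p (by norm_num)))
      have h2 : Nat.card (Om8 (H := H) p 3) ≤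
          Nat.card (Om8 (H := H) p 2) * Nat.card (Om8 (H := H) p 1) :=
        card_Om_succ_le8 (H := H) p 2
      rw [hc2, hck] at h1
      rw [hc2, hcm, hck] at h2
      have h4 : p ^ k ≤ p ^ 3 := by
        calc p ^ k ≤ p ^ 2 * p := h2
          _ = p ^ 3 := by ring
      have h5 := (Nat.pow_lt_pow_iff_right h1p).mp h1
      have h6 := (Nat.pow_le_pow_iff_right h1p).mp h4
      have h7 : k = 3 := by omega
      rw [hck, h7]
    exact ⟨Om8 p 1, Om8 p 2, Om8 p 3, hle12, hle23, hcm, hc2, hc3, hOmchar 1, hOmchar 2,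
      hOmchar 3⟩
  · by_cases hexp2 : ∀ x : H, x ^ (p ^ 2) = 1
    · have hMh : Nat.card (Mh8 (H := H) p 1) = p ^ 2 := by
        have h := card_Om_Mh8 (H := H) p 1
        rw [hcm, hcard] at h
        have h2 : p ^ 2 * Nat.card (Mh8 (H := H) p 1) = p ^ 2 * p ^ 2 := by rw [h]; ring
        exact Nat.eq_of_mul_eq_mul_left (pow_pos hpp.pos 2) h2
      have hMO : Mh8 (H := H) p 1 = Om8 p 1 := by
        have hle : Mh8 (H := H) p 1 ≤ Om8 p 1 := by
          intro x hx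
          obtain ⟨y, rfl⟩ := (mem_Mh8 p 1 x).mp hx
          rw [mem_Om8, pow_one, ← pow_mul, ← pow_two]
          exact hexp2 y
        exact Subgroup.eq_of_le_of_card_ge hle (by rw [hcm, hMh])
      by_cases hp3 : p ≤ 3
      · right; right; right
        have h23 : p = 2 ∨ p = 3 := by
          have h2 := hpp.two_le
          rcases Nat.lt_or_ge p 3 with h | h
          · left; omega
          · right; omega
        exact ⟨h23, homocyclic_iso8 p hcm 1 hexp2 hMO⟩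
      · left
        have hp5 : 5 ≤ p := by
          have h4 : p ≠ 4 := by
            intro h; rw [h] at hpp; exact absurd hpp (by decide)
          omega
        have hbotchar : ∀ α : MulAut H, ∀ y ∈ (⊥ : Subgroup H), α y ∈ (⊥ : Subgroup H) := by
          intro α y hy; rw [Subgroup.mem_bot] at hy ⊢; rw [hy, map_one]
        have hbot1 : ∀ z ∈ (⊥ : Subgroup H), z ^ p = 1 := by
          intro z hz; rw [Subgroup.mem_bot] at hz; rw [hz, one_pow]
        obtain ⟨U, hUn, hUp, hU⟩ := stabU8 p 4 hcard ⊥ hbotchar hbot1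
        refine ⟨U, hUn, hUp, fun β hβ => hU β (fun z hz => ?_) (fun y hy => ?_)⟩
        · rw [Subgroup.mem_bot] at hz; rw [hz, map_one]
        · rw [fix_Om1_of_homocyclic8 p hp5 hcm 1 le_rfl hMO β hβ y hy, inv_mul_cancel]
          exact Subgroup.one_mem _
    · left; apply hchain
      push_neg at hexp2
      obtain ⟨x₀, hx₀⟩ := hexp2
      have hle12 : Om8 (H := H) p 1 ≤ Om8 (H := H) p 2 := hOmle 1
      have hne1 : ∃ x : H, x ^ (p ^ 1) ≠ 1 := by
        refine ⟨x₀, fun h => hx₀ ?_⟩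
        rw [pow_two, pow_mul]
        rw [pow_one] at h
        rw [h, one_pow]
      have hc2 : Nat.card (Om8 (H := H) p 2) = p ^ 3 := by
        obtain ⟨k, hk4, hck⟩ := sub_card8 hpp hcard (Om8 (H := H) p 2)
        have h1 : Nat.card (Om8 (H := H) p 1) < Nat.card (Om8 (H := H) p 2) := hstrict 1 hne1
        have h2 : Nat.card (Om8 (H := H) p 2) < Nat.card (⊤ : Subgroup H) :=
          sub_lt_card8 le_top x₀ (Subgroup.mem_top _) (fun h => hx₀ ((mem_Om8 p 2 x₀).mp h))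
        rw [hcm, hck] at h1
        rw [Subgroup.card_top, hcard, hck] at h2
        have h5 := (Nat.pow_lt_pow_iff_right h1p).mp h1
        have h6 := (Nat.pow_lt_pow_iff_right h1p).mp h2
        have h7 : k = 3 := by omega
        rw [hck, h7]
      have hx3 : ∀ x : H, x ^ (p ^ 3) = 1 := by
        have h1 : Nat.card (Om8 (H := H) p 2) < Nat.card (Om8 (H := H) p 3) :=
          hstrict 2 ⟨x₀, hx₀⟩
        obtain ⟨k, hk4, hck⟩ := sub_card8 hpp hcard (Om8 (H := H) p 3)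
        rw [hc2, hck] at h1
        have h5 := (Nat.pow_lt_pow_iff_right h1p).mp h1
        have h7 : k = 4 := by omega
        rw [h7, ← hcard, Subgroup.card_eq_iff_eq_top] at hck
        intro x
        have h8 : x ∈ Om8 (H := H) p 3 := by rw [hck]; exact Subgroup.mem_top x
        exact (mem_Om8 p 3 x).mp h8
      have hMh2 : Nat.card (Mh8 (H := H) p 2) = p := by
        have h := card_Om_Mh8 (H := H) p 2
        rw [hc2, hcard] at h
        have h2 : p ^ 3 * Nat.card (Mh8 (H := H) p 2) = p ^ 3 * p := by rw [h]; ring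
        exact Nat.eq_of_mul_eq_mul_left (pow_pos hpp.pos 3) h2
      have hMle : Mh8 (H := H) p 2 ≤ Om8 (H := H) p 1 := by
        intro x hx
        obtain ⟨y, rfl⟩ := (mem_Mh8 p 2 x).mp hx
        rw [mem_Om8, pow_one, ← pow_mul, ← pow_succ]
        exact hx3 y
      exact ⟨Mh8 p 2, Om8 p 1, Om8 p 2, hMle, hle12, hMh2, hcm, hc2, Mh_char8 p 2, hOmchar 1,
        hOmchar 2⟩
  · right; right; left
    exact abel_p4_211_8 p hcard hcm
  · right; left
    have htop : Om8 (H := H) p 1 = ⊤ :=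
      (Subgroup.card_eq_iff_eq_top _).mp (hcm.trans hcard.symm)
    intro x
    have h1 : x ∈ Om8 (H := H) p 1 := by rw [htop]; exact Subgroup.mem_top x
    rwa [mem_Om8, pow_one] at h1

end abel4

theorem abel_p4_cases8' {H : Type*} [Group H] [Finite H] (hc : ∀ a b : H, a * b = b * a)
    (p : ℕ) [hp : Fact p.Prime] (hcard : Nat.card H = p ^ 4) :
    (∃ K : Subgroup (MulAut H), K.Normal ∧ IsPGroup p K ∧ ∀ β : MulAut H, β ^ p = 1 → β ∈ K) ∨
    (∀ x : H, x ^ p = 1) ∨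
    Nonempty (H ≃* Multiplicative (ZMod (p ^ 2) × ZMod p × ZMod p)) ∨
    ((p = 2 ∨ p = 3) ∧ Nonempty (H ≃* Multiplicative (ZMod (p ^ 2) × ZMod (p ^ 2)))) := by
  letI : CommGroup H := { ‹Group H› with mul_comm := hc }
  exact abel_p4_cases8 p hcard

end Cfsg.Agent.Lib.Helper8
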