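import Mathlib
import Cfsg.Prelude.Def_FusionSystem
import Cfsg.Agent.Lib.Helper8.P4c
import Cfsg.Agent.Lib.Helper8.P4d
import Cfsg.Agent.Lib.Helper8.Ab2b

set_option autoImplicit false

namespace Cfsg.Agent.Lib.Helper8

open Cfsg

/-- a type synonym of `Fin n` carrying no algebraic instances -/
def Wrap8 (n : ℕ) : Type := Fin n

theorem extraspecial_model8 {G : Type*} [Group G] [Finite G] (p : ℕ) [hp : Fact p.Prime]
    (hcard : Nat.card G = p ^ 4) (hnab : ¬ ∀ a b : G, a * b = b * a)
    (hexp : ∀ x : G, x ^ p = 1) (E : Subgroup G) (e : G ≃* E × Multiplicative (ZMod p)) :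
    ∃ (E' : Type) (_ : Group E') (_ : Finite E'), Cfsg.IsExtraspecial p E' ∧
      Nat.card E' = p ^ 3 ∧ (∀ x : E', x ^ p = 1) ∧
      Nonempty (G ≃* E' × Multiplicative (ZMod p)) := by
  have hpp := hp.out
  have hcE : Nat.card E = p ^ 3 := by
    have h1 : Nat.card G = Nat.card (E × Multiplicative (ZMod p)) := Nat.card_congr e.toEquiv
    rw [Nat.card_prod, hcard] at h1
    have h2 : Nat.card (Multiplicative (ZMod p)) = p := by
      show Nat.card (ZMod p) = p
      exact Nat.card_zmod p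
    rw [h2] at h1
    have h3 : Nat.card ↥E * p = p ^ 3 * p := by rw [← h1]; ring
    exact Nat.eq_of_mul_eq_mul_right hpp.pos h3
  have hnabE : ¬ ∀ a b : E, a * b = b * a := by
    intro h
    apply hnab
    intro a b
    apply e.injective
    rw [map_mul, map_mul]
    exact Prod.ext (h (e a).1 (e b).1) (mul_comm (e a).2 (e b).2)
  have hexpE : ∀ x : E, x ^ p = 1 := fun x => Subtype.ext (by
    rw [Subgroup.coe_pow]; exact hexp x)
  obtain ⟨n, ⟨ε⟩⟩ : ∃ n : ℕ, Nonempty (Wrap8 n ≃ E) :=
    ⟨Nat.card E, ⟨(Finite.equivFin E).symm⟩⟩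
  letI : Group (Wrap8 n) := ε.group
  haveI : Finite (Wrap8 n) := Finite.of_equiv _ ε.symm
  obtain ⟨μ⟩ : Nonempty (Wrap8 n ≃* E) := ⟨ε.mulEquiv⟩
  have hcF : Nat.card (Wrap8 n) = p ^ 3 := (Nat.card_congr μ.toEquiv).trans hcE
  have hnabF : ¬ ∀ a b : Wrap8 n, a * b = b * a := by
    intro h
    apply hnabE
    intro a b
    have h1 := h (μ.symm a) (μ.symm b)
    have h2 := congrArg μ h1
    rw [map_mul, map_mul, μ.apply_symm_apply, μ.apply_symm_apply] at h2
    exact h2
  have hexpF : ∀ x : Wrap8 n, x ^ p = 1 := by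
    intro x
    apply μ.injective
    rw [map_pow, map_one]; exact hexpE _
  exact ⟨Wrap8 n, inferInstance, inferInstance, p3_nonab_extraspecial8 p hcF hnabF, hcF, hexpF,
    ⟨e.trans (MulEquiv.prodCongr μ.symm (MulEquiv.refl _))⟩⟩

theorem p4_nonab_center8 {G : Type*} [Group G] [Finite G] (p : ℕ) [hp : Fact p.Prime]
    (hcard : Nat.card G = p ^ 4) (hnab : ¬ ∀ a b : G, a * b = b * a) :
    Nat.card (Subgroup.center G) = p ∨ Nat.card (Subgroup.center G) = p ^ 2 := by
  have hpp := hp.out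
  have hPG : IsPGroup p G := IsPGroup.of_card hcard
  haveI : Nontrivial G := by
    rw [← Finite.one_lt_card_iff_nontrivial, hcard]
    exact Nat.one_lt_pow (by norm_num) hpp.one_lt
  have hZnt : Nontrivial (Subgroup.center G) := hPG.center_nontrivial
  obtain ⟨m, hm4, hZm⟩ := sub_card8 hpp hcard (Subgroup.center G)
  have hquot : Nat.card (G ⧸ Subgroup.center G) * Nat.card (Subgroup.center G) = p ^ 4 := by
    rw [← Subgroup.card_eq_card_quotient_mul_card_subgroup, hcard]
  have hker : (QuotientGroup.mk' (Subgroup.center G)).ker ≤ Subgroup.center G := by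
    rw [QuotientGroup.ker_mk']
  have hncyc : ¬ IsCyclic (G ⧸ Subgroup.center G) := by
    intro h
    exact hnab (commutative_of_cyclic_center_quotient (QuotientGroup.mk' (Subgroup.center G)) hker)
  have hm0 : m ≠ 0 := by
    rintro rfl
    rw [pow_zero, ← Subgroup.eq_bot_iff_card] at hZm
    exact (Subgroup.nontrivial_iff_ne_bot _).mp hZnt hZm
  have hm4' : m ≠ 4 := by
    rintro rfl
    rw [← hcard, Subgroup.card_eq_iff_eq_top] at hZm
    apply hnab
    intro a b
    have h1 : b ∈ Subgroup.center G := by rw [hZm]; trivial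
    exact Subgroup.mem_center_iff.mp h1 a
  have hm3 : m ≠ 3 := by
    rintro rfl
    rw [hZm] at hquot
    have h1 : Nat.card (G ⧸ Subgroup.center G) = p := by
      have h2 : Nat.card (G ⧸ Subgroup.center G) * p ^ 3 = p * p ^ 3 := by rw [hquot]; ring
      exact Nat.eq_of_mul_eq_mul_right (pow_pos hpp.pos 3) h2
    exact hncyc (isCyclic_of_prime_card h1)
  have hm12 : m = 1 ∨ m = 2 := by omega
  rcases hm12 with rfl | rfl
  · left; rw [hZm, pow_one]
  · right; exact hZm

end Cfsg.Agent.Lib.Helper8
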