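import Mathlib
import Cfsg.Prelude.Def_Characters
import Cfsg.Prelude.Def_Blocks
import Cfsg.Agent.S2299
import Cfsg.Agent.S2300
import Cfsg.Agent.S2321
import Cfsg.Agent.Lib.Helper8.CharQuotient
import Cfsg.Agent.Lib.Lead.CharCentral
import Cfsg.Agent.Lib.Lead.CharRing

set_option autoImplicit false

namespace Cfsg.Agent.Lib.Helper8

open Cfsg.Agent.Lib.Lead
open scoped ComplexConjugate Matrix

theorem prime_dvd_one_false8 {p a b : ℕ} (hp : p.Prime) (h1 : p ∣ a) (h2 : p ∣ b)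
    (h : a + 1 = b) : False := by
  have h3 : p ∣ 1 := by
    have h4 : p ∣ a + 1 := by rw [h]; exact h2
    exact (Nat.dvd_add_right h1).mp h4
  exact hp.one_lt.ne' (Nat.dvd_one.mp h3)

theorem sl2_deg_facts8 (p : ℕ) [Fact p.Prime] (F : Type*) [Field F] [Fintype F] [CharP F p]
    (hF : 4 ≤ Fintype.card F) :
    (∀ χ : Matrix.SpecialLinearGroup (Fin 2) F → ℂ,
      Cfsg.IsIrrCharacter (Matrix.SpecialLinearGroup (Fin 2) F) χ →
      p ∣ Cfsg.charDegree χ → χ 1 = (Fintype.card F : ℂ)) ∧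
    Nat.card {χ : Cfsg.IrrCharacter (Matrix.SpecialLinearGroup (Fin 2) F) //
      (χ : Matrix.SpecialLinearGroup (Fin 2) F → ℂ) 1 = (Fintype.card F : ℂ)} = 1 := by
  have hp : p.Prime := Fact.out
  obtain ⟨n, -, hn⟩ := FiniteField.card F p
  have hpq : p ∣ Fintype.card F := by
    rw [hn]; exact dvd_pow_self p n.ne_zero
  have key : ∀ (χ : Matrix.SpecialLinearGroup (Fin 2) F → ℂ),
      Cfsg.IsIrrCharacter (Matrix.SpecialLinearGroup (Fin 2) F) χ → p ∣ Cfsg.charDegree χ →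
      (χ 1 = 1 ∨ χ 1 = (Fintype.card F : ℂ) ∨ χ 1 = (Fintype.card F : ℂ) + 1 ∨
        χ 1 = (Fintype.card F : ℂ) - 1 ∨
        (Odd (Fintype.card F) ∧ (χ 1 = (((Fintype.card F + 1) / 2 : ℕ) : ℂ) ∨
          χ 1 = (((Fintype.card F - 1) / 2 : ℕ) : ℂ)))) →
      χ 1 = (Fintype.card F : ℂ) := by
    intro χ hχ hpd hcases
    obtain ⟨hd, -⟩ := irr_charDegree (⟨χ, hχ⟩ : Cfsg.IrrCharacter _)
    obtain ⟨d, hddef⟩ : ∃ d, d = Cfsg.charDegree χ := ⟨_, rfl⟩
    have hd' : χ 1 = (d : ℂ) := by rw [hddef]; exact hd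
    rw [← hddef] at hpd
    rcases hcases with h | h | h | h | ⟨hodd, h | h⟩
    · exfalso
      rw [hd'] at h
      have h1 : d = 1 := by exact_mod_cast h
      rw [h1] at hpd
      exact hp.one_lt.ne' (Nat.dvd_one.mp hpd)
    · exact h
    · exfalso
      rw [hd'] at h
      have h1 : d = Fintype.card F + 1 := by exact_mod_cast h
      exact prime_dvd_one_false8 hp hpq hpd h1.symm
    · exfalso
      rw [hd'] at h
      have h1 : d + 1 = Fintype.card F := by
        have h' : (d : ℂ) + 1 = (Fintype.card F : ℂ) := by rw [h]; ring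
        exact_mod_cast h'
      exact prime_dvd_one_false8 hp hpd hpq h1
    · exfalso
      rw [hd'] at h
      have h1 : d = (Fintype.card F + 1) / 2 := by exact_mod_cast h
      have h2 : d * 2 = Fintype.card F + 1 := by
        obtain ⟨k, hk⟩ := hodd
        omega
      have h3 : p ∣ Fintype.card F + 1 := by
        rw [← h2]; exact Dvd.dvd.mul_right hpd 2
      exact prime_dvd_one_false8 hp hpq h3 rfl
    · exfalso
      rw [hd'] at h
      have h1 : d = (Fintype.card F - 1) / 2 := by exact_mod_cast h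
      have h2 : d * 2 + 1 = Fintype.card F := by
        obtain ⟨k, hk⟩ := hodd
        omega
      have h3 : p ∣ d * 2 := Dvd.dvd.mul_right hpd 2
      exact prime_dvd_one_false8 hp h3 hpq h2
  by_cases hp2 : p = 2
  · subst hp2
    have h := Cfsg.Agent.S2300.result (F := F)
    refine ⟨fun χ hχ hpd => key χ hχ hpd ?_, (h.2 hF).2.1⟩
    rcases h.1 χ hχ with h1 | h1 | h1 | h1
    · exact Or.inl h1
    · exact Or.inr (Or.inr (Or.inr (Or.inl h1)))
    · exact Or.inr (Or.inl h1)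
    · exact Or.inr (Or.inr (Or.inl h1))
  · have hodd : Odd (Fintype.card F) := by
      rw [hn]; exact (hp.odd_of_ne_two hp2).pow
    have h5 : 5 ≤ Fintype.card F := by
      obtain ⟨k, hk⟩ := hodd
      omega
    have h := Cfsg.Agent.S2299.result hodd
    refine ⟨fun χ hχ hpd => key χ hχ hpd ?_, (h.2 h5).2.1⟩
    rcases h.1 χ hχ with h1 | h1 | h1 | h1 | h1 | h1
    · exact Or.inl h1
    · exact Or.inr (Or.inl h1)
    · exact Or.inr (Or.inr (Or.inl h1))
    · exact Or.inr (Or.inr (Or.inr (Or.inl h1)))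
    · exact Or.inr (Or.inr (Or.inr (Or.inr ⟨hodd, Or.inl h1⟩)))
    · exact Or.inr (Or.inr (Or.inr (Or.inr ⟨hodd, Or.inr h1⟩)))

theorem sl2_st_center8 {F : Type*} [Field F] [Fintype F] (hF : 4 ≤ Fintype.card F)
    (χ : Matrix.SpecialLinearGroup (Fin 2) F → ℂ)
    (hχ : Cfsg.IsIrrCharacter (Matrix.SpecialLinearGroup (Fin 2) F) χ)
    (hdeg : χ 1 = (Fintype.card F : ℂ))
    (z : Matrix.SpecialLinearGroup (Fin 2) F)
    (hz : z ∈ Subgroup.center (Matrix.SpecialLinearGroup (Fin 2) F)) :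
    χ z = χ 1 := by
  classical
  obtain ⟨a, ha0, ha2⟩ : ∃ a : F, a ≠ 0 ∧ a ^ 2 ≠ 1 := by
    by_contra hcon
    push_neg at hcon
    have hsub : (Finset.univ : Finset F) ⊆ {0, 1, -1} := by
      intro a _
      simp only [Finset.mem_insert, Finset.mem_singleton]
      by_cases ha : a = 0
      · exact Or.inl ha
      · have h2 := hcon a ha
        have h3 : (a - 1) * (a + 1) = 0 := by linear_combination h2
        rcases mul_eq_zero.mp h3 with h | h
        · exact Or.inr (Or.inl (sub_eq_zero.mp h))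
        · exact Or.inr (Or.inr (eq_neg_of_add_eq_zero_left h))
    have h4 := Finset.card_le_card hsub
    have h5 : ({0, 1, -1} : Finset F).card ≤ 3 := Finset.card_le_three
    rw [Finset.card_univ] at h4
    omega
  obtain ⟨r, hr, hrz⟩ := Matrix.SpecialLinearGroup.mem_center_iff.mp hz
  have hr2 : r ^ 2 = 1 := by simpa using hr
  obtain ⟨g₁, hg₁⟩ : ∃ g₁ : Matrix.SpecialLinearGroup (Fin 2) F,
      (g₁ : Matrix (Fin 2) (Fin 2) F) = !![a, 0; 0, a⁻¹] :=
    ⟨⟨!![a, 0; 0, a⁻¹], by simp [Matrix.det_fin_two, ha0]⟩, rfl⟩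
  have hS := Cfsg.Agent.S2321.result χ hχ hdeg
  have e1 : χ g₁ = 1 := by
    apply (hS g₁).1
    · rw [hg₁]; simp
    · rw [hg₁]; simp
    · rw [hg₁]; simpa using ha2
  have hz' : (z : Matrix (Fin 2) (Fin 2) F) = !![r, 0; 0, r] := by
    rw [← hrz]
    ext i j
    fin_cases i <;> fin_cases j <;> simp [Matrix.scalar_apply]
  have hgz : ((g₁ * z : Matrix.SpecialLinearGroup (Fin 2) F) : Matrix (Fin 2) (Fin 2) F) =
      !![a * r, 0; 0, a⁻¹ * r] := by
    rw [Matrix.SpecialLinearGroup.coe_mul, hg₁, hz']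
    simp [Matrix.mul_fin_two]
  have e2 : χ (g₁ * z) = 1 := by
    apply (hS (g₁ * z)).1
    · rw [hgz]; simp
    · rw [hgz]; simp
    · rw [hgz]
      have h8 : (a * r) ^ 2 = a ^ 2 := by rw [mul_pow, hr2, mul_one]
      simpa [h8] using ha2
  obtain ⟨n, ρ, hρ, rfl⟩ := hχ
  haveI := hρ
  have h6 := char_mul_central ρ g₁ z hz
  rw [e2, e1, mul_one] at h6
  have h7 : ρ.character 1 = (Module.finrank ℂ (Fin n → ℂ) : ℂ) := Representation.char_one ρ
  have hne : (Module.finrank ℂ (Fin n → ℂ) : ℂ) ≠ 0 := by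
    rw [← h7, hdeg]
    exact Nat.cast_ne_zero.mpr (by omega)
  have h9 := (div_eq_one_iff_eq hne).mp h6.symm
  rw [h7]
  exact h9

theorem psl2_p_char8 (p : ℕ) [Fact p.Prime] (F : Type*) [Field F] [Fintype F] [CharP F p]
    (hF : 4 ≤ Fintype.card F) :
    Nat.card {χ : Cfsg.IrrCharacter (Matrix.ProjectiveSpecialLinearGroup (Fin 2) F) //
        p ∣ Cfsg.charDegree (χ : Matrix.ProjectiveSpecialLinearGroup (Fin 2) F → ℂ)} = 1 ∧
    ∀ χ : Cfsg.IrrCharacter (Matrix.ProjectiveSpecialLinearGroup (Fin 2) F),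
      p ∣ Cfsg.charDegree (χ : Matrix.ProjectiveSpecialLinearGroup (Fin 2) F → ℂ) →
      Cfsg.charDegree (χ : Matrix.ProjectiveSpecialLinearGroup (Fin 2) F → ℂ) =
        Fintype.card F := by
  classical
  have hp : p.Prime := Fact.out
  haveI : Finite (Matrix.SpecialLinearGroup (Fin 2) F) :=
    Finite.of_injective (fun g => (g : Matrix (Fin 2) (Fin 2) F)) Subtype.val_injective
  obtain ⟨hdegs, hcount⟩ := sl2_deg_facts8 p F hF
  obtain ⟨hsub, hne⟩ := Nat.card_eq_one_iff_unique.mp hcount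
  obtain ⟨n, -, hn⟩ := FiniteField.card F p
  have hpq : p ∣ Fintype.card F := by rw [hn]; exact dvd_pow_self p n.ne_zero
  obtain ⟨f, hfdef⟩ : ∃ f : Matrix.SpecialLinearGroup (Fin 2) F →*
      Matrix.ProjectiveSpecialLinearGroup (Fin 2) F,
      f = QuotientGroup.mk' (Subgroup.center (Matrix.SpecialLinearGroup (Fin 2) F)) := ⟨_, rfl⟩
  have hf : Function.Surjective f := by rw [hfdef]; exact QuotientGroup.mk'_surjective _
  have hinfl : ∀ χ : Cfsg.IrrCharacter (Matrix.ProjectiveSpecialLinearGroup (Fin 2) F),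
      p ∣ Cfsg.charDegree (χ : Matrix.ProjectiveSpecialLinearGroup (Fin 2) F → ℂ) →
      ((χ : Matrix.ProjectiveSpecialLinearGroup (Fin 2) F → ℂ) ∘ f) 1 =
        (Fintype.card F : ℂ) := by
    intro χ hpd
    apply hdegs _ (isIrrCharacter_comp_surj f hf χ.2)
    have e : Cfsg.charDegree ((χ : Matrix.ProjectiveSpecialLinearGroup (Fin 2) F → ℂ) ∘ f) =
        Cfsg.charDegree (χ : Matrix.ProjectiveSpecialLinearGroup (Fin 2) F → ℂ) := by
      unfold Cfsg.charDegree
      rw [Function.comp_apply, map_one]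
    rw [e]; exact hpd
  have hval : ∀ χ : Cfsg.IrrCharacter (Matrix.ProjectiveSpecialLinearGroup (Fin 2) F),
      p ∣ Cfsg.charDegree (χ : Matrix.ProjectiveSpecialLinearGroup (Fin 2) F → ℂ) →
      (χ : Matrix.ProjectiveSpecialLinearGroup (Fin 2) F → ℂ) 1 = (Fintype.card F : ℂ) := by
    intro χ hpd
    have h := hinfl χ hpd
    rw [Function.comp_apply, map_one] at h
    exact h
  refine ⟨?_, fun χ hpd => charDegree_eq_of (hval χ hpd)⟩
  rw [Nat.card_eq_one_iff_unique]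
  constructor
  · constructor
    rintro ⟨χ₁, h₁⟩ ⟨χ₂, h₂⟩
    have e := hsub.elim
      (⟨⟨_, isIrrCharacter_comp_surj f hf χ₁.2⟩, hinfl χ₁ h₁⟩ :
        {χ : Cfsg.IrrCharacter (Matrix.SpecialLinearGroup (Fin 2) F) //
          (χ : Matrix.SpecialLinearGroup (Fin 2) F → ℂ) 1 = (Fintype.card F : ℂ)})
      ⟨⟨_, isIrrCharacter_comp_surj f hf χ₂.2⟩, hinfl χ₂ h₂⟩
    have e' : (χ₁ : Matrix.ProjectiveSpecialLinearGroup (Fin 2) F → ℂ) ∘ f =
        (χ₂ : Matrix.ProjectiveSpecialLinearGroup (Fin 2) F → ℂ) ∘ f :=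
      congrArg (fun x => (x.1.1 : Matrix.SpecialLinearGroup (Fin 2) F → ℂ)) e
    apply Subtype.ext
    apply Subtype.ext
    exact hf.injective_comp_right e'
  · obtain ⟨⟨⟨χ, hχ⟩, hχ1⟩⟩ := hne
    have hN : ∀ x ∈ Subgroup.center (Matrix.SpecialLinearGroup (Fin 2) F), χ x = χ 1 :=
      fun x hx => sl2_st_center8 hF χ hχ hχ1 x hx
    obtain ⟨φ, hφ, hχφ⟩ :=
      irr_deflate (Subgroup.center (Matrix.SpecialLinearGroup (Fin 2) F)) hχ hN
    have hφ1 : φ 1 = (Fintype.card F : ℂ) := by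
      have h := congrFun hχφ 1
      rw [Function.comp_apply, map_one] at h
      rw [← h]; exact hχ1
    refine ⟨⟨⟨φ, hφ⟩, ?_⟩⟩
    show p ∣ Cfsg.charDegree φ
    rw [charDegree_eq_of hφ1]; exact hpq

end Cfsg.Agent.Lib.Helper8
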