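import Mathlib
import Cfsg.Prelude.Def_Characters
import Cfsg.Agent.Lib.Lead.CharPZero
import Cfsg.Agent.Lib.Lead.CharGallagher
import Cfsg.Agent.Lib.Lead.CharMichler2
import Cfsg.Agent.Lib.Lead.CharQuot
import Cfsg.Agent.Lib.Lead.CharCount
import Cfsg.Agent.Lib.Lead.CharInt
import Cfsg.Agent.Lib.Lead.CharCongr
import Cfsg.Agent.Lib.Lead.CharRing
import Cfsg.Agent.Lib.Lead.CharIto
import Cfsg.Agent.Lib.Helper4.SL2CharA
import Cfsg.Agent.Lib.Helper8.CharQuotient

/-! Twisting by linear characters of a `p`-quotient; restriction of characters of `p'`-degree. -/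

set_option autoImplicit false

namespace Cfsg.Agent.Lib.Helper8

open scoped ComplexConjugate
open Cfsg.Agent.Lib.Lead

universe u

/-- a power of `g` with exponent prime to `p` which is a `p`-element -/
theorem exists_pow_ppow8 {G : Type*} [Group G] [Finite G] (p : ℕ) (hp : p.Prime) (g : G) :
    ∃ m : ℕ, ¬ p ∣ m ∧ ∃ j : ℕ, orderOf (g ^ m) = p ^ j := by
  obtain ⟨e, m, hm, h⟩ := Nat.exists_eq_pow_mul_and_not_dvd (orderOf_pos g).ne' p hp.ne_one
  refine ⟨m, hm, e, ?_⟩
  have hm0 : m ≠ 0 := fun h0 => hm (h0 ▸ dvd_zero p)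
  rw [orderOf_pow, h, Nat.gcd_mul_left_left, Nat.mul_div_cancel _ (Nat.pos_of_ne_zero hm0)]

/-- a character of degree prime to `p` is not fixed by a nontrivial linear character of a
`p`-quotient -/
theorem twist_eq_self8 {G : Type*} [Group G] [Finite G] (p : ℕ) [Fact p.Prime] (M : Subgroup G)
    [M.Normal] (hidx : ∃ k : ℕ, M.index = p ^ k) (χ : G → ℂ) (hχ : Cfsg.IsCharacter G χ)
    (hp : ¬ p ∣ Cfsg.charDegree χ) (lam : G ⧸ M →* ℂˣ)
    (h : ∀ g : G, ((lam (QuotientGroup.mk g) : ℂˣ) : ℂ) * χ g = χ g) : lam = 1 := by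
  have hpp : p.Prime := Fact.out
  obtain ⟨k, hk⟩ := hidx
  by_contra hne
  have hex : ∃ a : G ⧸ M, lam a ≠ 1 := by
    by_contra hall
    push Not at hall
    exact hne (MonoidHom.ext fun a => by rw [hall a]; rfl)
  obtain ⟨a, ha⟩ := hex
  obtain ⟨g, rfl⟩ := QuotientGroup.mk_surjective a
  obtain ⟨m, hm, j, hj⟩ := exists_pow_ppow8 p hpp g
  have h1 : lam (QuotientGroup.mk g) ^ p ^ k = 1 := by
    rw [← map_pow, ← hk, Subgroup.index_eq_card, pow_card_eq_one', map_one]
  have h2 : lam (QuotientGroup.mk (g ^ m)) ≠ 1 := by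
    intro h3
    have h4 : lam (QuotientGroup.mk g) ^ m = 1 := by
      rw [← map_pow]; exact h3
    have hcop : Nat.Coprime m (p ^ k) :=
      (((Nat.Prime.coprime_iff_not_dvd hpp).2 hm).symm).pow_right k
    have h5 : lam (QuotientGroup.mk g) ^ (Nat.gcd m (p ^ k)) = 1 := pow_gcd_eq_one.2 ⟨h4, h1⟩
    rw [hcop, pow_one] at h5
    exact ha h5
  have h6 := h (g ^ m)
  have h7 : χ (g ^ m) = 0 := by
    have h8 : (((lam (QuotientGroup.mk (g ^ m)) : ℂˣ) : ℂ) - 1) * χ (g ^ m) = 0 := by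
      rw [sub_mul, one_mul, h6, sub_self]
    rcases mul_eq_zero.1 h8 with h9 | h9
    · exfalso
      apply h2
      apply Units.ext
      rw [Units.val_one]
      exact sub_eq_zero.1 h9
    · exact h9
  exact hp (prime_dvd_charDegree_of_eq_zero p χ hχ (g ^ m) ⟨j, hj⟩ h7)

/-- orthogonality for the dual group of a finite abelian group -/
theorem sum_dual8 {A : Type*} [CommGroup A] [Finite A] [DecidableEq A] [Fintype (A →* ℂˣ)] (a : A) :
    ∑ lam : A →* ℂˣ, ((lam a : ℂˣ) : ℂ) = if a = 1 then (Nat.card A : ℂ) else 0 := by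
  haveI : NeZero (Monoid.exponent A) := ⟨Monoid.exponent_ne_zero_of_finite⟩
  by_cases ha : a = 1
  · rw [if_pos ha, ha]
    simp only [map_one, Units.val_one, Finset.sum_const, Finset.card_univ, nsmul_eq_mul, mul_one]
    rw [← Nat.card_eq_fintype_card, CommGroup.card_monoidHom_of_hasEnoughRootsOfUnity A ℂ]
  · rw [if_neg ha]
    obtain ⟨μ, hμ⟩ := CommGroup.exists_apply_ne_one_of_hasEnoughRootsOfUnity A ℂ ha
    have h1 : ∑ lam : A →* ℂˣ, ((lam a : ℂˣ) : ℂ) =
        ((μ a : ℂˣ) : ℂ) * ∑ lam : A →* ℂˣ, ((lam a : ℂˣ) : ℂ) := by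
      rw [Finset.mul_sum]
      exact (Fintype.sum_equiv (Equiv.mulLeft μ)
        (fun lam : A →* ℂˣ => ((μ a : ℂˣ) : ℂ) * ((lam a : ℂˣ) : ℂ))
        (fun lam : A →* ℂˣ => ((lam a : ℂˣ) : ℂ)) (fun lam => by simp [MonoidHom.mul_apply])).symm
    have h2 : ((μ a : ℂˣ) : ℂ) ≠ 1 := fun h => hμ (Units.ext h)
    have h3 : (((μ a : ℂˣ) : ℂ) - 1) * ∑ lam : A →* ℂˣ, ((lam a : ℂˣ) : ℂ) = 0 := by
      rw [sub_mul, one_mul, ← h1, sub_self]
    rcases mul_eq_zero.1 h3 with h | h
    · exact absurd (sub_eq_zero.1 h) h2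
    · exact h

/-- the product of a linear character and an irreducible character is irreducible -/
theorem twist_irr8 {G : Type*} [Group G] [Finite G] (lam : G →* ℂˣ) {χ : G → ℂ}
    (hχ : Cfsg.IsIrrCharacter G χ) :
    Cfsg.IsIrrCharacter G ((fun g => ((lam g : ℂˣ) : ℂ)) * χ) := by
  classical
  haveI := Fintype.ofFinite G
  have hl := Cfsg.Agent.Lib.Helper4.isIrrCharacter_of_monoidHom lam
  apply isIrrCharacter_of_norm_one (isCharacter_mul (isCharacter_of_isIrrCharacter hl)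
    (isCharacter_of_isIrrCharacter hχ))
  have h1 := classInner_irr_self hχ
  unfold Cfsg.classInner at h1 ⊢
  rw [← h1]
  congr 1
  apply Finset.sum_congr rfl
  intro g _
  have hn : ((lam g : ℂˣ) : ℂ) * conj ((lam g : ℂˣ) : ℂ) = 1 := by
    have h2 := norm_linear_char hl (by simp) g
    rw [Complex.mul_conj, Complex.normSq_eq_norm_sq, h2]
    norm_num
  simp only [Pi.mul_apply, map_mul]
  calc ((lam g : ℂˣ) : ℂ) * χ g * (conj ((lam g : ℂˣ) : ℂ) * conj (χ g))
      = (((lam g : ℂˣ) : ℂ) * conj ((lam g : ℂˣ) : ℂ)) * (χ g * conj (χ g)) := by ring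
    _ = χ g * conj (χ g) := by rw [hn, one_mul]

theorem hom_norm8 {G : Type*} [Group G] [Finite G] (lam : G →* ℂˣ) (g : G) :
    ((lam g : ℂˣ) : ℂ) * conj ((lam g : ℂˣ) : ℂ) = 1 := by
  have hl := Cfsg.Agent.Lib.Helper4.isIrrCharacter_of_monoidHom lam
  have h2 := norm_linear_char hl (by simp) g
  rw [Complex.mul_conj, Complex.normSq_eq_norm_sq, h2]
  norm_num

/-- one step: restriction to a normal subgroup with abelian `p`-quotient -/
theorem restrict_irr_step8 {G : Type*} [Group G] [Finite G] (p : ℕ) [Fact p.Prime]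
    (M : Subgroup G) [M.Normal] (hab : ∀ a b : G ⧸ M, a * b = b * a)
    (hidx : ∃ k : ℕ, M.index = p ^ k) (χ : G → ℂ) (hχ : Cfsg.IsIrrCharacter G χ)
    (hp : ¬ p ∣ Cfsg.charDegree χ) : Cfsg.IsIrrCharacter M (fun m : M => χ m) := by
  classical
  haveI := Fintype.ofFinite G
  haveI : Fintype M := Fintype.ofFinite M
  letI : CommGroup (G ⧸ M) := { (inferInstance : Group (G ⧸ M)) with mul_comm := hab }
  haveI : NeZero (Monoid.exponent (G ⧸ M)) := ⟨Monoid.exponent_ne_zero_of_finite⟩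
  have hcardΛ : Nat.card ((G ⧸ M) →* ℂˣ) = Nat.card (G ⧸ M) :=
    CommGroup.card_monoidHom_of_hasEnoughRootsOfUnity (G ⧸ M) ℂ
  haveI : Finite ((G ⧸ M) →* ℂˣ) :=
    Nat.finite_of_card_ne_zero (by rw [hcardΛ]; exact Nat.card_pos.ne')
  haveI : Fintype ((G ⧸ M) →* ℂˣ) := Fintype.ofFinite _
  have hχc := isCharacter_of_isIrrCharacter hχ
  apply isIrrCharacter_of_norm_one (isCharacter_restrict M hχc)
  have hM0 : (Nat.card M : ℂ) ≠ 0 := by exact_mod_cast Nat.card_pos.ne'
  have hG0 : (Nat.card G : ℂ) ≠ 0 := by exact_mod_cast Nat.card_pos.ne'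
  have hi0 : (M.index : ℂ) ≠ 0 := by
    exact_mod_cast (Subgroup.index_ne_zero_of_finite (H := M))
  have key : ∑ m : M, χ m * conj (χ m) = (Nat.card M : ℂ) := by
    have h1 : ∑ m : M, χ m * conj (χ m) = ∑ g : G, if g ∈ M then χ g * conj (χ g) else 0 := by
      rw [← Finset.sum_filter]
      exact (Finset.sum_subtype (Finset.univ.filter (· ∈ M)) (by simp)
        (fun g => χ g * conj (χ g))).symm
    have h2 : ∀ g : G, (if g ∈ M then χ g * conj (χ g) else 0) =
        (M.index : ℂ)⁻¹ * ∑ lam : (G ⧸ M) →* ℂˣ,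
          ((lam (QuotientGroup.mk g) : ℂˣ) : ℂ) * χ g * conj (χ g) := by
      intro g
      have h3 : ∑ lam : (G ⧸ M) →* ℂˣ, ((lam (QuotientGroup.mk g) : ℂˣ) : ℂ) * χ g * conj (χ g) =
          (∑ lam : (G ⧸ M) →* ℂˣ, ((lam (QuotientGroup.mk g) : ℂˣ) : ℂ)) * (χ g * conj (χ g)) := by
        rw [Finset.sum_mul]
        apply Finset.sum_congr rfl
        intro lam _
        ring
      rw [h3, sum_dual8]
      by_cases hg : g ∈ M
      · rw [if_pos hg, if_pos ((QuotientGroup.eq_one_iff g).2 hg), ← Subgroup.index_eq_card,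
          ← mul_assoc, inv_mul_cancel₀ hi0, one_mul]
      · rw [if_neg hg, if_neg (fun h => hg ((QuotientGroup.eq_one_iff g).1 h)), zero_mul, mul_zero]
    rw [h1, Finset.sum_congr rfl (fun g _ => h2 g), ← Finset.mul_sum, Finset.sum_comm]
    have h4 : ∀ lam : (G ⧸ M) →* ℂˣ,
        ∑ g : G, ((lam (QuotientGroup.mk g) : ℂˣ) : ℂ) * χ g * conj (χ g) =
          if lam = 1 then (Nat.card G : ℂ) else 0 := by
      intro lam
      have hirr := twist_irr8 (lam.comp (QuotientGroup.mk' M)) hχ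
      have h5 := classInner_irr hirr hχ
      unfold Cfsg.classInner at h5
      have h6 : ∑ g : G, ((lam (QuotientGroup.mk g) : ℂˣ) : ℂ) * χ g * conj (χ g) =
          (Nat.card G : ℂ) * ((Nat.card G : ℂ)⁻¹ *
            ∑ g : G, ((fun g => (((lam.comp (QuotientGroup.mk' M)) g : ℂˣ) : ℂ)) * χ) g *
              conj (χ g)) := by
        rw [← mul_assoc, mul_inv_cancel₀ hG0, one_mul]
        rfl
      rw [h6, h5]
      by_cases hl : lam = 1
      · rw [if_pos hl, if_pos, mul_one]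
        funext g
        rw [hl]
        simp
      · rw [if_neg hl, if_neg, mul_zero]
        intro heq
        apply hl
        apply twist_eq_self8 p M hidx χ hχc hp lam
        intro g
        exact congrFun heq g
    rw [Finset.sum_congr rfl (fun lam _ => h4 lam), Finset.sum_ite_eq' Finset.univ 1]
    rw [if_pos (Finset.mem_univ _)]
    have h7 := Subgroup.card_mul_index M
    have h8 : (Nat.card G : ℂ) = (Nat.card M : ℂ) * (M.index : ℂ) := by
      rw [← h7]; push_cast; ring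
    rw [h8]
    field_simp
  unfold Cfsg.classInner
  rw [key, inv_mul_cancel₀ hM0]

/-- an irreducible character of degree prime to `p` restricts irreducibly to a normal subgroup
of `p`-power index -/
theorem irr_restrict_pprime8 (p : ℕ) [Fact p.Prime] : ∀ (n : ℕ) (G : Type u) [Group G] [Finite G]
    (N : Subgroup G) [N.Normal], N.index = n → (∃ k : ℕ, N.index = p ^ k) →
    ∀ χ : G → ℂ, Cfsg.IsIrrCharacter G χ → ¬ p ∣ Cfsg.charDegree χ →
      Cfsg.IsIrrCharacter N (fun n : N => χ n) := by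
  have hpp : p.Prime := Fact.out
  intro n
  induction n using Nat.strong_induction_on with
  | _ n ih =>
    intro G _ _ N _ hn hidx χ hχ hp
    obtain ⟨k, hk⟩ := hidx
    rcases Nat.eq_zero_or_pos k with hk0 | hkpos
    · -- `N = ⊤`
      rw [hk0, pow_zero] at hk
      have htop : N = ⊤ := Subgroup.index_eq_one.1 hk
      have hsurj : Function.Surjective N.subtype := by
        intro g
        exact ⟨⟨g, htop ▸ Subgroup.mem_top g⟩, rfl⟩
      exact isIrrCharacter_comp_surj N.subtype hsurj hχ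
    · have hcardQ : Nat.card (G ⧸ N) = p ^ k := by rw [← Subgroup.index_eq_card, hk]
      obtain ⟨K, hK⟩ := Sylow.exists_subgroup_card_pow_prime p (n := k - 1) (G := G ⧸ N)
        (by rw [hcardQ]; exact pow_dvd_pow p (Nat.sub_le k 1))
      have hKidx : K.index = p := by
        have h1 := Subgroup.card_mul_index K
        rw [hK, hcardQ] at h1
        have h2 : p ^ k = p ^ (k - 1) * p := by
          rw [← pow_succ]; congr 1; omega
        rw [h2] at h1
        exact Nat.eq_of_mul_eq_mul_left (pow_pos hpp.pos _) h1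
      have hKn : K.Normal := by
        apply Subgroup.normal_of_index_eq_minFac_card
        rw [hKidx, hcardQ, Nat.Prime.pow_minFac hpp (by omega)]
      let M : Subgroup G := K.comap (QuotientGroup.mk' N)
      have hMn : M.Normal := hKn.comap _
      have hMidx : M.index = p := by
        rw [Subgroup.index_comap_of_surjective K (QuotientGroup.mk'_surjective N), hKidx]
      have hNM : N ≤ M := by
        intro x hx
        show QuotientGroup.mk' N x ∈ K
        have : QuotientGroup.mk' N x = 1 := (QuotientGroup.eq_one_iff x).2 hx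
        rw [this]; exact K.one_mem
      have hcyc : IsCyclic (G ⧸ M) :=
        isCyclic_of_prime_card (p := p) (by rw [← Subgroup.index_eq_card, hMidx])
      have hab : ∀ a b : G ⧸ M, a * b = b * a := fun a b =>
        (IsCyclic.commGroup (α := G ⧸ M)).mul_comm a b
      have h1 := restrict_irr_step8 p M hab ⟨1, by rw [hMidx, pow_one]⟩ χ hχ hp
      have hdeg : Cfsg.charDegree (fun m : M => χ m) = Cfsg.charDegree χ := rfl
      have hrel : (N.subgroupOf M).index = p ^ (k - 1) := by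
        have h2 := Subgroup.relIndex_mul_index hNM
        rw [hMidx, hk] at h2
        have h3 : p ^ k = p ^ (k - 1) * p := by
          rw [← pow_succ]; congr 1; omega
        rw [h3] at h2
        exact Nat.eq_of_mul_eq_mul_right hpp.pos h2
      have hlt : p ^ (k - 1) < n := by
        rw [← hn, hk]
        exact Nat.pow_lt_pow_right hpp.one_lt (by omega)
      have h4 := ih (p ^ (k - 1)) hlt M (N.subgroupOf M) hrel ⟨k - 1, hrel⟩
        (fun m : M => χ m) h1 (by rw [hdeg]; exact hp)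
      let f : N →* (N.subgroupOf M) :=
        { toFun := fun x => ⟨⟨x, hNM x.2⟩, by
            rw [Subgroup.mem_subgroupOf]; exact x.2⟩
          map_one' := rfl
          map_mul' := fun _ _ => rfl }
      have hf : Function.Surjective f := by
        intro y
        exact ⟨⟨(y : M), Subgroup.mem_subgroupOf.1 y.2⟩, rfl⟩
      exact isIrrCharacter_comp_surj f hf h4

/-- orbit sums for a free action -/
theorem free_orbit_sum8 {X Λ : Type*} [Fintype X] [Group Λ] [Fintype Λ] [MulAction Λ X]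
    (hfree : ∀ (a : Λ) (x : X), a • x = x → a = 1) (f : X → ℂ)
    (hf : ∀ (a : Λ) (x : X), f (a • x) = f x) (hint : ∀ x, IsIntegral ℤ (f x)) :
    ∃ A : ℂ, IsIntegral ℤ A ∧ ∑ x, f x = (Fintype.card Λ : ℂ) * A := by
  classical
  haveI : Fintype (MulAction.orbitRel.Quotient Λ X) := Fintype.ofFinite _
  refine ⟨∑ ω : MulAction.orbitRel.Quotient Λ X, f ω.out, IsIntegral.sum _ (fun ω _ => hint _), ?_⟩
  rw [← Finset.sum_fiberwise Finset.univ
    (fun x => (Quotient.mk'' x : MulAction.orbitRel.Quotient Λ X)) f, Finset.mul_sum]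
  apply Finset.sum_congr rfl
  intro ω _
  have hset : Finset.univ.filter
      (fun x => (Quotient.mk'' x : MulAction.orbitRel.Quotient Λ X) = ω) =
      Finset.univ.image (fun a : Λ => a • ω.out) := by
    ext x
    simp only [Finset.mem_filter, Finset.mem_univ, true_and, Finset.mem_image]
    constructor
    · intro hx
      have h1 : (Quotient.mk'' x : MulAction.orbitRel.Quotient Λ X) = Quotient.mk'' ω.out := by
        rw [hx, Quotient.out_eq']
      have h2 := Quotient.eq''.1 h1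
      rw [MulAction.orbitRel_apply, MulAction.mem_orbit_iff] at h2
      exact h2
    · rintro ⟨a, rfl⟩
      have h1 : (Quotient.mk'' (a • ω.out) : MulAction.orbitRel.Quotient Λ X) =
          Quotient.mk'' ω.out := by
        apply Quotient.eq''.2
        rw [MulAction.orbitRel_apply, MulAction.mem_orbit_iff]
        exact ⟨a, rfl⟩
      rw [h1, Quotient.out_eq']
  rw [hset, Finset.sum_image]
  · rw [Finset.sum_congr rfl (fun a _ => hf a ω.out), Finset.sum_const, Finset.card_univ,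
      nsmul_eq_mul]
  · intro a _ b _ hab
    have h1 : (b⁻¹ * a) • ω.out = ω.out := by
      rw [mul_smul]
      show b⁻¹ • (a • ω.out) = ω.out
      have h2 : a • ω.out = b • ω.out := hab
      rw [h2, inv_smul_smul]
    have h2 := hfree _ _ h1
    exact (inv_mul_eq_one.1 h2).symm

/-- a divisibility contradiction -/
theorem pval_aux8 (p : ℕ) (hp : p.Prime) (a f e c₁ d₁ : ℕ) (hc₁ : ¬ p ∣ c₁) (hd₁ : ¬ p ∣ d₁)
    (Ax Ay W : ℂ) (hAx : IsIntegral ℤ Ax) (hAy : IsIntegral ℤ Ay) (hW : IsIntegral ℤ W)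
    (h : ((p ^ a * c₁ : ℕ) : ℂ) * ((p ^ (a + f) * d₁ : ℕ) : ℂ) =
      (p : ℂ) ^ (a + f + e + 1) * (((p ^ a * c₁ : ℕ) : ℂ) * Ay + ((p ^ (a + f) * d₁ : ℕ) : ℂ) * Ax) +
        ((p : ℂ) ^ (a + f + e + 1)) ^ 2 * W) : False := by
  have hp0 : (p : ℂ) ≠ 0 := by exact_mod_cast hp.ne_zero
  have hpI : IsIntegral ℤ (p : ℂ) := by
    have := isIntegral_intCast_complex (p : ℤ)
    simpa using this
  have hc₁I : IsIntegral ℤ (c₁ : ℂ) := by
    have := isIntegral_intCast_complex (c₁ : ℤ)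
    simpa using this
  have hd₁I : IsIntegral ℤ (d₁ : ℂ) := by
    have := isIntegral_intCast_complex (d₁ : ℤ)
    simpa using this
  have hZ : IsIntegral ℤ ((p : ℂ) ^ e * ((c₁ : ℂ) * Ay + (p : ℂ) ^ f * (d₁ : ℂ) * Ax +
      (p : ℂ) ^ (f + e + 1) * W)) := by
    apply IsIntegral.mul (hpI.pow e)
    apply IsIntegral.add
    · apply IsIntegral.add
      · exact hc₁I.mul hAy
      · exact ((hpI.pow f).mul hd₁I).mul hAx
    · exact (hpI.pow _).mul hW
  have key : ((c₁ * d₁ : ℕ) : ℂ) = (p : ℂ) * ((p : ℂ) ^ e * ((c₁ : ℂ) * Ay +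
      (p : ℂ) ^ f * (d₁ : ℂ) * Ax + (p : ℂ) ^ (f + e + 1) * W)) := by
    have hne : (p : ℂ) ^ (a + a + f) ≠ 0 := pow_ne_zero _ hp0
    apply mul_left_cancel₀ hne
    push_cast at h ⊢
    calc (p : ℂ) ^ (a + a + f) * ((c₁ : ℂ) * (d₁ : ℂ))
        = ((p : ℂ) ^ a * (c₁ : ℂ)) * ((p : ℂ) ^ (a + f) * (d₁ : ℂ)) := by ring
      _ = (p : ℂ) ^ (a + f + e + 1) * (((p : ℂ) ^ a * (c₁ : ℂ)) * Ay +
            ((p : ℂ) ^ (a + f) * (d₁ : ℂ)) * Ax) + ((p : ℂ) ^ (a + f + e + 1)) ^ 2 * W := h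
      _ = (p : ℂ) ^ (a + a + f) * ((p : ℂ) * ((p : ℂ) ^ e * ((c₁ : ℂ) * Ay +
            (p : ℂ) ^ f * (d₁ : ℂ) * Ax + (p : ℂ) ^ (f + e + 1) * W))) := by ring
  have hdiv : IsIntegral ℤ (((c₁ * d₁ : ℕ) : ℂ) / (p : ℂ)) := by
    rw [key, mul_div_cancel_left₀ _ hp0]
    exact hZ
  have hdvd := dvd_of_isIntegral_div (c₁ * d₁) p hp.ne_zero hdiv
  rcases (Nat.Prime.dvd_mul hp).1 hdvd with h1 | h1
  · exact hc₁ h1
  · exact hd₁ h1

theorem pval_contra8 (p : ℕ) (hp : p.Prime) (k c d : ℕ) (hc0 : c ≠ 0) (hd0 : d ≠ 0)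
    (hc : ¬ p ^ k ∣ c) (hd : ¬ p ^ k ∣ d) (Ax Ay W : ℂ) (hAx : IsIntegral ℤ Ax)
    (hAy : IsIntegral ℤ Ay) (hW : IsIntegral ℤ W)
    (h : (c : ℂ) * d = (p : ℂ) ^ k * ((c : ℂ) * Ay + (d : ℂ) * Ax) + ((p : ℂ) ^ k) ^ 2 * W) :
    False := by
  obtain ⟨a, c₁, hc₁, hca⟩ := Nat.exists_eq_pow_mul_and_not_dvd hc0 p hp.ne_one
  obtain ⟨b, d₁, hd₁, hdb⟩ := Nat.exists_eq_pow_mul_and_not_dvd hd0 p hp.ne_one
  have hak : a < k := by
    by_contra hge
    push Not at hge
    exact hc (hca ▸ Dvd.dvd.mul_right (pow_dvd_pow p hge) c₁)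
  have hbk : b < k := by
    by_contra hge
    push Not at hge
    exact hd (hdb ▸ Dvd.dvd.mul_right (pow_dvd_pow p hge) d₁)
  rcases le_total a b with hab | hba
  · obtain ⟨f, rfl⟩ := Nat.exists_eq_add_of_le hab
    obtain ⟨e, rfl⟩ := Nat.exists_eq_add_of_lt hbk
    subst hca hdb
    exact pval_aux8 p hp a f e c₁ d₁ hc₁ hd₁ Ax Ay W hAx hAy hW h
  · obtain ⟨f, rfl⟩ := Nat.exists_eq_add_of_le hba
    obtain ⟨e, rfl⟩ := Nat.exists_eq_add_of_lt hak
    subst hca hdb
    refine pval_aux8 p hp b f e d₁ c₁ hd₁ hc₁ Ay Ax W hAy hAx hW ?_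
    rw [mul_comm, h]
    ring

end Cfsg.Agent.Lib.Helper8
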