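import Mathlib
import Cfsg.Prelude
import Cfsg.Agent.Lib.Lead.CharMichler2
import Cfsg.Agent.Lib.Helper8.FusionMisc
import Cfsg.Agent.Lib.Helper3.PPrimeCore
import Cfsg.Agent.Lib.Helper6.PSolv

/-! Derived series of a subgroup inside the ambient group, closure properties of `p`-solvable
groups and counting `p`-singular irreducible characters of quotients. -/

set_option autoImplicit false

namespace Cfsg.Agent.Lib.Helper8

open Cfsg Cfsg.Agent.Lib.Lead
open scoped ComplexConjugate

universe u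

/-- derived series of a subgroup, inside the ambient group -/
def dser8 {G : Type*} [Group G] (H : Subgroup G) : ℕ → Subgroup G
  | 0 => H
  | (m + 1) => ⁅dser8 H m, dser8 H m⁆

theorem dser8_map_subtype {G : Type*} [Group G] (H : Subgroup G) (m : ℕ) :
    (derivedSeries ↥H m).map H.subtype = dser8 H m := by
  induction m with
  | zero =>
    show (derivedSeries ↥H 0).map H.subtype = H
    rw [derivedSeries_zero, ← MonoidHom.range_eq_map, Subgroup.range_subtype]
  | succ m ih =>
    show (derivedSeries ↥H (m + 1)).map H.subtype = ⁅dser8 H m, dser8 H m⁆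
    rw [derivedSeries_succ, Subgroup.map_commutator, ih]

theorem dser8_map {G G' : Type*} [Group G] [Group G'] (f : G →* G') (H : Subgroup G) (m : ℕ) :
    dser8 (H.map f) m = (dser8 H m).map f := by
  induction m with
  | zero => rfl
  | succ m ih =>
    show ⁅dser8 (H.map f) m, dser8 (H.map f) m⁆ = (⁅dser8 H m, dser8 H m⁆).map f
    rw [Subgroup.map_commutator, ih]

theorem dser8_add {G : Type*} [Group G] (H : Subgroup G) (a b : ℕ) :
    dser8 H (a + b) = dser8 (dser8 H a) b := by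
  induction b with
  | zero => rfl
  | succ b ih =>
    show ⁅dser8 H (a + b), dser8 H (a + b)⁆ = ⁅dser8 (dser8 H a) b, dser8 (dser8 H a) b⁆
    rw [ih]

theorem dser8_le {G : Type*} [Group G] (H : Subgroup G) (m : ℕ) : dser8 H m ≤ H := by
  induction m with
  | zero => exact le_rfl
  | succ m ih =>
    show ⁅dser8 H m, dser8 H m⁆ ≤ H
    rw [Subgroup.commutator_le]
    intro a ha b hb
    rw [commutatorElement_def]
    exact H.mul_mem (H.mul_mem (H.mul_mem (ih ha) (ih hb)) (H.inv_mem (ih ha))) (H.inv_mem (ih hb))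

theorem dser8_antitone {G : Type*} [Group G] (H : Subgroup G) {a b : ℕ} (h : a ≤ b) :
    dser8 H b ≤ dser8 H a := by
  obtain ⟨c, rfl⟩ := Nat.exists_eq_add_of_le h
  rw [dser8_add]
  exact dser8_le _ _

theorem dser8_succ_eq_bot {G : Type*} [Group G] (H A : Subgroup G) (m : ℕ) (h : dser8 H m ≤ A)
    (hA : ∀ a ∈ A, ∀ b ∈ A, a * b = b * a) : dser8 H (m + 1) = ⊥ := by
  rw [eq_bot_iff]
  show ⁅dser8 H m, dser8 H m⁆ ≤ ⊥
  rw [Subgroup.commutator_le]
  intro a ha b hb
  rw [Subgroup.mem_bot, commutatorElement_eq_one_iff_mul_comm]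
  exact hA a (h ha) b (h hb)

theorem dser8_normal {G : Type*} [Group G] (H : Subgroup G) [hH : H.Normal] (m : ℕ) :
    (dser8 H m).Normal := by
  induction m with
  | zero => exact hH
  | succ m ih =>
    haveI := ih
    show (⁅dser8 H m, dser8 H m⁆).Normal
    infer_instance

/-- quotients of `p`-solvable groups are `p`-solvable -/
theorem psolv_quotient8 {G : Type*} [Group G] (p : ℕ) (hp : p.Prime) (N : Subgroup G) [N.Normal]
    (hG : Cfsg.IsPSolvable p G) : Cfsg.IsPSolvable p (G ⧸ N) := by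
  obtain ⟨n, H, h0, hlast, hmono, hnorm, hidx⟩ := hG
  refine ⟨n, fun i => (H i).map (QuotientGroup.mk' N), ?_, ?_, ?_, ?_, ?_⟩
  · show (H 0).map _ = ⊥
    rw [h0, Subgroup.map_bot]
  · show (H (Fin.last n)).map _ = ⊤
    rw [hlast]
    exact Subgroup.map_top_of_surjective _ (QuotientGroup.mk'_surjective _)
  · intro i j hij
    exact Subgroup.map_mono (hmono hij)
  · intro i
    haveI := hnorm i
    exact Subgroup.Normal.map inferInstance _ (QuotientGroup.mk'_surjective _)
  · intro i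
    have hdvd : ((H i.castSucc).map (QuotientGroup.mk' N)).relIndex
        ((H i.succ).map (QuotientGroup.mk' N)) ∣ (H i.castSucc).relIndex (H i.succ) := by
      rw [← Subgroup.relIndex_comap, Subgroup.comap_map_eq, QuotientGroup.ker_mk']
      exact Subgroup.relIndex_dvd_of_le_left _ le_sup_left
    rcases hidx i with ⟨m, hm⟩ | hc
    · left
      rw [hm] at hdvd
      obtain ⟨j, -, hj⟩ := (Nat.dvd_prime_pow hp).1 hdvd
      exact ⟨j, hj⟩
    · right
      exact Nat.Coprime.coprime_dvd_left hdvd hc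

/-- a `p`-solvable group with trivial `O_p` and `O_{p'}` is trivial -/
theorem psolv_cores8 {G : Type*} [Group G] [Finite G] (p : ℕ) [Fact p.Prime]
    (hG : Cfsg.IsPSolvable p G) (h1 : Cfsg.pCore p G = ⊥) (h2 : Cfsg.pPrimeCore p G = ⊥) :
    Subsingleton G := by
  obtain ⟨n, H, h0, hlast, hmono, hnorm, hidx⟩ := hG
  have key : ∀ i : Fin (n + 1), H i = ⊥ := by
    intro i
    induction i using Fin.induction with
    | zero => exact h0
    | succ i ih =>
      have hc : (H i.castSucc).relIndex (H i.succ) = Nat.card (H i.succ) := by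
        rw [ih, Subgroup.relIndex_bot_left]
      rcases hidx i with ⟨m, hm⟩ | hcop
      · rw [hc] at hm
        have h3 := le_pCore8 (hnorm i.succ) (IsPGroup.of_card hm)
        rw [h1] at h3
        exact le_bot_iff.1 h3
      · rw [hc] at hcop
        have h3 := Cfsg.Agent.Lib.Helper3.le_pPrimeCore (hnorm i.succ) hcop
        rw [h2] at h3
        exact le_bot_iff.1 h3
  have h3 : (⊥ : Subgroup G) = ⊤ := by rw [← hlast, key]
  exact Subgroup.subsingleton_iff.mp (subsingleton_of_bot_eq_top h3)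

/-- `O_p(G / O_p(G)) = 1` -/
theorem pCore_quotient_eq_bot8 {G : Type*} [Group G] (p : ℕ) [Fact p.Prime] (Q : Subgroup G)
    [Q.Normal] (hQ : Q = Cfsg.pCore p G) : Cfsg.pCore p (G ⧸ Q) = ⊥ := by
  rw [eq_bot_iff]
  refine sSup_le ?_
  rintro Nb ⟨hNbn, hNbp⟩
  have hNn : (Nb.comap (QuotientGroup.mk' Q)).Normal := hNbn.comap _
  have hNp : IsPGroup p (Nb.comap (QuotientGroup.mk' Q)) := by
    apply IsPGroup.comap_of_ker_isPGroup hNbp
    rw [QuotientGroup.ker_mk', hQ]
    exact pCore_isPGroup8 p G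
  have hle := le_pCore8 hNn hNp
  rw [← hQ] at hle
  intro x hx
  obtain ⟨g, rfl⟩ := QuotientGroup.mk'_surjective Q x
  rw [Subgroup.mem_bot]
  exact (QuotientGroup.eq_one_iff g).2 (hle hx)

theorem inflIrr_degree8 {G : Type*} [Group G] (N : Subgroup G) [N.Normal]
    (φ : Cfsg.IrrCharacter (G ⧸ N)) :
    Cfsg.charDegree ((inflIrr (QuotientGroup.mk' N) (QuotientGroup.mk'_surjective N) φ :
      Cfsg.IrrCharacter G) : G → ℂ) = Cfsg.charDegree (φ : G ⧸ N → ℂ) := by
  unfold Cfsg.charDegree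
  show ⌊((φ : G ⧸ N → ℂ) (QuotientGroup.mk' N 1)).re⌋₊ = _
  rw [map_one]

theorem inflIrr_const8 {G : Type*} [Group G] (N : Subgroup G) [N.Normal]
    (φ : Cfsg.IrrCharacter (G ⧸ N)) (a : G) (ha : a ∈ N) :
    ((inflIrr (QuotientGroup.mk' N) (QuotientGroup.mk'_surjective N) φ :
      Cfsg.IrrCharacter G) : G → ℂ) a =
    ((inflIrr (QuotientGroup.mk' N) (QuotientGroup.mk'_surjective N) φ :
      Cfsg.IrrCharacter G) : G → ℂ) 1 := by
  show (φ : G ⧸ N → ℂ) (QuotientGroup.mk' N a) = (φ : G ⧸ N → ℂ) (QuotientGroup.mk' N 1)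
  have h1 : QuotientGroup.mk' N a = 1 := (QuotientGroup.eq_one_iff a).2 ha
  rw [h1, map_one]

/-- the number of `p`-singular irreducible characters does not grow in quotients -/
theorem psing_count_le8 {G : Type u} [Group G] [Finite G] (p : ℕ) (N : Subgroup G) [N.Normal] :
    Nat.card {χ : Cfsg.IrrCharacter (G ⧸ N) // p ∣ Cfsg.charDegree (χ : G ⧸ N → ℂ)} ≤
      Nat.card {χ : Cfsg.IrrCharacter G // p ∣ Cfsg.charDegree (χ : G → ℂ)} := by
  apply Nat.card_le_card_of_injective
    (fun φ : {χ : Cfsg.IrrCharacter (G ⧸ N) // p ∣ Cfsg.charDegree (χ : G ⧸ N → ℂ)} =>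
      (⟨inflIrr (QuotientGroup.mk' N) (QuotientGroup.mk'_surjective N) φ.1, by
        rw [inflIrr_degree8]; exact φ.2⟩ :
        {χ : Cfsg.IrrCharacter G // p ∣ Cfsg.charDegree (χ : G → ℂ)}))
  intro φ₁ φ₂ h
  apply Subtype.ext
  exact inflIrr_injective (QuotientGroup.mk' N) (QuotientGroup.mk'_surjective N)
    (congrArg Subtype.val h)

/-- the number of `p`-singular irreducible characters drops in a quotient by a normal subgroup
not in the kernel of some `p`-singular character -/
theorem psing_count_lt8 {G : Type u} [Group G] [Finite G] (p : ℕ) (N : Subgroup G) [N.Normal]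
    (χ₀ : Cfsg.IrrCharacter G) (hχ₀ : p ∣ Cfsg.charDegree (χ₀ : G → ℂ)) (a : G) (ha : a ∈ N)
    (hne : (χ₀ : G → ℂ) a ≠ (χ₀ : G → ℂ) 1) :
    Nat.card {χ : Cfsg.IrrCharacter (G ⧸ N) // p ∣ Cfsg.charDegree (χ : G ⧸ N → ℂ)} + 1 ≤
      Nat.card {χ : Cfsg.IrrCharacter G // p ∣ Cfsg.charDegree (χ : G → ℂ)} := by
  haveI : Finite {χ : Cfsg.IrrCharacter (G ⧸ N) // p ∣ Cfsg.charDegree (χ : G ⧸ N → ℂ)} :=
    inferInstance
  rw [← Finite.card_option]
  apply Nat.card_le_card_of_injective
    (fun o : Option {χ : Cfsg.IrrCharacter (G ⧸ N) // p ∣ Cfsg.charDegree (χ : G ⧸ N → ℂ)} =>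
      (match o with
        | none => ⟨χ₀, hχ₀⟩
        | some φ => ⟨inflIrr (QuotientGroup.mk' N) (QuotientGroup.mk'_surjective N) φ.1, by
            rw [inflIrr_degree8]; exact φ.2⟩ :
        {χ : Cfsg.IrrCharacter G // p ∣ Cfsg.charDegree (χ : G → ℂ)}))
  intro o₁ o₂ h
  rcases o₁ with _ | φ₁ <;> rcases o₂ with _ | φ₂
  · rfl
  · exfalso
    have h1 : χ₀ = inflIrr (QuotientGroup.mk' N) (QuotientGroup.mk'_surjective N) φ₂.1 :=
      congrArg Subtype.val h
    apply hne
    rw [h1]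
    exact inflIrr_const8 N φ₂.1 a ha
  · exfalso
    have h1 : inflIrr (QuotientGroup.mk' N) (QuotientGroup.mk'_surjective N) φ₁.1 = χ₀ :=
      congrArg Subtype.val h
    apply hne
    rw [← h1]
    exact inflIrr_const8 N φ₁.1 a ha
  · have h1 : inflIrr (QuotientGroup.mk' N) (QuotientGroup.mk'_surjective N) φ₁.1 =
        inflIrr (QuotientGroup.mk' N) (QuotientGroup.mk'_surjective N) φ₂.1 :=
      congrArg Subtype.val h
    exact congrArg some (Subtype.ext (inflIrr_injective (QuotientGroup.mk' N)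
      (QuotientGroup.mk'_surjective N) h1))

end Cfsg.Agent.Lib.Helper8
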