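import Mathlib
import Cfsg.Prelude.Def_FusionSystem
import Cfsg.Prelude.Def_LocalEven
import Cfsg.Agent.Lib.Helper8.Fusion
import Cfsg.Agent.Lib.Helper8.FusionAut
import Cfsg.Agent.Lib.Helper8.FusionMisc
import Cfsg.Agent.Lib.Helper8.FusionSat
import Cfsg.Agent.Lib.Helper8.GroupFusion
import Cfsg.Agent.Lib.Helper8.PStab1

set_option autoImplicit false

namespace Cfsg.Agent.Lib.Helper8

open Cfsg Cfsg.FusionSystem

open scoped commutatorElement

/-- `x C ∈ O_p(N / C)` iff `ν x ∈ O_p(ν(N))`, for `C = ker ν` -/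
theorem pcore_quot_iff8 {N M : Type*} [Group N] [Group M] (p : ℕ) (ν : N →* M) (C : Subgroup N)
    [hCn : C.Normal] (hC : ∀ x : N, x ∈ C ↔ ν x = 1) (x : N) :
    (QuotientGroup.mk (s := C) x) ∈ pCore p (N ⧸ C) ↔
      ν x ∈ (pCore p ν.range).map ν.range.subtype := by
  constructor
  · intro h
    have hK : ((pCore p (N ⧸ C)).comap (QuotientGroup.mk' C)).map ν ≤
        (pCore p ν.range).map ν.range.subtype := by
      apply le_pcoreMap8
      · rintro _ ⟨y, -, rfl⟩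
        exact ⟨y, rfl⟩
      · rintro _ ⟨m, rfl⟩ _ ⟨y, hy, rfl⟩
        refine ⟨m * y * m⁻¹, ?_, by rw [map_mul, map_mul, map_inv]⟩
        have hy' : QuotientGroup.mk' C y ∈ pCore p (N ⧸ C) := Subgroup.mem_comap.1 hy
        have h2 := (pCore_normal8 p (N ⧸ C)).conj_mem _ hy' (QuotientGroup.mk' C m)
        rw [← map_inv, ← map_mul, ← map_mul] at h2
        exact Subgroup.mem_comap.2 h2
      · rintro ⟨_, y, hy, rfl⟩
        have hy' : QuotientGroup.mk' C y ∈ pCore p (N ⧸ C) := Subgroup.mem_comap.1 hy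
        obtain ⟨j, hj⟩ := pCore_isPGroup8 p (N ⧸ C) ⟨_, hy'⟩
        have h3 : (QuotientGroup.mk' C y) ^ (p ^ j) = 1 := congrArg Subtype.val hj
        rw [← map_pow] at h3
        have h4 : y ^ (p ^ j) ∈ C := (QuotientGroup.eq_one_iff _).1 h3
        refine ⟨j, Subtype.ext ?_⟩
        show (ν y) ^ (p ^ j) = 1
        rw [← map_pow]
        exact (hC _).1 h4
    exact hK ⟨x, Subgroup.mem_comap.2 h, rfl⟩
  · intro h
    obtain ⟨L, hL⟩ : ∃ L : Subgroup N,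
      L = ((pCore p ν.range).map ν.range.subtype).comap ν := ⟨_, rfl⟩
    have hLn : L.Normal := by
      refine ⟨fun n hn g => ?_⟩
      rw [hL] at hn ⊢
      rw [Subgroup.mem_comap, map_mul, map_mul, map_inv]
      exact pcoreMap_conj8 p ν.range (ν g) ⟨g, rfl⟩ (ν n) (Subgroup.mem_comap.1 hn)
    have hn2 : (L.map (QuotientGroup.mk' C)).Normal :=
      hLn.map (QuotientGroup.mk' C) (QuotientGroup.mk'_surjective C)
    have hp2 : IsPGroup p (L.map (QuotientGroup.mk' C)) := by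
      rintro ⟨_, y, hy, rfl⟩
      have hy' : ν y ∈ (pCore p ν.range).map ν.range.subtype := by
        rw [hL] at hy
        exact Subgroup.mem_comap.1 hy
      obtain ⟨j, hj⟩ := pcoreMap_isPGroup8 p ν.range ⟨_, hy'⟩
      have h3 : (ν y) ^ (p ^ j) = 1 := congrArg Subtype.val hj
      rw [← map_pow] at h3
      have h4 : y ^ (p ^ j) ∈ C := (hC _).2 h3
      refine ⟨j, Subtype.ext ?_⟩
      show (QuotientGroup.mk' C y) ^ (p ^ j) = 1
      rw [← map_pow]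
      exact (QuotientGroup.eq_one_iff _).2 h4
    have hx : x ∈ L := by
      rw [hL]
      exact Subgroup.mem_comap.2 h
    exact le_pCore8 hn2 hp2 ⟨x, hx, rfl⟩

theorem quad_fix8 {Q : Type*} [Group Q] (χ : MulAut Q)
    (hq : ∀ a : Q, (χ a⁻¹) * a * (χ a⁻¹) * (χ (χ a)) = 1) (a : Q) :
    χ (a⁻¹ * χ a) = a⁻¹ * χ a := by
  have h := hq a
  rw [map_inv] at h
  have h2 : χ (χ a) = ((χ a)⁻¹ * a * (χ a)⁻¹)⁻¹ := eq_inv_of_mul_eq_one_right h
  rw [map_mul, map_inv, h2]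
  group

theorem quad_congr8 {A B : Type*} [Group A] [Group B] (e : A ≃* B) (χ : MulAut A)
    (hq : ∀ a : A, (χ a⁻¹) * a * (χ a⁻¹) * (χ (χ a)) = 1) (a : B) :
    ((MulAut.congr e) χ a⁻¹) * a * ((MulAut.congr e) χ a⁻¹) *
      ((MulAut.congr e) χ ((MulAut.congr e) χ a)) = 1 := by
  have h := congrArg e (hq (e.symm a))
  rw [map_mul, map_mul, map_mul, map_one, e.apply_symm_apply] at h
  have e1 : (MulAut.congr e) χ a⁻¹ = e (χ (e.symm a)⁻¹) := by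
    show e (χ (e.symm a⁻¹)) = _
    rw [map_inv]
  have e2 : (MulAut.congr e) χ ((MulAut.congr e) χ a) = e (χ (χ (e.symm a))) := by
    show e (χ (e.symm (e (χ (e.symm a))))) = _
    rw [e.symm_apply_apply]
  rw [e1, e2]
  exact h

variable {G : Type*} [Group G]

theorem nmh_ker8 (Q : Subgroup G) (x : Subgroup.normalizer (Q : Set G)) :
    x ∈ (Subgroup.centralizer (Q : Set G)).subgroupOf (Subgroup.normalizer (Q : Set G)) ↔
      Q.normalizerMonoidHom x = 1 := by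
  rw [← Subgroup.normalizerMonoidHom_ker]
  exact MonoidHom.mem_ker

theorem gfs_autGroup_range8 {S Q : Subgroup G} (hQ : Q ≤ S) :
    (groupFusionSystem S).autGroup Q = (Q.normalizerMonoidHom).range := by
  ext α
  rw [mem_autGroup_iff (groupFusionSystem S) hQ α]
  constructor
  · rintro ⟨-, -, g, hg⟩
    have hg' : ∀ x : Q, ((α x : Q) : G) = g * x * g⁻¹ := hg
    have hgn : g ∈ Subgroup.normalizer (Q : Set G) := by
      rw [Subgroup.mem_normalizer_iff]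
      intro h
      constructor
      · intro hh
        have e := hg' ⟨h, hh⟩
        have e2 : g * h * g⁻¹ = ((α ⟨h, hh⟩ : Q) : G) := e.symm
        rw [e2]
        exact (α ⟨h, hh⟩).2
      · intro hh
        have e := hg' (α.symm ⟨_, hh⟩)
        rw [MulEquiv.apply_symm_apply] at e
        have e2 : h = ((α.symm ⟨_, hh⟩ : Q) : G) :=
          mul_left_cancel (mul_right_cancel e)
        rw [e2]
        exact (α.symm ⟨_, hh⟩).2
    refine ⟨⟨g, hgn⟩, ?_⟩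
    refine MulEquiv.ext (fun x => Subtype.ext ?_)
    exact (hg' x).symm
  · rintro ⟨n, rfl⟩
    exact ⟨hQ, fun x => hQ ((Q.normalizerMonoidHom n) x).2, n, fun x => rfl⟩

theorem quad_of_comm8 (Q : Subgroup G) (g : G) (hg : g ∈ Subgroup.normalizer (Q : Set G))
    (h : ⁅⁅Q, Subgroup.zpowers g⁆, Subgroup.zpowers g⁆ = ⊥) (a : Q) :
    (Q.normalizerMonoidHom ⟨g, hg⟩ a⁻¹) * a * (Q.normalizerMonoidHom ⟨g, hg⟩ a⁻¹) *
      (Q.normalizerMonoidHom ⟨g, hg⟩ (Q.normalizerMonoidHom ⟨g, hg⟩ a)) = 1 := by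
  have h1 : ⁅⁅(a : G), g⁆, g⁆ = 1 := by
    have h2 : ⁅⁅(a : G), g⁆, g⁆ ∈ ⁅⁅Q, Subgroup.zpowers g⁆, Subgroup.zpowers g⁆ :=
      Subgroup.commutator_mem_commutator
        (Subgroup.commutator_mem_commutator a.2 (Subgroup.mem_zpowers g)) (Subgroup.mem_zpowers g)
    rw [h] at h2
    exact Subgroup.mem_bot.1 h2
  apply Subtype.ext
  show (g * (a : G)⁻¹ * g⁻¹) * a * (g * (a : G)⁻¹ * g⁻¹) * (g * (g * a * g⁻¹) * g⁻¹) = 1
  have hT : (g * (a : G)⁻¹ * g⁻¹) * a * (g * (a : G)⁻¹ * g⁻¹) * (g * (g * a * g⁻¹) * g⁻¹) =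
      (g * (a : G)⁻¹ * g⁻¹) * ⁅⁅(a : G), g⁆, g⁆ * (g * a * g⁻¹) := by
    simp only [commutatorElement_def]
    group
  rw [hT, h1]
  group

theorem quad_conj_pow8 (Q : Subgroup G) (g : G) (hg : g ∈ Subgroup.normalizer (Q : Set G))
    (hq : ∀ a : Q, (Q.normalizerMonoidHom ⟨g, hg⟩ a⁻¹) * a * (Q.normalizerMonoidHom ⟨g, hg⟩ a⁻¹) *
      (Q.normalizerMonoidHom ⟨g, hg⟩ (Q.normalizerMonoidHom ⟨g, hg⟩ a)) = 1)
    (n : ℕ) (a : G) (ha : a ∈ Q) :
    g ^ n * a * (g ^ n)⁻¹ = a * (a⁻¹ * (g * a * g⁻¹)) ^ n := by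
  have h := quad_pow8 (Q.normalizerMonoidHom ⟨g, hg⟩) hq n ⟨a, ha⟩
  rw [← map_pow] at h
  exact congrArg Subtype.val h

theorem comm_of_quad8 [Finite G] (Q : Subgroup G) (g : G)
    (hg : g ∈ Subgroup.normalizer (Q : Set G))
    (hq : ∀ a : Q, (Q.normalizerMonoidHom ⟨g, hg⟩ a⁻¹) * a * (Q.normalizerMonoidHom ⟨g, hg⟩ a⁻¹) *
      (Q.normalizerMonoidHom ⟨g, hg⟩ (Q.normalizerMonoidHom ⟨g, hg⟩ a)) = 1) :
    ⁅⁅Q, Subgroup.zpowers g⁆, Subgroup.zpowers g⁆ = ⊥ := by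
  rw [Subgroup.commutator_eq_bot_iff_le_centralizer, Subgroup.commutator_le]
  intro a ha z hz
  obtain ⟨n, rfl⟩ : ∃ n : ℕ, g ^ n = z :=
    (Submonoid.mem_powers_iff _ _).1 ((mem_powers_iff_mem_zpowers).2 hz)
  have hfix := quad_fix8 (Q.normalizerMonoidHom ⟨g, hg⟩) hq (⟨a, ha⟩⁻¹ : Q)
  have hfix' : g * (a⁻¹⁻¹ * (g * a⁻¹ * g⁻¹)) * g⁻¹ = a⁻¹⁻¹ * (g * a⁻¹ * g⁻¹) :=
    congrArg Subtype.val hfix
  have hpow := quad_conj_pow8 Q g hg hq n a⁻¹ (Q.inv_mem ha)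
  have hw : ⁅a, g ^ n⁆ = (a⁻¹⁻¹ * (g * a⁻¹ * g⁻¹)) ^ n := by
    rw [commutatorElement_def]
    have e : a * g ^ n * a⁻¹ * (g ^ n)⁻¹ = a * (g ^ n * a⁻¹ * (g ^ n)⁻¹) := by group
    rw [e, hpow, mul_inv_cancel_left]
  have hc : Commute g (a⁻¹⁻¹ * (g * a⁻¹ * g⁻¹)) := mul_inv_eq_iff_eq_mul.1 hfix'
  rw [hw, Subgroup.mem_centralizer_iff]
  intro h hh
  obtain ⟨k, rfl⟩ := Subgroup.mem_zpowers_iff.1 hh
  exact ((hc.pow_right n).zpow_left k).eq

theorem conj_normalizer8 (Q Q' : Subgroup G) (t : G) (hmem : ∀ y : G, y ∈ Q' ↔ t⁻¹ * y * t ∈ Q)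
    (n : G) (hn : n ∈ Subgroup.normalizer (Q : Set G)) :
    t * n * t⁻¹ ∈ Subgroup.normalizer (Q' : Set G) := by
  rw [Subgroup.mem_normalizer_iff] at hn ⊢
  intro h
  have e : t⁻¹ * (t * n * t⁻¹ * h * (t * n * t⁻¹)⁻¹) * t = n * (t⁻¹ * h * t) * n⁻¹ := by group
  constructor
  · intro hh
    apply (hmem _).2
    rw [e]
    exact (hn _).1 ((hmem h).1 hh)
  · intro hh
    have h2 := (hmem _).1 hh
    rw [e] at h2
    exact (hmem h).2 ((hn _).2 h2)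

theorem npstab_fwd8 [Finite G] {p : ℕ} [Fact p.Prime] (P : Sylow p G)
    (hG : IsNormalizerPStable p G) (Q : Subgroup G) (hQ : Q ≤ (P : Subgroup G)) (χ : MulAut Q)
    (hχ : χ ∈ (groupFusionSystem (P : Subgroup G)).autGroup Q)
    (hq : ∀ a : Q, (χ a⁻¹) * a * (χ a⁻¹) * (χ (χ a)) = 1) :
    χ ∈ (pCore p ((groupFusionSystem (P : Subgroup G)).autGroup Q)).map
      ((groupFusionSystem (P : Subgroup G)).autGroup Q).subtype := by
  rw [gfs_autGroup_range8 hQ] at hχ ⊢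
  obtain ⟨⟨g, hg⟩, rfl⟩ := hχ
  have hQp : IsPGroup p Q := P.2.to_le hQ
  have h1 := hG Q hQp g hg (comm_of_quad8 Q g hg hq)
  exact (pcore_quot_iff8 p Q.normalizerMonoidHom _ (nmh_ker8 Q) ⟨g, hg⟩).1 h1

theorem npstab_bwd8 [Finite G] {p : ℕ} [Fact p.Prime] (P : Sylow p G)
    (hF : ∀ Q : Subgroup G, (groupFusionSystem (P : Subgroup G)).IsFullyNormalized Q →
      ∀ χ : MulAut ↥Q, χ ∈ (groupFusionSystem (P : Subgroup G)).autGroup Q →
      (∀ a : ↥Q, (χ a⁻¹) * a * (χ a⁻¹) * (χ (χ a)) = 1) →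
      χ ∈ ((pCore p ↥((groupFusionSystem (P : Subgroup G)).autGroup Q)).map
        ((groupFusionSystem (P : Subgroup G)).autGroup Q).subtype : Subgroup (MulAut ↥Q))) :
    IsNormalizerPStable p G := by
  intro Q hQp g hg hcomm
  obtain ⟨t₁, ht₁⟩ := exists_conjSub_le_sylow P hQp
  obtain ⟨Q', hc, hQ'⟩ := exists_fullyNormalized_conj (groupFusionSystem (P : Subgroup G)) ht₁
  obtain ⟨-, t₂, ht₂⟩ := (gfs_isConj_iff ht₁).1 hc
  have hQ'S : Q' ≤ (P : Subgroup G) := hQ'.1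
  obtain ⟨t, hmem⟩ : ∃ t : G, ∀ y : G, y ∈ Q' ↔ t⁻¹ * y * t ∈ Q := by
    refine ⟨t₂ * t₁, fun y => ?_⟩
    rw [← ht₂, mem_conjSub, mem_conjSub]
    have e : t₁⁻¹ * (t₂⁻¹ * y * t₂) * t₁ = (t₂ * t₁)⁻¹ * y * (t₂ * t₁) := by group
    rw [e]
  have hmem' : ∀ y : G, y ∈ Q ↔ t⁻¹⁻¹ * y * t⁻¹ ∈ Q' := by
    intro y
    rw [hmem]
    have e : t⁻¹ * (t⁻¹⁻¹ * y * t⁻¹) * t = y := by group
    rw [e]
  have hr : (conjHom Q t).range = Q' := by
    ext y
    rw [hmem]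
    constructor
    · rintro ⟨x, rfl⟩
      have e : t⁻¹ * (conjHom Q t x) * t = x := by
        show t⁻¹ * (t * x * t⁻¹) * t = x
        group
      rw [e]
      exact x.2
    · intro hy
      refine ⟨⟨_, hy⟩, ?_⟩
      show t * (t⁻¹ * y * t) * t⁻¹ = y
      group
  have hinj : Function.Injective (conjHom Q t) :=
    (MulAut.conj t).injective.comp Q.subtype_injective
  obtain ⟨e, he⟩ : ∃ e : Q ≃* Q', ∀ x : Q, ((e x : Q') : G) = t * x * t⁻¹ :=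
    ⟨fsEquiv (conjHom Q t) hinj hr, fun x => rfl⟩
  have hes : ∀ y : Q', ((e.symm y : Q) : G) = t⁻¹ * y * t := by
    intro y
    have h := he (e.symm y)
    rw [e.apply_symm_apply] at h
    rw [h]
    group
  have hA : ∀ α : MulAut Q, α ∈ (Q.normalizerMonoidHom).range ↔
      (MulAut.congr e) α ∈ (Q'.normalizerMonoidHom).range := by
    intro α
    constructor
    · rintro ⟨n, rfl⟩
      refine ⟨⟨t * n * t⁻¹, conj_normalizer8 Q Q' t hmem n n.2⟩, ?_⟩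
      refine MulEquiv.ext (fun y => Subtype.ext ?_)
      show t * (n : G) * t⁻¹ * y * (t * (n : G) * t⁻¹)⁻¹ =
        ((e (Q.normalizerMonoidHom n (e.symm y)) : Q') : G)
      rw [he]
      show _ = t * ((n : G) * (e.symm y : Q) * (n : G)⁻¹) * t⁻¹
      rw [hes]
      group
    · rintro ⟨m, hm⟩
      refine ⟨⟨t⁻¹ * m * t⁻¹⁻¹, conj_normalizer8 Q' Q t⁻¹ hmem' m m.2⟩, ?_⟩
      refine MulEquiv.ext (fun x => Subtype.ext ?_)
      have h1 : (m : G) * ((e x : Q') : G) * (m : G)⁻¹ = ((e (α (e.symm (e x))) : Q') : G) :=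
        congrArg (fun β : MulAut Q' => ((β (e x) : Q') : G)) hm
      rw [e.symm_apply_apply, he, he] at h1
      show t⁻¹ * (m : G) * t⁻¹⁻¹ * x * (t⁻¹ * (m : G) * t⁻¹⁻¹)⁻¹ = ((α x : Q) : G)
      have h3 : ((α x : Q) : G) = t⁻¹ * (t * ((α x : Q) : G) * t⁻¹) * t := by group
      rw [h3, ← h1]
      group
  have hquad := quad_of_comm8 Q g hg hcomm
  have hquad' := quad_congr8 e (Q.normalizerMonoidHom ⟨g, hg⟩) hquad
  have hmemA' : (MulAut.congr e) (Q.normalizerMonoidHom ⟨g, hg⟩) ∈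
      (groupFusionSystem (P : Subgroup G)).autGroup Q' := by
    rw [gfs_autGroup_range8 hQ'S]
    exact (hA _).1 ⟨_, rfl⟩
  have h3 := hF Q' hQ' _ hmemA' hquad'
  rw [gfs_autGroup_range8 hQ'S] at h3
  have h4 := pcoreMap_transport8 p (MulAut.congr e) (Q.normalizerMonoidHom).range
    (Q'.normalizerMonoidHom).range hA _ h3
  exact (pcore_quot_iff8 p Q.normalizerMonoidHom _ (nmh_ker8 Q) ⟨g, hg⟩).2 h4

theorem npstab_main8 [Finite G] {p : ℕ} [Fact p.Prime] (P : Sylow p G) :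
    IsNormalizerPStable p G ↔
    (∀ Q : Subgroup G, (groupFusionSystem (P : Subgroup G)).IsFullyNormalized Q →
      ∀ χ : MulAut ↥Q, χ ∈ (groupFusionSystem (P : Subgroup G)).autGroup Q →
      (∀ a : ↥Q, (χ a⁻¹) * a * (χ a⁻¹) * (χ (χ a)) = 1) →
      χ ∈ ((pCore p ↥((groupFusionSystem (P : Subgroup G)).autGroup Q)).map
        ((groupFusionSystem (P : Subgroup G)).autGroup Q).subtype : Subgroup (MulAut ↥Q))) := by
  constructor
  · intro hG Q hQ χ hχ hq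
    exact npstab_fwd8 P hG Q hQ.1 χ hχ hq
  · exact npstab_bwd8 P

end Cfsg.Agent.Lib.Helper8
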