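import Mathlib
import Cfsg.Prelude
import Cfsg.Agent.Lib.Helper5.ParaChar5
import Cfsg.Agent.Lib.Helper4.SLCard

set_option autoImplicit false
set_option maxHeartbeats 800000

namespace Cfsg.Agent.Lib.Helper8

/-- `n × n` matrices over `F`. -/
abbrev MN8 (n : ℕ) (F : Type*) := Matrix (Fin n) (Fin n) F
/-- `SL_n(F)`. -/
abbrev LN8 (n : ℕ) (F : Type*) [CommRing F] := Matrix.SpecialLinearGroup (Fin n) F

/-- The matrix unit `E_{ab}`. -/
def eN8 (F : Type*) [Field F] {n : ℕ} (a b : Fin n) : MN8 n F := Matrix.single a b 1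

theorem eN8_mul_same {F : Type*} [Field F] {n : ℕ} (a b c : Fin n) :
    eN8 F a b * eN8 F b c = eN8 F a c := by
  unfold eN8
  rw [Matrix.single_mul_single_same, mul_one]

theorem eN8_mul_ne {F : Type*} [Field F] {n : ℕ} (a b c d : Fin n) (h : b ≠ c) :
    eN8 F a b * eN8 F c d = 0 := by
  unfold eN8
  exact Matrix.single_mul_single_of_ne (1 : F) a b c h 1

/-- The subgroup of `SL_n(F)` of matrices `g` with `P g = P` and `g E = E`. -/
def stabN8 {F : Type*} [Field F] {n : ℕ} (P E : MN8 n F) : Subgroup (LN8 n F) where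
  carrier := {g | P * (g : MN8 n F) = P ∧ (g : MN8 n F) * E = E}
  mul_mem' := by
    intro a b ha hb
    obtain ⟨ha1, ha2⟩ := ha
    obtain ⟨hb1, hb2⟩ := hb
    refine ⟨?_, ?_⟩
    · rw [Matrix.SpecialLinearGroup.coe_mul, ← Matrix.mul_assoc, ha1, hb1]
    · rw [Matrix.SpecialLinearGroup.coe_mul, Matrix.mul_assoc, hb2, ha2]
  one_mem' := by
    refine ⟨?_, ?_⟩
    · rw [Matrix.SpecialLinearGroup.coe_one, Matrix.mul_one]
    · rw [Matrix.SpecialLinearGroup.coe_one, Matrix.one_mul]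
  inv_mem' := by
    intro a ha
    obtain ⟨ha1, ha2⟩ := ha
    have h1 : (a : MN8 n F) * ((a⁻¹ : LN8 n F) : MN8 n F) = 1 := by
      rw [← Matrix.SpecialLinearGroup.coe_mul, mul_inv_cancel, Matrix.SpecialLinearGroup.coe_one]
    have h2 : ((a⁻¹ : LN8 n F) : MN8 n F) * (a : MN8 n F) = 1 := by
      rw [← Matrix.SpecialLinearGroup.coe_mul, inv_mul_cancel, Matrix.SpecialLinearGroup.coe_one]
    refine ⟨?_, ?_⟩
    · calc P * ((a⁻¹ : LN8 n F) : MN8 n F)
          = (P * (a : MN8 n F)) * ((a⁻¹ : LN8 n F) : MN8 n F) := by rw [ha1]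
        _ = P := by rw [Matrix.mul_assoc, h1, Matrix.mul_one]
    · calc ((a⁻¹ : LN8 n F) : MN8 n F) * E
          = ((a⁻¹ : LN8 n F) : MN8 n F) * ((a : MN8 n F) * E) := by rw [ha2]
        _ = E := by rw [← Matrix.mul_assoc, h2, Matrix.one_mul]

theorem mem_stabN8 {F : Type*} [Field F] {n : ℕ} {P E : MN8 n F} {g : LN8 n F} :
    g ∈ stabN8 P E ↔ P * (g : MN8 n F) = P ∧ (g : MN8 n F) * E = E := Iff.rfl

theorem stabN8_sq {F : Type*} [Field F] {n : ℕ} (h2 : ∀ a : F, a + a = 0) {P E : MN8 n F}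
    (hPE : P + E = 1) {g : LN8 n F} (hg : g ∈ stabN8 P E) : g * g = 1 := by
  obtain ⟨h1, h2'⟩ := hg
  apply Subtype.ext
  show ((g * g : LN8 n F) : MN8 n F) = ((1 : LN8 n F) : MN8 n F)
  rw [Matrix.SpecialLinearGroup.coe_mul, Matrix.SpecialLinearGroup.coe_one]
  obtain ⟨m, hm⟩ : ∃ m : MN8 n F, m = (g : MN8 n F) - 1 := ⟨_, rfl⟩
  have hg' : (g : MN8 n F) = 1 + m := by rw [hm]; abel
  have hPn : P * m = 0 := by rw [hm, Matrix.mul_sub, h1, Matrix.mul_one, sub_self]
  have hnE : m * E = 0 := by rw [hm, Matrix.sub_mul, h2', Matrix.one_mul, sub_self]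
  have hnn : m * m = 0 := by
    have hEn : (P + E) * m = E * m := by rw [Matrix.add_mul, hPn, zero_add]
    rw [hPE, Matrix.one_mul] at hEn
    calc m * m = m * (E * m) := by rw [← hEn]
      _ = 0 := by rw [← Matrix.mul_assoc, hnE, Matrix.zero_mul]
  have h2n : m + m = 0 := by
    ext i j
    rw [Matrix.add_apply, Matrix.zero_apply]
    exact h2 _
  rw [hg']
  calc (1 + m) * (1 + m) = 1 + (m + m) + m * m := by noncomm_ring
    _ = 1 := by rw [h2n, hnn, add_zero, add_zero]

theorem stabN8_conj {F : Type*} [Field F] {n : ℕ} {P E : MN8 n F} (hPE : P + E = 1)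
    {c c' g : LN8 n F}
    (hcc : c * c' = 1) (h1 : P * (c : MN8 n F) * E = 0) (h2 : P * (c' : MN8 n F) * E = 0)
    (hg : g ∈ stabN8 P E) : c * g * c' ∈ stabN8 P E := by
  obtain ⟨hg1, hg2⟩ := hg
  have hcc' : (c : MN8 n F) * (c' : MN8 n F) = 1 := by
    rw [← Matrix.SpecialLinearGroup.coe_mul, hcc, Matrix.SpecialLinearGroup.coe_one]
  have hPc : P * (c : MN8 n F) * P = P * (c : MN8 n F) := by
    calc P * (c : MN8 n F) * P = P * (c : MN8 n F) * P + P * (c : MN8 n F) * E := by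
          rw [h1, add_zero]
      _ = P * (c : MN8 n F) * (P + E) := by rw [Matrix.mul_add]
      _ = P * (c : MN8 n F) := by rw [hPE, Matrix.mul_one]
  have hcE : E * ((c' : MN8 n F) * E) = (c' : MN8 n F) * E := by
    calc E * ((c' : MN8 n F) * E) = P * (c' : MN8 n F) * E + E * ((c' : MN8 n F) * E) := by
          rw [h2, zero_add]
      _ = (P + E) * ((c' : MN8 n F) * E) := by rw [Matrix.add_mul, Matrix.mul_assoc]
      _ = (c' : MN8 n F) * E := by rw [hPE, Matrix.one_mul]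
  refine ⟨?_, ?_⟩
  · rw [Matrix.SpecialLinearGroup.coe_mul, Matrix.SpecialLinearGroup.coe_mul]
    calc P * ((c : MN8 n F) * (g : MN8 n F) * (c' : MN8 n F))
        = (P * (c : MN8 n F)) * (g : MN8 n F) * (c' : MN8 n F) := by simp only [Matrix.mul_assoc]
      _ = (P * (c : MN8 n F) * P) * (g : MN8 n F) * (c' : MN8 n F) := by rw [hPc]
      _ = P * (c : MN8 n F) * (P * (g : MN8 n F)) * (c' : MN8 n F) := by
          simp only [Matrix.mul_assoc]
      _ = P * (c : MN8 n F) * P * (c' : MN8 n F) := by rw [hg1]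
      _ = P * (c : MN8 n F) * (c' : MN8 n F) := by rw [hPc]
      _ = P := by rw [Matrix.mul_assoc, hcc', Matrix.mul_one]
  · rw [Matrix.SpecialLinearGroup.coe_mul, Matrix.SpecialLinearGroup.coe_mul]
    calc (c : MN8 n F) * (g : MN8 n F) * (c' : MN8 n F) * E
        = (c : MN8 n F) * (g : MN8 n F) * ((c' : MN8 n F) * E) := by simp only [Matrix.mul_assoc]
      _ = (c : MN8 n F) * (g : MN8 n F) * (E * ((c' : MN8 n F) * E)) := by rw [hcE]
      _ = (c : MN8 n F) * ((g : MN8 n F) * E) * ((c' : MN8 n F) * E) := by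
          simp only [Matrix.mul_assoc]
      _ = (c : MN8 n F) * E * ((c' : MN8 n F) * E) := by rw [hg2]
      _ = (c : MN8 n F) * (E * ((c' : MN8 n F) * E)) := by simp only [Matrix.mul_assoc]
      _ = (c : MN8 n F) * ((c' : MN8 n F) * E) := by rw [hcE]
      _ = E := by rw [← Matrix.mul_assoc, hcc', Matrix.one_mul]

theorem mem_cent_tN8 {F : Type*} [Field F] {n : ℕ} (i j : Fin n) (t : LN8 n F)
    (ht : (t : MN8 n F) = Matrix.transvection i j 1) (c : LN8 n F) :
    c ∈ Subgroup.centralizer ({t} : Set (LN8 n F)) ↔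
      (c : MN8 n F) * eN8 F i j = eN8 F i j * (c : MN8 n F) := by
  have ht' : (t : MN8 n F) = 1 + eN8 F i j := by rw [ht]; rfl
  rw [Subgroup.mem_centralizer_iff]
  constructor
  · intro h
    have h1 : ((t * c : LN8 n F) : MN8 n F) = ((c * t : LN8 n F) : MN8 n F) := by rw [h t rfl]
    rw [Matrix.SpecialLinearGroup.coe_mul, Matrix.SpecialLinearGroup.coe_mul, ht',
      Matrix.add_mul, Matrix.mul_add, Matrix.one_mul, Matrix.mul_one] at h1
    exact (add_left_cancel h1).symm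
  · intro h m hm
    rw [Set.mem_singleton_iff] at hm
    rw [hm]
    apply Subtype.ext
    show ((t * c : LN8 n F) : MN8 n F) = ((c * t : LN8 n F) : MN8 n F)
    rw [Matrix.SpecialLinearGroup.coe_mul, Matrix.SpecialLinearGroup.coe_mul, ht',
      Matrix.add_mul, Matrix.mul_add, Matrix.one_mul, Matrix.mul_one, h]

theorem stabN8_normal_pgroup {F : Type*} [Field F] {n : ℕ} (h2 : ∀ a : F, a + a = 0)
    (i j : Fin n) (t : LN8 n F) (ht : (t : MN8 n F) = Matrix.transvection i j 1)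
    (P E : MN8 n F) (hPE : P + E = 1) (hE1 : E * eN8 F i j = eN8 F i j)
    (hP1 : eN8 F i j * P = eN8 F i j)
    (hK : ∀ c : MN8 n F, c * eN8 F i j = eN8 F i j * c → P * c * E = 0) :
    stabN8 P E ≤ Subgroup.centralizer ({t} : Set (LN8 n F)) ∧
    ((stabN8 P E).subgroupOf (Subgroup.centralizer ({t} : Set (LN8 n F)))).Normal ∧
    IsPGroup 2 ((stabN8 P E).subgroupOf (Subgroup.centralizer ({t} : Set (LN8 n F)))) := by
  refine ⟨?_, ?_, ?_⟩
  · intro g hg
    obtain ⟨hg1, hg2⟩ := hg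
    rw [mem_cent_tN8 i j t ht]
    calc (g : MN8 n F) * eN8 F i j = (g : MN8 n F) * (E * eN8 F i j) := by rw [hE1]
      _ = ((g : MN8 n F) * E) * eN8 F i j := by rw [Matrix.mul_assoc]
      _ = E * eN8 F i j := by rw [hg2]
      _ = eN8 F i j := hE1
      _ = eN8 F i j * P := hP1.symm
      _ = eN8 F i j * (P * (g : MN8 n F)) := by rw [hg1]
      _ = (eN8 F i j * P) * (g : MN8 n F) := by rw [Matrix.mul_assoc]
      _ = eN8 F i j * (g : MN8 n F) := by rw [hP1]
  · refine ⟨fun m hm c => ?_⟩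
    rw [Subgroup.mem_subgroupOf] at hm ⊢
    have hc1 := (mem_cent_tN8 i j t ht c.1).mp c.2
    have hc2 := (mem_cent_tN8 i j t ht (c.1)⁻¹).mp (inv_mem c.2)
    exact stabN8_conj hPE (mul_inv_cancel c.1) (hK _ hc1) (hK _ hc2) hm
  · intro m
    refine ⟨1, ?_⟩
    have h := stabN8_sq h2 hPE (Subgroup.mem_subgroupOf.mp m.2)
    apply Subtype.ext
    apply Subtype.ext
    rw [pow_one, pow_two]
    exact h

/-- The transvection `1 + E_{ab}` in `SL_n(F)`. -/
def tvN8 (F : Type*) [Field F] {n : ℕ} (a b : Fin n) (h : a ≠ b) : LN8 n F :=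
  ⟨Matrix.transvection a b 1, Matrix.det_transvection_of_ne a b h 1⟩

theorem tvN8_coe {F : Type*} [Field F] {n : ℕ} (a b : Fin n) (h : a ≠ b) :
    ((tvN8 F a b h : LN8 n F) : MN8 n F) = 1 + eN8 F a b := rfl

theorem tvN8_comm {F : Type*} [Field F] {n : ℕ} {a b : Fin n} (h : a ≠ b) {x : LN8 n F}
    (hx : tvN8 F a b h * x = x * tvN8 F a b h) :
    (x : MN8 n F) * eN8 F a b = eN8 F a b * (x : MN8 n F) := by
  have h1 : ((tvN8 F a b h * x : LN8 n F) : MN8 n F) = ((x * tvN8 F a b h : LN8 n F) : MN8 n F) := by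
    rw [hx]
  rw [Matrix.SpecialLinearGroup.coe_mul, Matrix.SpecialLinearGroup.coe_mul, tvN8_coe,
    Matrix.add_mul, Matrix.mul_add, Matrix.one_mul, Matrix.mul_one] at h1
  exact (add_left_cancel h1).symm

theorem dataAN8 {F : Type*} [Field F] {n : ℕ} (i j : Fin n) (hij : i ≠ j) :
    ((1 : MN8 n F) - eN8 F i i) + eN8 F i i = 1 ∧ eN8 F i i * eN8 F i j = eN8 F i j ∧
    eN8 F i j * ((1 : MN8 n F) - eN8 F i i) = eN8 F i j ∧
    (∀ c : MN8 n F, c * eN8 F i j = eN8 F i j * c →
      ((1 : MN8 n F) - eN8 F i i) * c * eN8 F i i = 0) ∧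
    (∀ (k : Fin n) (hk : i ≠ k),
      tvN8 F i k hk ∈ stabN8 ((1 : MN8 n F) - eN8 F i i) (eN8 F i i)) := by
  refine ⟨sub_add_cancel _ _, eN8_mul_same i i j, ?_, ?_, ?_⟩
  · rw [Matrix.mul_sub, Matrix.mul_one, eN8_mul_ne i j i i hij.symm, sub_zero]
  · intro c hc
    calc ((1 : MN8 n F) - eN8 F i i) * c * eN8 F i i
        = ((1 : MN8 n F) - eN8 F i i) * c * (eN8 F i j * eN8 F j i) := by rw [eN8_mul_same]
      _ = ((1 : MN8 n F) - eN8 F i i) * (c * eN8 F i j) * eN8 F j i := by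
          simp only [Matrix.mul_assoc]
      _ = ((1 : MN8 n F) - eN8 F i i) * (eN8 F i j * c) * eN8 F j i := by rw [hc]
      _ = (((1 : MN8 n F) - eN8 F i i) * eN8 F i j) * c * eN8 F j i := by
          simp only [Matrix.mul_assoc]
      _ = 0 := by
          rw [Matrix.sub_mul, Matrix.one_mul, eN8_mul_same, sub_self, Matrix.zero_mul,
            Matrix.zero_mul]
  · intro k hk
    rw [mem_stabN8, tvN8_coe]
    refine ⟨?_, ?_⟩
    · rw [Matrix.sub_mul, Matrix.one_mul, Matrix.mul_add, Matrix.mul_one, eN8_mul_same]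
      abel
    · rw [Matrix.add_mul, Matrix.one_mul, eN8_mul_ne i k i i hk.symm, add_zero]

theorem dataBN8 {F : Type*} [Field F] {n : ℕ} (i j : Fin n) (hij : i ≠ j) :
    eN8 F j j + ((1 : MN8 n F) - eN8 F j j) = 1 ∧
    ((1 : MN8 n F) - eN8 F j j) * eN8 F i j = eN8 F i j ∧
    eN8 F i j * eN8 F j j = eN8 F i j ∧
    (∀ c : MN8 n F, c * eN8 F i j = eN8 F i j * c →
      eN8 F j j * c * ((1 : MN8 n F) - eN8 F j j) = 0) ∧
    (∀ (k : Fin n) (hk : k ≠ j),
      tvN8 F k j hk ∈ stabN8 (eN8 F j j) ((1 : MN8 n F) - eN8 F j j)) := by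
  refine ⟨add_sub_cancel _ _, ?_, eN8_mul_same i j j, ?_, ?_⟩
  · rw [Matrix.sub_mul, Matrix.one_mul, eN8_mul_ne j j i j hij.symm, sub_zero]
  · intro c hc
    calc eN8 F j j * c * ((1 : MN8 n F) - eN8 F j j)
        = (eN8 F j i * eN8 F i j) * c * ((1 : MN8 n F) - eN8 F j j) := by rw [eN8_mul_same]
      _ = eN8 F j i * (eN8 F i j * c) * ((1 : MN8 n F) - eN8 F j j) := by
          simp only [Matrix.mul_assoc]
      _ = eN8 F j i * (c * eN8 F i j) * ((1 : MN8 n F) - eN8 F j j) := by rw [hc]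
      _ = eN8 F j i * c * (eN8 F i j * ((1 : MN8 n F) - eN8 F j j)) := by
          simp only [Matrix.mul_assoc]
      _ = 0 := by
          rw [Matrix.mul_sub, Matrix.mul_one, eN8_mul_same, sub_self, Matrix.mul_zero]
  · intro k hk
    rw [mem_stabN8, tvN8_coe]
    refine ⟨?_, ?_⟩
    · rw [Matrix.mul_add, Matrix.mul_one, eN8_mul_ne j j k j hk.symm, add_zero]
    · rw [Matrix.add_mul, Matrix.one_mul, Matrix.mul_sub, Matrix.mul_one, eN8_mul_same]
      abel

theorem card_two_cases8 {F : Type*} [Field F] [Fintype F] [DecidableEq F]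
    (hF : Fintype.card F = 2) : ∀ a : F, a = 0 ∨ a = 1 := by
  intro a
  by_contra h
  push_neg at h
  have h3 : ({0, 1, a} : Finset F).card ≤ Fintype.card F := Finset.card_le_univ _
  rw [Finset.card_insert_of_notMem, Finset.card_insert_of_notMem, Finset.card_singleton, hF] at h3
  · omega
  · rw [Finset.mem_singleton]
    exact fun h' => h.2 h'.symm
  · rw [Finset.mem_insert, Finset.mem_singleton]
    rintro (h' | h')
    · exact zero_ne_one h'
    · exact h.1 h'.symm

/-- An element of `SL_n(F)`, `|F| = 2`, commuting with the transvections `1 + E_{ik}` (`k ≠ i`)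
and `1 + E_{kj}` (`k ≠ j`) is `1` or `1 + E_{ij}`. -/
theorem slN_comm_elem8 {F : Type*} [Field F] {n : ℕ} (h01 : ∀ a : F, a = 0 ∨ a = 1)
    (i j : Fin n) (hij : i ≠ j) (x : LN8 n F)
    (hA : ∀ k : Fin n, i ≠ k → (x : MN8 n F) * eN8 F i k = eN8 F i k * (x : MN8 n F))
    (hB : ∀ k : Fin n, k ≠ j → (x : MN8 n F) * eN8 F k j = eN8 F k j * (x : MN8 n F)) :
    (x : MN8 n F) = 1 ∨ (x : MN8 n F) = 1 + eN8 F i j := by
  have hrow : ∀ k l : Fin n, k ≠ i →
      (x : MN8 n F) k l = if l = k then (x : MN8 n F) i i else 0 := by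
    intro k l hk
    have h := congrFun (congrFun (hA k (Ne.symm hk)) i) l
    have hR : (eN8 F i k * (x : MN8 n F)) i l = (x : MN8 n F) k l := by
      unfold eN8
      rw [Matrix.single_mul_apply_same, one_mul]
    rw [hR] at h
    rw [← h]
    by_cases hl : l = k
    · rw [if_pos hl, hl]
      unfold eN8
      rw [Matrix.mul_single_apply_same, mul_one]
    · rw [if_neg hl]
      unfold eN8
      exact Matrix.mul_single_apply_of_ne (1 : F) i k i l hl _
  have h0 : ∀ k : Fin n, k ≠ i → k ≠ j → (x : MN8 n F) i k = 0 := by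
    intro k hki hkj
    have h := congrFun (congrFun (hB k hkj) i) j
    have hL : ((x : MN8 n F) * eN8 F k j) i j = (x : MN8 n F) i k := by
      unfold eN8
      rw [Matrix.mul_single_apply_same, mul_one]
    have hR : (eN8 F k j * (x : MN8 n F)) i j = 0 := by
      unfold eN8
      exact Matrix.single_mul_apply_of_ne (1 : F) k j i j (Ne.symm hki) _
    rw [hL, hR] at h
    exact h
  have h00 : (x : MN8 n F) i i = 1 := by
    have hinv : (x : MN8 n F) * ((x⁻¹ : LN8 n F) : MN8 n F) = 1 := by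
      rw [← Matrix.SpecialLinearGroup.coe_mul, mul_inv_cancel, Matrix.SpecialLinearGroup.coe_one]
    have h := congrFun (congrFun hinv j) j
    rw [Matrix.mul_apply, Finset.sum_eq_single j, hrow j j hij.symm, if_pos rfl,
      Matrix.one_apply_eq] at h
    · rcases h01 ((x : MN8 n F) i i) with h' | h'
      · rw [h', zero_mul] at h
        exact absurd h zero_ne_one
      · exact h'
    · intro m _ hm
      rw [hrow j m hij.symm, if_neg hm, zero_mul]
    · intro hj
      exact absurd (Finset.mem_univ j) hj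
  have hrow' : ∀ k l : Fin n, k ≠ i → (x : MN8 n F) k l = if k = l then 1 else 0 := by
    intro k l hk
    rw [hrow k l hk, h00]
    by_cases hl : l = k
    · rw [if_pos hl, if_pos hl.symm]
    · rw [if_neg hl, if_neg (fun h => hl h.symm)]
  rcases h01 ((x : MN8 n F) i j) with hij0 | hij1
  · left
    ext k l
    by_cases hk : k = i
    · rw [hk]
      by_cases hli : l = i
      · rw [hli, h00, Matrix.one_apply_eq]
      · by_cases hlj : l = j
        · rw [hlj, hij0, Matrix.one_apply_ne hij]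
        · rw [h0 l hli hlj, Matrix.one_apply_ne (Ne.symm hli)]
    · rw [hrow' k l hk, Matrix.one_apply]
  · right
    ext k l
    rw [Matrix.add_apply, Matrix.one_apply]
    unfold eN8
    rw [Matrix.single_apply]
    by_cases hk : k = i
    · rw [hk]
      by_cases hli : l = i
      · rw [hli, h00, if_pos rfl, if_neg (fun h : i = i ∧ j = i => hij h.2.symm), add_zero]
      · by_cases hlj : l = j
        · rw [hlj, hij1, if_neg hij, if_pos ⟨rfl, rfl⟩, zero_add]
        · rw [h0 l hli hlj, if_neg (Ne.symm hli),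
            if_neg (fun h : i = i ∧ j = l => hlj h.2.symm), add_zero]
    · rw [hrow' k l hk, if_neg (fun h : i = k ∧ j = l => hk h.1.symm), add_zero]

/-- In `SL_n(2)` the centraliser `C` of a transvection satisfies `F*(C) = O₂(C)`. -/
theorem sln_transv_fstar8 {F : Type*} [Field F] [Fintype F] [DecidableEq F]
    (hF : Fintype.card F = 2) (n : ℕ) (i j : Fin n) (hij : i ≠ j)
    (t : Matrix.SpecialLinearGroup (Fin n) F)
    (ht : (t : Matrix (Fin n) (Fin n) F) = Matrix.transvection i j 1) :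
    Cfsg.generalizedFittingSubgroup
        ↥(Subgroup.centralizer ({t} : Set (Matrix.SpecialLinearGroup (Fin n) F))) =
      Cfsg.pCore 2 ↥(Subgroup.centralizer ({t} : Set (Matrix.SpecialLinearGroup (Fin n) F))) := by
  haveI : Fact (Nat.Prime 2) := ⟨Nat.prime_two⟩
  have h2 : ∀ a : F, a + a = 0 := by
    intro a
    have h := Cfsg.Agent.Lib.Helper4.two_eq_zero_of_card_two hF
    rw [← two_mul, h, zero_mul]
  have h01 := card_two_cases8 hF
  apply Cfsg.Agent.Lib.Helper5.genFitting_eq_pCore_of_charP5 2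
  -- normal 2-subgroups lie in the 2-core
  have hkey : ∀ (P E : MN8 n F), P + E = 1 → E * eN8 F i j = eN8 F i j →
      eN8 F i j * P = eN8 F i j →
      (∀ c : MN8 n F, c * eN8 F i j = eN8 F i j * c → P * c * E = 0) →
      ∀ (g : LN8 n F), g ∈ stabN8 P E →
        ∃ hg : g ∈ Subgroup.centralizer ({t} : Set (LN8 n F)),
          (⟨g, hg⟩ : Subgroup.centralizer ({t} : Set (LN8 n F))) ∈
            Cfsg.pCore 2 ↥(Subgroup.centralizer ({t} : Set (LN8 n F))) := by
    intro P E hPE hE1 hP1 hK g hgs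
    obtain ⟨hle, hn, hp⟩ := stabN8_normal_pgroup h2 i j t ht P E hPE hE1 hP1 hK
    refine ⟨hle hgs, ?_⟩
    have hle2 : (stabN8 P E).subgroupOf (Subgroup.centralizer ({t} : Set (LN8 n F))) ≤
        Cfsg.pCore 2 ↥(Subgroup.centralizer ({t} : Set (LN8 n F))) :=
      le_sSup ⟨hn, hp⟩
    apply hle2
    rw [Subgroup.mem_subgroupOf]
    exact hgs
  obtain ⟨hA1, hA2, hA3, hA4, hA5⟩ := dataAN8 (F := F) i j hij
  obtain ⟨hB1, hB2, hB3, hB4, hB5⟩ := dataBN8 (F := F) i j hij
  intro x hx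
  have hxc := Subgroup.mem_centralizer_iff.mp hx
  have hmat : (((x : Subgroup.centralizer ({t} : Set (LN8 n F))) : LN8 n F) : MN8 n F) = 1 ∨
      (((x : Subgroup.centralizer ({t} : Set (LN8 n F))) : LN8 n F) : MN8 n F) = 1 + eN8 F i j := by
    apply slN_comm_elem8 h01 i j hij
    · intro k hk
      obtain ⟨hg, hT⟩ := hkey _ _ hA1 hA2 hA3 hA4 _ (hA5 k hk)
      have h1 := congrArg Subtype.val (hxc _ hT)
      exact tvN8_comm hk h1
    · intro k hk
      obtain ⟨hg, hT⟩ := hkey _ _ hB1 hB2 hB3 hB4 _ (hB5 k hk)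
      have h1 := congrArg Subtype.val (hxc _ hT)
      exact tvN8_comm hk h1
  rcases hmat with h | h
  · have hx1 : x = 1 := by
      apply Subtype.ext
      apply Subtype.ext
      exact h
    rw [hx1]
    exact Subgroup.one_mem _
  · obtain ⟨hg, hT⟩ := hkey _ _ hA1 hA2 hA3 hA4 _ (hA5 j hij)
    have hx1 : x = ⟨tvN8 F i j hij, hg⟩ := by
      apply Subtype.ext
      apply Subtype.ext
      exact h
    rw [hx1]
    exact hT

end Cfsg.Agent.Lib.Helper8
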